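import Mathlib
import Cfsg.Agent.S0263

set_option linter.unusedSimpArgs false

namespace Cfsg.Agent.Lib.Helper18

open Matrix

variable {F : Type*} [Field F]

/-- `[[1,x],[0,1]]` in GL2 -/
noncomputable def T2 (x : F) : GL (Fin 2) F :=
  Matrix.GeneralLinearGroup.mkOfDetNeZero !![1, x; 0, 1] (by simp [Matrix.det_fin_two])

lemma T2_coe (x : F) : ((T2 x : GL (Fin 2) F) : Matrix (Fin 2) (Fin 2) F) = !![1, x; 0, 1] := rfl

lemma T2_add (x y : F) : T2 (x + y) = T2 x * T2 y := by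
  apply Units.ext
  simp only [Units.val_mul, T2_coe]
  ext i j
  fin_cases i <;> fin_cases j <;> simp [Matrix.mul_apply, Fin.sum_univ_two, add_comm]

lemma T2_zero : T2 (0 : F) = 1 := by
  apply Units.ext
  simp only [T2_coe]
  ext i j
  fin_cases i <;> fin_cases j <;> simp

lemma T2_injective : Function.Injective (T2 : F → GL (Fin 2) F) := by
  intro x y h
  have := congrArg (fun g : GL (Fin 2) F => (g : Matrix (Fin 2) (Fin 2) F) 0 1) h
  simpa [T2_coe] using this

noncomputable def T2hom : Multiplicative F →* GL (Fin 2) F where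
  toFun x := T2 (Multiplicative.toAdd x)
  map_one' := T2_zero
  map_mul' _ _ := T2_add _ _

/-- upper unitriangular subgroup -/
noncomputable def U2 : Subgroup (GL (Fin 2) F) := (T2hom (F := F)).range

lemma mem_U2 {g : GL (Fin 2) F} : g ∈ (U2 : Subgroup (GL (Fin 2) F)) ↔ ∃ x : F, T2 x = g := by
  constructor
  · rintro ⟨x, rfl⟩; exact ⟨_, rfl⟩
  · rintro ⟨x, rfl⟩; exact ⟨Multiplicative.ofAdd x, rfl⟩

lemma card_U2 : Nat.card (U2 : Subgroup (GL (Fin 2) F)) = Nat.card F := by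
  have hinj : Function.Injective (T2hom (F := F)) := fun x y h =>
    Multiplicative.toAdd.injective (T2_injective (F := F) h)
  rw [U2, Nat.card_congr (MonoidHom.ofInjective hinj).symm.toEquiv]
  rfl

lemma mul_T2_entries (g : GL (Fin 2) F) (x : F) :
    ((g * T2 x : GL (Fin 2) F) : Matrix (Fin 2) (Fin 2) F) =
      !![g 0 0, g 0 0 * x + g 0 1; g 1 0, g 1 0 * x + g 1 1] := by
  simp only [Units.val_mul, T2_coe]
  ext i j
  fin_cases i <;> fin_cases j <;> simp [Matrix.mul_apply, Fin.sum_univ_two]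

lemma T2_mul_entries (g : GL (Fin 2) F) (y : F) :
    ((T2 y * g : GL (Fin 2) F) : Matrix (Fin 2) (Fin 2) F) =
      !![g 0 0 + y * g 1 0, g 0 1 + y * g 1 1; g 1 0, g 1 1] := by
  simp only [Units.val_mul, T2_coe]
  ext i j
  fin_cases i <;> fin_cases j <;> simp [Matrix.mul_apply, Fin.sum_univ_two]

lemma comm_T2 {g : GL (Fin 2) F} {x y : F} (h : g * T2 x = T2 y * g) :
    g 1 0 * x = 0 ∧ y * g 1 0 = 0 ∧ g 0 0 * x = y * g 1 1 := by
  have h' := congrArg (fun g : GL (Fin 2) F => (g : Matrix (Fin 2) (Fin 2) F)) h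
  simp only [mul_T2_entries, T2_mul_entries] at h'
  have h00 := congrFun (congrFun h' 0) 0
  have h01 := congrFun (congrFun h' 0) 1
  have h11 := congrFun (congrFun h' 1) 1
  simp at h00 h01 h11
  refine ⟨?_, ?_, ?_⟩
  · rcases h11 with h | h <;> simp [h]
  · rcases h00 with h | h <;> simp [h]
  · linear_combination h01

lemma det_GL2 (g : GL (Fin 2) F) : g 0 0 * g 1 1 - g 0 1 * g 1 0 ≠ 0 := by
  have := g.det.ne_zero
  rwa [Matrix.GeneralLinearGroup.val_det_apply, Matrix.det_fin_two] at this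

lemma conj_T2_of_upper {g : GL (Fin 2) F} (hg : g 1 0 = 0) (x : F) :
    g * T2 x * g⁻¹ = T2 (g 0 0 * x / g 1 1) := by
  have hd := det_GL2 g
  rw [hg, mul_zero, sub_zero] at hd
  have hd1 : g 1 1 ≠ 0 := right_ne_zero_of_mul hd
  rw [mul_inv_eq_iff_eq_mul]
  apply Units.ext
  rw [mul_T2_entries, T2_mul_entries, hg]
  ext i j
  fin_cases i <;> fin_cases j <;> simp
  field_simp
  ring

lemma mem_normalizer_U2 {g : GL (Fin 2) F} :
    g ∈ Subgroup.normalizer ((U2 : Subgroup (GL (Fin 2) F)) : Set (GL (Fin 2) F)) ↔ g 1 0 = 0 := by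
  constructor
  · intro h
    rw [Subgroup.mem_normalizer_iff] at h
    have h1 := (h (T2 1)).mp (mem_U2.mpr ⟨1, rfl⟩)
    obtain ⟨y, hy⟩ := mem_U2.mp h1
    have := comm_T2 (g := g) (x := 1) (y := y) (by rw [hy]; group)
    simpa using this.1
  · intro hg
    rw [Subgroup.mem_normalizer_iff]
    intro h
    have hd := det_GL2 g
    rw [hg, mul_zero, sub_zero] at hd
    have hd1 : g 1 1 ≠ 0 := right_ne_zero_of_mul hd
    have hd0 : g 0 0 ≠ 0 := left_ne_zero_of_mul hd
    constructor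
    · intro hh
      obtain ⟨x, rfl⟩ := mem_U2.mp hh
      rw [conj_T2_of_upper hg]
      exact mem_U2.mpr ⟨_, rfl⟩
    · intro hh
      obtain ⟨y, hy⟩ := mem_U2.mp hh
      have : h = T2 (g 1 1 * y / g 0 0) := by
        have h2 := conj_T2_of_upper hg (g 1 1 * y / g 0 0)
        have h3 : g 0 0 * (g 1 1 * y / g 0 0) / g 1 1 = y := by field_simp
        rw [h3, hy] at h2
        have h4 := mul_right_cancel h2
        exact (mul_left_cancel h4).symm
      rw [this]
      exact mem_U2.mpr ⟨_, rfl⟩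

/-- Borel subgroup as a type is `Fˣ × Fˣ × F` -/
noncomputable def B2equiv : {g : GL (Fin 2) F // g 1 0 = 0} ≃ Fˣ × Fˣ × F where
  toFun g := (Units.mk0 (g.1 0 0) (by
      have hd := det_GL2 g.1
      rw [g.2, mul_zero, sub_zero] at hd
      exact left_ne_zero_of_mul hd), Units.mk0 (g.1 1 1) (by
      have hd := det_GL2 g.1
      rw [g.2, mul_zero, sub_zero] at hd
      exact right_ne_zero_of_mul hd), g.1 0 1)
  invFun t := ⟨Matrix.GeneralLinearGroup.mkOfDetNeZero !![(t.1 : F), t.2.2; 0, (t.2.1 : F)]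
    (by simp [Matrix.det_fin_two]), by simp [Matrix.GeneralLinearGroup.mkOfDetNeZero]⟩
  left_inv g := by
    apply Subtype.ext
    apply Units.ext
    ext i j
    fin_cases i <;> fin_cases j <;> simp [Matrix.GeneralLinearGroup.mkOfDetNeZero, g.2]
  right_inv t := by
    obtain ⟨a, d, b⟩ := t
    simp [Matrix.GeneralLinearGroup.mkOfDetNeZero, Prod.ext_iff, Units.ext_iff]

lemma card_normalizer_U2 [Fintype F] :
    Nat.card (Subgroup.normalizer ((U2 : Subgroup (GL (Fin 2) F)) : Set (GL (Fin 2) F)))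
      = Fintype.card F * (Fintype.card F - 1) ^ 2 := by
  classical
  have e : (Subgroup.normalizer ((U2 : Subgroup (GL (Fin 2) F)) : Set (GL (Fin 2) F)))
      ≃ {g : GL (Fin 2) F // g 1 0 = 0} := Equiv.subtypeEquivRight (fun g => mem_normalizer_U2)
  rw [Nat.card_congr (e.trans B2equiv), Nat.card_prod, Nat.card_prod, Nat.card_eq_fintype_card,
    Nat.card_eq_fintype_card, Fintype.card_units]
  ring

lemma card_GL2 [Fintype F] :
    Nat.card (GL (Fin 2) F) = (Fintype.card F + 1) * (Fintype.card F * (Fintype.card F - 1) ^ 2) := by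
  rw [Matrix.card_GL_field, Fin.prod_univ_two]
  obtain ⟨k, hk⟩ : ∃ k, Fintype.card F = k + 1 := ⟨Fintype.card F - 1, by
    have := Fintype.card_pos (α := F); omega⟩
  rw [hk]
  simp only [Fin.val_zero, Fin.val_one, pow_zero, pow_one, Nat.add_sub_cancel]
  have h1 : (k + 1) ^ 2 - 1 = k * (k + 2) := by
    apply Nat.sub_eq_of_eq_add; ring
  have h2 : (k + 1) ^ 2 - (k + 1) = k * (k + 1) := by
    apply Nat.sub_eq_of_eq_add; ring
  rw [h1, h2]
  ring

section sylow

variable [Fintype F] (p : ℕ) [Fact p.Prime] [CharP F p]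

/-- U2 as a Sylow subgroup -/
theorem exists_sylow_eq_U2 : ∃ Q : Sylow p (GL (Fin 2) F), (Q : Subgroup (GL (Fin 2) F)) = U2 := by
  obtain ⟨f, hp, hq⟩ := FiniteField.card F p
  have hU : IsPGroup p (U2 : Subgroup (GL (Fin 2) F)) := by
    apply IsPGroup.of_card (n := f)
    rw [card_U2, Nat.card_eq_fintype_card, hq]
  obtain ⟨Q, hQ⟩ := hU.exists_le_sylow
  refine ⟨Q, (Subgroup.eq_of_le_of_card_ge hQ ?_).symm⟩
  have := Cfsg.Agent.S0263.result (F := F) rfl p 2 Q
  rw [card_U2, Nat.card_eq_fintype_card (α := F)]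
  simpa using this.le

theorem exists_conj_U2 (P : Sylow p (GL (Fin 2) F)) :
    ∃ g : GL (Fin 2) F, ∀ h, h ∈ P ↔ g⁻¹ * h * g ∈ (U2 : Subgroup (GL (Fin 2) F)) := by
  obtain ⟨Q, hQ⟩ := exists_sylow_eq_U2 (F := F) p
  obtain ⟨g, hg⟩ := MulAction.exists_smul_eq (GL (Fin 2) F) Q P
  refine ⟨g, fun h => ?_⟩
  rw [← hQ, ← hg]
  change h ∈ ((g • Q : Sylow p (GL (Fin 2) F)) : Subgroup (GL (Fin 2) F)) ↔ _
  rw [Sylow.coe_subgroup_smul, Subgroup.mem_pointwise_smul_iff_inv_smul_mem]
  simp [MulAut.smul_def]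

theorem card_sylow_GL2 : Nat.card (Sylow p (GL (Fin 2) F)) = Fintype.card F + 1 := by
  obtain ⟨Q, hQ⟩ := exists_sylow_eq_U2 (F := F) p
  have h1 : Nat.card (Sylow p (GL (Fin 2) F)) = (Subgroup.normalizer ((Q : Subgroup (GL (Fin 2) F)) : Set (GL (Fin 2) F))).index := Sylow.card_eq_index_normalizer Q
  have h2 := Subgroup.card_mul_index (Subgroup.normalizer ((Q : Subgroup (GL (Fin 2) F)) : Set (GL (Fin 2) F)))
  rw [← h1, hQ, card_normalizer_U2, card_GL2, mul_comm] at h2
  have hpos : 0 < Fintype.card F * (Fintype.card F - 1) ^ 2 := by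
    have := Fintype.one_lt_card (α := F)
    have h3 : 0 < Fintype.card F - 1 := by omega
    positivity
  exact Nat.eq_of_mul_eq_mul_right hpos h2

theorem card_normalizer_sylow_GL2 (P : Sylow p (GL (Fin 2) F)) :
    Nat.card (Subgroup.normalizer ((P : Subgroup (GL (Fin 2) F)) : Set (GL (Fin 2) F)))
      = Fintype.card F * (Fintype.card F - 1) ^ 2 := by
  have h1 : Nat.card (Sylow p (GL (Fin 2) F)) = (Subgroup.normalizer ((P : Subgroup (GL (Fin 2) F)) : Set (GL (Fin 2) F))).index := Sylow.card_eq_index_normalizer P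
  have h2 := Subgroup.card_mul_index (Subgroup.normalizer ((P : Subgroup (GL (Fin 2) F)) : Set (GL (Fin 2) F)))
  rw [← h1, card_sylow_GL2, card_GL2, mul_comm] at h2
  exact Nat.eq_of_mul_eq_mul_left (Nat.succ_pos _) h2

end sylow

end Cfsg.Agent.Lib.Helper18
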