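import Mathlib
import Cfsg.Agent.Lib.Helper18.SLCard

set_option linter.unusedSimpArgs false

namespace Cfsg.Agent.Lib.Helper18

open Matrix Matrix.SpecialLinearGroup

variable {F : Type*} [Field F]

local notation "SL2" => Matrix.SpecialLinearGroup (Fin 2) F

/-- `[[1,x],[0,1]]` in SL2 -/
noncomputable def TS (x : F) : SL2 := SpecialLinearGroup.transvection zero_ne_one x
/-- `[[1,0],[y,1]]` in SL2 -/
noncomputable def LS (y : F) : SL2 := SpecialLinearGroup.transvection one_ne_zero y

lemma TS_coe (x : F) : ((TS x : SL2) : Matrix (Fin 2) (Fin 2) F) = !![1, x; 0, 1] := by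
  rw [TS, transvection_coe]
  ext i j
  fin_cases i <;> fin_cases j <;> simp

lemma LS_coe (x : F) : ((LS x : SL2) : Matrix (Fin 2) (Fin 2) F) = !![1, 0; x, 1] := by
  rw [LS, transvection_coe]
  ext i j
  fin_cases i <;> fin_cases j <;> simp

lemma TS_injective : Function.Injective (TS : F → SL2) := by
  intro x y h
  have := congrArg (fun g : SL2 => (g : Matrix (Fin 2) (Fin 2) F) 0 1) h
  simpa [TS_coe] using this

noncomputable def TShom : Multiplicative F →* SL2 where
  toFun x := TS (Multiplicative.toAdd x)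
  map_one' := transvection_coeff_zero _
  map_mul' _ _ := transvection_add _ _ _

noncomputable def US : Subgroup SL2 := (TShom (F := F)).range

lemma mem_US {g : SL2} : g ∈ (US : Subgroup SL2) ↔ ∃ x : F, TS x = g := by
  constructor
  · rintro ⟨x, rfl⟩; exact ⟨_, rfl⟩
  · rintro ⟨x, rfl⟩; exact ⟨Multiplicative.ofAdd x, rfl⟩

lemma card_US : Nat.card (US : Subgroup SL2) = Nat.card F := by
  have hinj : Function.Injective (TShom (F := F)) := fun x y h =>
    Multiplicative.toAdd.injective (TS_injective (F := F) h)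
  rw [US, Nat.card_congr (MonoidHom.ofInjective hinj).symm.toEquiv]
  rfl

lemma det_SL2 (g : SL2) : g 0 0 * g 1 1 - g 0 1 * g 1 0 = 1 := by
  have := g.det_coe
  rwa [Matrix.det_fin_two] at this

lemma mul_TS_entries (g : SL2) (x : F) :
    ((g * TS x : SL2) : Matrix (Fin 2) (Fin 2) F) =
      !![g 0 0, g 0 0 * x + g 0 1; g 1 0, g 1 0 * x + g 1 1] := by
  simp only [coe_mul, TS_coe]
  ext i j
  fin_cases i <;> fin_cases j <;> simp [Matrix.mul_apply, Fin.sum_univ_two]

lemma TS_mul_entries (g : SL2) (y : F) :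
    ((TS y * g : SL2) : Matrix (Fin 2) (Fin 2) F) =
      !![g 0 0 + y * g 1 0, g 0 1 + y * g 1 1; g 1 0, g 1 1] := by
  simp only [coe_mul, TS_coe]
  ext i j
  fin_cases i <;> fin_cases j <;> simp [Matrix.mul_apply, Fin.sum_univ_two]

lemma LS_mul_entries (g : SL2) (y : F) :
    ((LS y * g : SL2) : Matrix (Fin 2) (Fin 2) F) =
      !![g 0 0, g 0 1; y * g 0 0 + g 1 0, y * g 0 1 + g 1 1] := by
  simp only [coe_mul, LS_coe]
  ext i j
  fin_cases i <;> fin_cases j <;> simp [Matrix.mul_apply, Fin.sum_univ_two]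

/-- upper triangular elements normalize US -/
lemma conj_TS_of_upper {g : SL2} (hg : g 1 0 = 0) (x : F) :
    g * TS x * g⁻¹ = TS (g 0 0 * x / g 1 1) := by
  have hd := det_SL2 g
  rw [hg, mul_zero, sub_zero] at hd
  have hd1 : g 1 1 ≠ 0 := by
    intro h; rw [h, mul_zero] at hd; exact zero_ne_one hd
  rw [mul_inv_eq_iff_eq_mul]
  apply Subtype.ext
  rw [mul_TS_entries, TS_mul_entries, hg]
  ext i j
  fin_cases i <;> fin_cases j <;> simp
  field_simp
  ring

lemma key_identity (m : SL2) (hc : m 1 0 ≠ 0) (y : F) :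
    TS (-(m 0 0) / m 1 0) * m * TS (-y / (m 1 0) ^ 2) = LS y * (TS (-(m 0 0) / m 1 0) * m) := by
  have hd := det_SL2 m
  apply Subtype.ext
  rw [mul_TS_entries, LS_mul_entries]
  have e00 : (TS (-(m 0 0) / m 1 0) * m) 0 0 = 0 := by
    have := congrFun (congrFun (TS_mul_entries m (-(m 0 0) / m 1 0)) 0) 0
    rw [this]; simp; field_simp; ring
  have e01 : (TS (-(m 0 0) / m 1 0) * m) 0 1 = - 1 / m 1 0 := by
    have := congrFun (congrFun (TS_mul_entries m (-(m 0 0) / m 1 0)) 0) 1
    rw [this]; simp; field_simp; linear_combination -hd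
  have e10 : (TS (-(m 0 0) / m 1 0) * m) 1 0 = m 1 0 := by
    have := congrFun (congrFun (TS_mul_entries m (-(m 0 0) / m 1 0)) 1) 0
    rw [this]; simp
  have e11 : (TS (-(m 0 0) / m 1 0) * m) 1 1 = m 1 1 := by
    have := congrFun (congrFun (TS_mul_entries m (-(m 0 0) / m 1 0)) 1) 1
    rw [this]; simp
  rw [e00, e01, e10, e11]
  ext i j
  fin_cases i <;> fin_cases j <;> simp
  field_simp

end Cfsg.Agent.Lib.Helper18
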