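import Mathlib
import Cfsg.Agent.Lib.Helper18.SL2
import Cfsg.Agent.Lib.Helper18.GL2

set_option linter.unusedSimpArgs false

namespace Cfsg.Agent.Lib.Helper18

open Matrix Matrix.SpecialLinearGroup

variable {F : Type*} [Field F]

local notation "SL2" => Matrix.SpecialLinearGroup (Fin 2) F

theorem sylow_card_of_card_eq {G : Type*} [Group G] [Finite G] {p : ℕ} [Fact p.Prime] {f m : ℕ}
    (h : Nat.card G = p ^ f * m) (hm : ¬ p ∣ m) (P : Sylow p G) : Nat.card P = p ^ f := by
  have hp := Fact.out (p := p.Prime)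
  have hm0 : m ≠ 0 := by rintro rfl; exact hm (dvd_zero p)
  rw [Sylow.card_eq_multiplicity, h, Nat.factorization_mul (pow_ne_zero _ hp.ne_zero) hm0,
    Finsupp.add_apply, Nat.factorization_eq_zero_of_not_dvd hm, add_zero,
    Nat.Prime.factorization_pow hp]
  simp

lemma card_SL2 [Fintype F] :
    Nat.card SL2 = Fintype.card F * ((Fintype.card F + 1) * (Fintype.card F - 1)) := by
  have h1 := card_GL_eq (n := Fin 2) (F := F)
  rw [card_GL2] at h1
  have hpos : 0 < Fintype.card F - 1 := by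
    have := Fintype.one_lt_card (α := F); omega
  apply Nat.eq_of_mul_eq_mul_left hpos
  rw [← h1]; ring

section sylow

variable [Fintype F] (p : ℕ) [Fact p.Prime] [CharP F p]

theorem card_sylow_SL2 (P : Sylow p SL2) : Nat.card P = Fintype.card F := by
  obtain ⟨f, hp, hq⟩ := FiniteField.card F p
  have h1 := card_SL2 (F := F)
  have hpq : p ∣ Fintype.card F := by rw [hq]; exact dvd_pow_self p f.pos.ne'
  have hm : ¬ p ∣ (Fintype.card F + 1) * (Fintype.card F - 1) := by
    intro hd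
    rcases (Nat.Prime.dvd_mul hp).mp hd with h | h
    · have := (Nat.dvd_add_right hpq).mp h
      exact hp.one_lt.ne' (Nat.dvd_one.mp this)
    · have h2 : 1 ≤ Fintype.card F := Fintype.card_pos
      have := Nat.dvd_sub hpq h
      rw [Nat.sub_sub_self h2] at this
      exact hp.one_lt.ne' (Nat.dvd_one.mp this)
  rw [hq] at h1 hm ⊢
  exact sylow_card_of_card_eq h1 hm P

theorem exists_sylow_eq_US : ∃ Q : Sylow p SL2, (Q : Subgroup SL2) = US := by
  obtain ⟨f, hp, hq⟩ := FiniteField.card F p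
  have hU : IsPGroup p (US : Subgroup SL2) := by
    apply IsPGroup.of_card (n := f)
    rw [card_US, Nat.card_eq_fintype_card, hq]
  obtain ⟨Q, hQ⟩ := hU.exists_le_sylow
  refine ⟨Q, (Subgroup.eq_of_le_of_card_ge hQ ?_).symm⟩
  rw [card_US, Nat.card_eq_fintype_card (α := F)]
  exact (card_sylow_SL2 p Q).le

theorem exists_conj_US (P : Sylow p SL2) :
    ∃ g : SL2, ∀ h, h ∈ P ↔ g⁻¹ * h * g ∈ (US : Subgroup SL2) := by
  obtain ⟨Q, hQ⟩ := exists_sylow_eq_US (F := F) p
  obtain ⟨g, hg⟩ := MulAction.exists_smul_eq SL2 Q P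
  refine ⟨g, fun h => ?_⟩
  rw [← hQ, ← hg]
  change h ∈ ((g • Q : Sylow p SL2) : Subgroup SL2) ↔ _
  rw [Sylow.coe_subgroup_smul, Subgroup.mem_pointwise_smul_iff_inv_smul_mem]
  simp [MulAut.smul_def]

theorem sylow_SL2_sup_eq_top (P Q : Sylow p SL2) (h : P ≠ Q) :
    (P : Subgroup SL2) ⊔ (Q : Subgroup SL2) = ⊤ := by
  obtain ⟨g, hg⟩ := exists_conj_US p P
  obtain ⟨k, hk⟩ := exists_conj_US p Q
  have hm : (g⁻¹ * k) 1 0 ≠ 0 := by
    intro h0
    apply h
    -- sizes agree so it suffices to prove one inclusion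
    have hle : (Q : Subgroup SL2) ≤ P := by
      intro x hx
      obtain ⟨z, hz⟩ := mem_US.mp ((hk x).mp hx)
      apply (hg x).mpr
      have h1 := conj_TS_of_upper h0 z
      have h2 : g⁻¹ * x * g = g⁻¹ * k * (k⁻¹ * x * k) * (g⁻¹ * k)⁻¹ := by group
      rw [h2, ← hz, h1]
      exact mem_US.mpr ⟨_, rfl⟩
    have := Subgroup.eq_of_le_of_card_ge hle (by
      rw [card_sylow_SL2 p P, card_sylow_SL2 p Q])
    exact (Sylow.ext this).symm
  set m := g⁻¹ * k with hmdef
  rw [eq_top_iff]
  intro A _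
  have key : ∀ A : SL2, g * A * g⁻¹ ∈ (P : Subgroup SL2) ⊔ (Q : Subgroup SL2) := by
    intro A
    refine SL2.transvection_induction
      (fun A => g * A * g⁻¹ ∈ (P : Subgroup SL2) ⊔ (Q : Subgroup SL2)) ?_ ?_ A
    · have hT : ∀ x : F, g * TS x * g⁻¹ ∈ (P : Subgroup SL2) ⊔ (Q : Subgroup SL2) := by
        intro x
        apply Subgroup.mem_sup_left
        apply (hg _).mpr
        have : g⁻¹ * (g * TS x * g⁻¹) * g = TS x := by group
        rw [this]
        exact mem_US.mpr ⟨_, rfl⟩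
      have hT' : ∀ x : F, k * TS x * k⁻¹ ∈ (P : Subgroup SL2) ⊔ (Q : Subgroup SL2) := by
        intro x
        apply Subgroup.mem_sup_right
        apply (hk _).mpr
        have : k⁻¹ * (k * TS x * k⁻¹) * k = TS x := by group
        rw [this]
        exact mem_US.mpr ⟨_, rfl⟩
      intro i j hij c
      fin_cases i <;> fin_cases j
      · exact absurd rfl hij
      · exact hT c
      · change g * LS c * g⁻¹ ∈ _
        have hkey := key_identity m hm c
        have h1 : LS c = TS (-(m 0 0) / m 1 0) * (m * TS (-c / (m 1 0) ^ 2) * m⁻¹) *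
            (TS (-(m 0 0) / m 1 0))⁻¹ := by
          have : LS c = (LS c * (TS (-(m 0 0) / m 1 0) * m)) * (TS (-(m 0 0) / m 1 0) * m)⁻¹ := by
            group
          rw [this, ← hkey]; group
        have h2 : g * LS c * g⁻¹ = (g * TS (-(m 0 0) / m 1 0) * g⁻¹) *
            (k * TS (-c / (m 1 0) ^ 2) * k⁻¹) * (g * TS (-(m 0 0) / m 1 0) * g⁻¹)⁻¹ := by
          rw [h1]
          generalize TS (-(m 0 0) / m 1 0) = u
          generalize TS (-c / (m 1 0) ^ 2) = t
          rw [hmdef]; group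
        rw [h2]
        exact mul_mem (mul_mem (hT _) (hT' _)) (inv_mem (hT _))
      · exact absurd rfl hij
    · intro A B hA hB
      have : g * (A * B) * g⁻¹ = (g * A * g⁻¹) * (g * B * g⁻¹) := by group
      simp only [this]
      exact mul_mem hA hB
  have := key (g⁻¹ * A * g)
  have h3 : g * (g⁻¹ * A * g) * g⁻¹ = A := by group
  rwa [h3] at this

end sylow

end Cfsg.Agent.Lib.Helper18
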