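import Mathlib
import Cfsg.Prelude.Def_LieClassical
import Cfsg.Agent.Lib.Helper18.Herm3

set_option linter.unusedSimpArgs false
set_option linter.unusedSectionVars false

namespace Cfsg.Agent.Lib.Helper18

open Matrix

section elems

variable {F : Type*} [Field F] {q : ℕ} {n : ℕ}

theorem herm_diag_preserve (d : Fin n → F) (hd : ∀ i, d i ^ (q + 1) = 1) (u v : Fin n → F) :
    Cfsg.hermForm n F q (Matrix.diagonal d *ᵥ u) (Matrix.diagonal d *ᵥ v)
      = Cfsg.hermForm n F q u v := by
  unfold Cfsg.hermForm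
  apply Finset.sum_congr rfl
  intro i _
  rw [Matrix.mulVec_diagonal, Matrix.mulVec_diagonal, mul_pow]
  have := hd i
  rw [pow_succ'] at this
  calc d i * u i * (d i ^ q * v i ^ q) = (d i * d i ^ q) * (u i * v i ^ q) := by ring
    _ = u i * v i ^ q := by rw [this, one_mul]

theorem herm_perm_preserve (σ : Equiv.Perm (Fin n)) (u v : Fin n → F) :
    Cfsg.hermForm n F q (σ.permMatrix F *ᵥ u) (σ.permMatrix F *ᵥ v)
      = Cfsg.hermForm n F q u v := by
  unfold Cfsg.hermForm
  rw [Matrix.permMatrix_mulVec, Matrix.permMatrix_mulVec]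
  exact Equiv.sum_comp σ (fun i => u i * v i ^ q)

theorem herm_mul_preserve {A B : Matrix (Fin n) (Fin n) F}
    (hA : ∀ u v, Cfsg.hermForm n F q (A *ᵥ u) (A *ᵥ v) = Cfsg.hermForm n F q u v)
    (hB : ∀ u v, Cfsg.hermForm n F q (B *ᵥ u) (B *ᵥ v) = Cfsg.hermForm n F q u v) (u v : Fin n → F) :
    Cfsg.hermForm n F q ((A * B) *ᵥ u) ((A * B) *ᵥ v) = Cfsg.hermForm n F q u v := by
  rw [← Matrix.mulVec_mulVec, ← Matrix.mulVec_mulVec, hA, hB]

theorem det_diag_update (a : Fin n) (l : F) :
    (Matrix.diagonal (Function.update (1 : Fin n → F) a l)).det = l := by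
  rw [Matrix.det_diagonal, Finset.prod_update_of_mem (Finset.mem_univ a)]
  simp

/-- package a matrix as an element of `SU` -/
def mkSU (A : Matrix (Fin n) (Fin n) F) (hdet : A.det = 1)
    (hA : ∀ u v, Cfsg.hermForm n F q (A *ᵥ u) (A *ᵥ v) = Cfsg.hermForm n F q u v) :
    Cfsg.SU n F q := ⟨⟨A, hdet⟩, hA⟩

theorem mkSU_coe (A : Matrix (Fin n) (Fin n) F) (hdet : A.det = 1)
    (hA : ∀ u v, Cfsg.hermForm n F q (A *ᵥ u) (A *ᵥ v) = Cfsg.hermForm n F q u v) :
    ((mkSU A hdet hA).1 : Matrix (Fin n) (Fin n) F) = A := rfl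

variable [Fintype F] (hF : Fintype.card F = q ^ 2)

/-- `x ↦ x ^ q` as a ring homomorphism -/
def hermFrob : F →+* F where
  toFun x := x ^ q
  map_one' := one_pow q
  map_mul' x y := mul_pow x y q
  map_zero' := zero_pow (by have := herm_q_pos hF; omega)
  map_add' := herm_add_pow hF

include hF

theorem herm_det_map (A : Matrix (Fin n) (Fin n) F) : (A.map (· ^ q)).det = A.det ^ q :=
  ((hermFrob hF).map_det A).symm

theorem herm_det_pow {A : Matrix (Fin n) (Fin n) F} (hA : Aᵀ * A.map (· ^ q) = 1) :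
    A.det ^ (q + 1) = 1 := by
  have := congrArg Matrix.det hA
  rw [Matrix.det_mul, Matrix.det_transpose, herm_det_map hF, Matrix.det_one] at this
  rw [pow_succ', this]

theorem card_GU_eq_SU (hn : 1 ≤ n) :
    Nat.card (Cfsg.GU n F q) = (q + 1) * Nat.card (Cfsg.SU n F q) := by
  let φ : Cfsg.GU n F q →* Fˣ := Matrix.GeneralLinearGroup.det.comp (Cfsg.GU n F q).subtype
  have h1 := Subgroup.card_mul_index φ.ker
  rw [Subgroup.index_ker] at h1
  have h2 : Nat.card φ.range = q + 1 := by
    rw [← herm_card_norm_one hF]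
    apply Nat.card_congr
    refine Equiv.ofBijective (fun x => ⟨(x.1 : F), ?_⟩) ⟨?_, ?_⟩
    · obtain ⟨g, hg⟩ := x.2
      rw [← hg]
      exact herm_det_pow hF ((mem_GU_iff hF g.1).mp g.2)
    · intro x y h
      apply Subtype.ext
      apply Units.ext
      exact congrArg Subtype.val h
    · rintro ⟨a, ha⟩
      have hdet := det_diag_update (n := n) ⟨0, hn⟩ a
      have ha0 : a ≠ 0 := by
        rintro rfl
        simp at ha
      have hpres : ∀ u v, Cfsg.hermForm n F q
          (Matrix.diagonal (Function.update (1 : Fin n → F) ⟨0, hn⟩ a) *ᵥ u)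
          (Matrix.diagonal (Function.update (1 : Fin n → F) ⟨0, hn⟩ a) *ᵥ v)
            = Cfsg.hermForm n F q u v := by
        apply herm_diag_preserve
        intro i
        by_cases hi : i = ⟨0, hn⟩
        · subst hi; simpa using ha
        · simp [Function.update_of_ne hi]
      let g : Cfsg.GU n F q := ⟨Matrix.GeneralLinearGroup.mkOfDetNeZero
        (Matrix.diagonal (Function.update (1 : Fin n → F) ⟨0, hn⟩ a)) (by rw [hdet]; exact ha0), hpres⟩
      refine ⟨⟨φ g, g, rfl⟩, ?_⟩
      apply Subtype.ext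
      exact hdet
  have h3 : Nat.card φ.ker = Nat.card (Cfsg.SU n F q) := by
    symm
    apply Nat.card_congr
    refine Equiv.ofBijective (fun s => ⟨⟨Matrix.SpecialLinearGroup.toGL s.1, s.2⟩, ?_⟩) ⟨?_, ?_⟩
    · rw [MonoidHom.mem_ker]
      apply Units.ext
      exact s.1.2
    · intro s t h
      apply Subtype.ext
      apply Subtype.ext
      have := congrArg (fun x => ((x.1.1 : GL (Fin n) F) : Matrix (Fin n) (Fin n) F)) h
      exact this
    · rintro ⟨⟨g, hg⟩, hk⟩
      rw [MonoidHom.mem_ker] at hk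
      have hd : (g : Matrix (Fin n) (Fin n) F).det = 1 := congrArg Units.val hk
      refine ⟨⟨⟨(g : Matrix (Fin n) (Fin n) F), hd⟩, hg⟩, ?_⟩
      apply Subtype.ext
      apply Subtype.ext
      apply Units.ext
      rfl
  rw [← h1, h2, h3, mul_comm]

end elems

end Cfsg.Agent.Lib.Helper18
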