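import Mathlib
import Cfsg.Prelude.Def_ClassicalGeometry
set_option autoImplicit false

/-! Counting block-triangular invertible matrices. -/

namespace Cfsg.Agent.Lib.Helper18

open Matrix

variable {F : Type*} [Field F]

/-- GL as matrices with nonzero determinant. -/
noncomputable def glEquivDet (ι : Type*) [Fintype ι] [DecidableEq ι] :
    Matrix.GeneralLinearGroup ι F ≃ {M : Matrix ι ι F // M.det ≠ 0} where
  toFun g := ⟨g.1, ((Matrix.isUnit_iff_isUnit_det _).1 g.isUnit).ne_zero⟩
  invFun M := Matrix.GeneralLinearGroup.mkOfDetNeZero M.1 M.2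
  left_inv g := by ext; rfl
  right_inv M := by ext; rfl

lemma gl_det_ne_zero {ι : Type*} [Fintype ι] [DecidableEq ι] (g : Matrix.GeneralLinearGroup ι F) :
    (g : Matrix ι ι F).det ≠ 0 := ((Matrix.isUnit_iff_isUnit_det _).1 g.isUnit).ne_zero

/-- Subtypes of GL as subtypes of matrices. -/
noncomputable def glSubtypeEquiv {ι : Type*} [Fintype ι] [DecidableEq ι] (P : Matrix ι ι F → Prop) :
    {g : Matrix.GeneralLinearGroup ι F // P (g : Matrix ι ι F)} ≃ {M : Matrix ι ι F // M.det ≠ 0 ∧ P M} where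
  toFun g := ⟨g.1.1, gl_det_ne_zero g.1, g.2⟩
  invFun M := ⟨Matrix.GeneralLinearGroup.mkOfDetNeZero M.1 M.2.1, M.2.2⟩
  left_inv g := by ext; rfl
  right_inv M := by ext; rfl

lemma mem_iff_mulVec_mem_of_finite [Finite F] {ι : Type*} [Fintype ι] [DecidableEq ι]
    (M : Matrix ι ι F) (hM : M.det ≠ 0) (S : Set (ι → F)) (h : ∀ v ∈ S, M *ᵥ v ∈ S) (v : ι → F) :
    v ∈ S ↔ M *ᵥ v ∈ S := by
  have hinj : Function.Injective M.mulVec :=
    Matrix.mulVec_injective_of_isUnit ((Matrix.isUnit_iff_isUnit_det _).2 (isUnit_iff_ne_zero.2 hM))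
  refine ⟨h v, fun hv => ?_⟩
  let f : S → S := fun x => ⟨M *ᵥ x.1, h x.1 x.2⟩
  have hf : Function.Injective f := by
    intro x y hxy
    exact Subtype.ext (hinj (congrArg Subtype.val hxy))
  obtain ⟨w, hw⟩ := Finite.surjective_of_injective hf ⟨_, hv⟩
  have : w.1 = v := hinj (congrArg Subtype.val hw)
  exact this ▸ w.2

/-- generic triangular count -/
lemma card_triangular_aux [Fintype F] {q : ℕ} (hF : Fintype.card F = q) (n : ℕ)
    (lt : Fin n → Fin n → Prop) [DecidableRel lt]
    (hdet : ∀ M : Matrix (Fin n) (Fin n) F, (∀ i j, lt i j → M i j = 0) → M.det = ∏ i, M i i)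
    (hirr : ∀ i, ¬ lt i i) (N : ℕ)
    (hN : Nat.card {p : Fin n × Fin n // p.1 ≠ p.2 ∧ ¬ lt p.1 p.2} = N) :
    Nat.card {g : Matrix.GeneralLinearGroup (Fin n) F //
      ∀ i j : Fin n, lt i j → (g : Matrix (Fin n) (Fin n) F) i j = 0} = q ^ N * (q - 1) ^ n := by
  classical
  rw [Nat.card_congr (glSubtypeEquiv (fun M : Matrix (Fin n) (Fin n) F => ∀ i j : Fin n, lt i j → M i j = 0))]
  let e : {M : Matrix (Fin n) (Fin n) F // M.det ≠ 0 ∧ ∀ i j : Fin n, lt i j → M i j = 0} ≃
      ({p : Fin n × Fin n // p.1 ≠ p.2 ∧ ¬ lt p.1 p.2} → F) × (Fin n → Fˣ) :=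
    { toFun := fun M => (fun p => M.1 p.1.1 p.1.2, fun i => Units.mk0 (M.1 i i) (by
        have h := M.2.1
        rw [hdet _ M.2.2] at h
        exact (Finset.prod_ne_zero_iff.1 h) i (Finset.mem_univ _)))
      invFun := fun x => ⟨fun i j => if i = j then (x.2 i : F) else
          if h : i ≠ j ∧ ¬ lt i j then x.1 ⟨(i, j), h⟩ else 0, by
        have htri : ∀ i j : Fin n, lt i j → (fun i j => if i = j then (x.2 i : F) else
          if h : i ≠ j ∧ ¬ lt i j then x.1 ⟨(i, j), h⟩ else 0 : Matrix (Fin n) (Fin n) F) i j = 0 := by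
          intro i j hij
          have hne : i ≠ j := by
            rintro rfl
            exact hirr _ hij
          simp [hne, hij]
        refine ⟨?_, htri⟩
        rw [hdet _ htri]
        refine Finset.prod_ne_zero_iff.2 fun i _ => ?_
        simp⟩
      left_inv := by
        rintro ⟨M, hM1, hM2⟩
        ext i j
        by_cases hij : i = j
        · subst hij
          simp
        · by_cases hl : lt i j
          · simp [hij, hl, hM2 i j hl]
          · simp [hij, hl]
      right_inv := by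
        rintro ⟨s, d⟩
        refine Prod.ext ?_ ?_
        · funext ⟨⟨i, j⟩, h1, h2⟩
          have h1' : i ≠ j := h1
          have h2' : ¬ lt i j := h2
          simp [h1', h2']
        · funext i
          ext
          simp }
  rw [Nat.card_congr e, Nat.card_prod, Nat.card_fun, Nat.card_fun, hN, Nat.card_eq_fintype_card,
    Nat.card_eq_fintype_card, Nat.card_eq_fintype_card, Fintype.card_units, hF, Fintype.card_fin]

lemma card_pairs_lt (n : ℕ) : Nat.card {p : Fin n × Fin n // p.2 < p.1} = n * (n - 1) / 2 := by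
  classical
  let e : {p : Fin n × Fin n // p.2 < p.1} ≃ Σ i : Fin n, {j : Fin n // j < i} :=
    { toFun := fun p => ⟨p.1.1, p.1.2, p.2⟩
      invFun := fun x => ⟨(x.1, x.2.1), x.2.2⟩
      left_inv := fun p => rfl
      right_inv := fun x => rfl }
  rw [Nat.card_congr e, Nat.card_eq_fintype_card, Fintype.card_sigma]
  have : ∀ i : Fin n, Fintype.card {j : Fin n // j < i} = (i : ℕ) := by
    intro i
    rw [Fintype.card_subtype]
    have : (Finset.univ.filter fun j : Fin n => j < i) = Finset.Iio i := by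
      ext j; simp
    rw [this, Fin.card_Iio]
  rw [Finset.sum_congr rfl fun i _ => this i, Fin.sum_univ_eq_sum_range (fun i => i) n,
    Finset.sum_range_id]

lemma card_lower_triangular [Fintype F] {q : ℕ} (hF : Fintype.card F = q) (n : ℕ) :
    Nat.card {g : Matrix.GeneralLinearGroup (Fin n) F //
      ∀ i j : Fin n, i < j → (g : Matrix (Fin n) (Fin n) F) i j = 0}
      = q ^ (n * (n - 1) / 2) * (q - 1) ^ n := by
  refine card_triangular_aux hF n (fun i j => i < j) ?_ (fun i => lt_irrefl i) _ ?_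
  · intro M hM
    exact Matrix.det_of_lowerTriangular M (fun i j hij => hM i j hij)
  · rw [← card_pairs_lt n]
    refine Nat.card_congr (Equiv.subtypeEquivRight fun p => ?_)
    constructor
    · rintro ⟨h1, h2⟩
      exact lt_of_le_of_ne (not_lt.1 h2) (Ne.symm h1)
    · intro h
      exact ⟨h.ne', not_lt.2 h.le⟩

lemma card_upper_triangular [Fintype F] {q : ℕ} (hF : Fintype.card F = q) (n : ℕ) :
    Nat.card {g : Matrix.GeneralLinearGroup (Fin n) F //
      ∀ i j : Fin n, j < i → (g : Matrix (Fin n) (Fin n) F) i j = 0}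
      = q ^ (n * (n - 1) / 2) * (q - 1) ^ n := by
  refine card_triangular_aux hF n (fun i j => j < i) ?_ (fun i => lt_irrefl i) _ ?_
  · intro M hM
    exact Matrix.det_of_upperTriangular (fun i j hij => hM i j hij)
  · rw [← card_pairs_lt n]
    refine Nat.card_congr ((Equiv.prodComm _ _).subtypeEquiv fun p => ?_)
    constructor
    · rintro ⟨h1, h2⟩
      exact lt_of_le_of_ne (not_lt.1 h2) h1
    · intro h
      exact ⟨ne_of_lt h, not_lt.2 (le_of_lt h)⟩

end Cfsg.Agent.Lib.Helper18
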