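import Mathlib
import Cfsg.Prelude.Def_ClassicalGeometry
import Cfsg.Agent.Lib.Helper18.Parabolic
set_option autoImplicit false

/-! Block-triangular invertible matrices and stabilisers of coordinate subspaces. -/

namespace Cfsg.Agent.Lib.Helper18

open Matrix

variable {F : Type*} [Field F]
variable {α β : Type*} [Fintype α] [Fintype β] [DecidableEq α] [DecidableEq β]
set_option linter.unusedSectionVars false

lemma mulVec_inr_of_zero21 (M : Matrix (α ⊕ β) (α ⊕ β) F) (h : M.toBlocks₂₁ = 0) (v : α ⊕ β → F)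
    (i : β) : (M *ᵥ v) (Sum.inr i) = (M.toBlocks₂₂ *ᵥ (v ∘ Sum.inr)) i := by
  conv_lhs => rw [← Matrix.fromBlocks_toBlocks M, Matrix.fromBlocks_mulVec, h]
  simp

lemma mulVec_inl_of_zero12 (M : Matrix (α ⊕ β) (α ⊕ β) F) (h : M.toBlocks₁₂ = 0) (v : α ⊕ β → F)
    (i : α) : (M *ᵥ v) (Sum.inl i) = (M.toBlocks₁₁ *ᵥ (v ∘ Sum.inl)) i := by
  conv_lhs => rw [← Matrix.fromBlocks_toBlocks M, Matrix.fromBlocks_mulVec, h]
  simp

lemma det_of_zero21 (M : Matrix (α ⊕ β) (α ⊕ β) F) (h : M.toBlocks₂₁ = 0) :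
    M.det = M.toBlocks₁₁.det * M.toBlocks₂₂.det := by
  conv_lhs => rw [← Matrix.fromBlocks_toBlocks M, h, Matrix.det_fromBlocks_zero₂₁]

lemma det_of_zero12 (M : Matrix (α ⊕ β) (α ⊕ β) F) (h : M.toBlocks₁₂ = 0) :
    M.det = M.toBlocks₁₁.det * M.toBlocks₂₂.det := by
  conv_lhs => rw [← Matrix.fromBlocks_toBlocks M, h, Matrix.det_fromBlocks_zero₁₂]

lemma mulVec_eq_zero_of_det_ne_zero {ι : Type*} [Fintype ι] [DecidableEq ι] (M : Matrix ι ι F)
    (hM : M.det ≠ 0) {v : ι → F} (h : M *ᵥ v = 0) : v = 0 := by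
  have hinj : Function.Injective M.mulVec :=
    Matrix.mulVec_injective_of_isUnit ((Matrix.isUnit_iff_isUnit_det _).2 (isUnit_iff_ne_zero.2 hM))
  exact hinj (by rw [h, Matrix.mulVec_zero])

lemma stab_inr_iff (M : Matrix (α ⊕ β) (α ⊕ β) F) (hM : M.det ≠ 0) :
    (∀ v : α ⊕ β → F, (∀ i, v (Sum.inr i) = 0) ↔ ∀ i, (M *ᵥ v) (Sum.inr i) = 0) ↔
      M.toBlocks₂₁ = 0 := by
  constructor
  · intro h
    ext i j
    have := (h (Pi.single (Sum.inl j) 1)).1 (by intro i; simp) i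
    simpa [Matrix.mulVec_single_one, Matrix.toBlocks₂₁] using this
  · intro h v
    have hD : M.toBlocks₂₂.det ≠ 0 := by
      rw [det_of_zero21 M h] at hM
      exact right_ne_zero_of_mul hM
    constructor
    · intro hv i
      rw [mulVec_inr_of_zero21 M h]
      have : v ∘ Sum.inr = 0 := funext hv
      rw [this, Matrix.mulVec_zero]; rfl
    · intro hv i
      have : M.toBlocks₂₂ *ᵥ (v ∘ Sum.inr) = 0 := by
        funext i
        rw [← mulVec_inr_of_zero21 M h]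
        exact hv i
      exact congrFun (mulVec_eq_zero_of_det_ne_zero _ hD this) i

lemma stab_inl_iff (M : Matrix (α ⊕ β) (α ⊕ β) F) (hM : M.det ≠ 0) :
    (∀ v : α ⊕ β → F, (∀ i, v (Sum.inl i) = 0) ↔ ∀ i, (M *ᵥ v) (Sum.inl i) = 0) ↔
      M.toBlocks₁₂ = 0 := by
  constructor
  · intro h
    ext i j
    have := (h (Pi.single (Sum.inr j) 1)).1 (by intro i; simp) i
    simpa [Matrix.mulVec_single_one, Matrix.toBlocks₁₂] using this
  · intro h v
    have hD : M.toBlocks₁₁.det ≠ 0 := by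
      rw [det_of_zero12 M h] at hM
      exact left_ne_zero_of_mul hM
    constructor
    · intro hv i
      rw [mulVec_inl_of_zero12 M h]
      have : v ∘ Sum.inl = 0 := funext hv
      rw [this, Matrix.mulVec_zero]; rfl
    · intro hv i
      have : M.toBlocks₁₁ *ᵥ (v ∘ Sum.inl) = 0 := by
        funext i
        rw [← mulVec_inl_of_zero12 M h]
        exact hv i
      exact congrFun (mulVec_eq_zero_of_det_ne_zero _ hD this) i

/-- Block upper triangular invertible matrices. -/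
noncomputable def blockTriEquiv :
    {M : Matrix (α ⊕ β) (α ⊕ β) F // M.det ≠ 0 ∧ M.toBlocks₂₁ = 0} ≃
      {A : Matrix α α F // A.det ≠ 0} × {D : Matrix β β F // D.det ≠ 0} × Matrix α β F where
  toFun M := (⟨M.1.toBlocks₁₁, by
      have := M.2.1
      rw [det_of_zero21 M.1 M.2.2] at this
      exact left_ne_zero_of_mul this⟩, ⟨M.1.toBlocks₂₂, by
      have := M.2.1
      rw [det_of_zero21 M.1 M.2.2] at this
      exact right_ne_zero_of_mul this⟩, M.1.toBlocks₁₂)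
  invFun x := ⟨Matrix.fromBlocks x.1.1 x.2.2 0 x.2.1.1, by
      rw [Matrix.det_fromBlocks_zero₂₁]
      exact mul_ne_zero x.1.2 x.2.1.2, Matrix.toBlocks_fromBlocks₂₁ _ _ _ _⟩
  left_inv := by
    rintro ⟨M, h1, h2⟩
    apply Subtype.ext
    show Matrix.fromBlocks M.toBlocks₁₁ M.toBlocks₁₂ 0 M.toBlocks₂₂ = M
    rw [← h2, Matrix.fromBlocks_toBlocks]
  right_inv := by
    rintro ⟨⟨A, hA⟩, ⟨D, hD⟩, B⟩
    simp

lemma card_det_ne_zero [Fintype F] {q : ℕ} (hF : Fintype.card F = q) (n : ℕ) :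
    Nat.card {A : Matrix (Fin n) (Fin n) F // A.det ≠ 0} = ∏ i : Fin n, (q ^ n - q ^ (i : ℕ)) := by
  rw [← Nat.card_congr (glEquivDet (F := F) (Fin n)), Matrix.card_GL_field, hF]

lemma card_blockTri [Fintype F] {q : ℕ} (hF : Fintype.card F = q) (k l : ℕ) :
    Nat.card {M : Matrix (Fin k ⊕ Fin l) (Fin k ⊕ Fin l) F // M.det ≠ 0 ∧ M.toBlocks₂₁ = 0} =
      q ^ (k * l) * (∏ i : Fin k, (q ^ k - q ^ (i : ℕ))) * ∏ i : Fin l, (q ^ l - q ^ (i : ℕ)) := by
  have hmat : Nat.card (Matrix (Fin k) (Fin l) F) = q ^ (k * l) := by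
    show Nat.card (Fin k → Fin l → F) = _
    rw [Nat.card_fun, Nat.card_fun, Nat.card_eq_fintype_card, Nat.card_eq_fintype_card,
      Nat.card_eq_fintype_card, hF, Fintype.card_fin, Fintype.card_fin, ← pow_mul, mul_comm]
  rw [Nat.card_congr blockTriEquiv, Nat.card_prod, Nat.card_prod, card_det_ne_zero hF,
    card_det_ne_zero hF, hmat]
  ring

lemma stab_std_iff [Finite F] (k l : ℕ) (M : Matrix (Fin (k + l)) (Fin (k + l)) F) (hM : M.det ≠ 0) :
    (∀ v : Fin (k + l) → F, v ∈ {v : Fin (k + l) → F | ∀ i : Fin (k + l), k ≤ (i : ℕ) → v i = 0} ↔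
      M *ᵥ v ∈ {v : Fin (k + l) → F | ∀ i : Fin (k + l), k ≤ (i : ℕ) → v i = 0}) ↔
      (Matrix.reindex finSumFinEquiv.symm finSumFinEquiv.symm M).toBlocks₂₁ = 0 := by
  constructor
  · intro h
    ext i j
    have := (h (Pi.single (Fin.castAdd l j) 1)).1 (by
      intro i hi
      have : i ≠ Fin.castAdd l j := by
        intro h
        rw [h] at hi
        simp at hi
        omega
      simp [this]) (Fin.natAdd k i) (by simp)
    simpa [Matrix.mulVec_single_one, Matrix.toBlocks₂₁] using this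
  · intro h
    refine mem_iff_mulVec_mem_of_finite M hM _ ?_
    intro v hv i hi
    show ∑ j, M i j * v j = 0
    refine Finset.sum_eq_zero fun j _ => ?_
    by_cases hj : k ≤ (j : ℕ)
    · rw [hv j hj, mul_zero]
    · have h1 := congrFun (congrFun h ⟨(i : ℕ) - k, by omega⟩) ⟨(j : ℕ), by omega⟩
      have e1 : (finSumFinEquiv (Sum.inr ⟨(i : ℕ) - k, by omega⟩ : Fin k ⊕ Fin l)) = i := by
        ext; simp; omega
      have e2 : (finSumFinEquiv (Sum.inl ⟨(j : ℕ), by omega⟩ : Fin k ⊕ Fin l)) = j := by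
        ext; simp
      simp only [Matrix.toBlocks₂₁, Matrix.reindex_apply, Matrix.of_apply, Matrix.submatrix_apply,
        Equiv.symm_symm, e1, e2, Matrix.zero_apply] at h1
      rw [h1, zero_mul]

lemma card_gl_stab_std [Fintype F] {q : ℕ} (hF : Fintype.card F = q) (k l : ℕ) :
    Nat.card ↥(Cfsg.stabilizing (Cfsg.glToMat (Fin (k + l)) F)
      {v : Fin (k + l) → F | ∀ i : Fin (k + l), k ≤ (i : ℕ) → v i = 0}) =
      q ^ (k * l) * (∏ i : Fin k, (q ^ k - q ^ (i : ℕ))) * ∏ i : Fin l, (q ^ l - q ^ (i : ℕ)) := by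
  rw [← card_blockTri hF k l]
  refine Nat.card_congr ((glSubtypeEquiv (fun M : Matrix (Fin (k + l)) (Fin (k + l)) F =>
    ∀ v : Fin (k + l) → F, v ∈ {v : Fin (k + l) → F | ∀ i : Fin (k + l), k ≤ (i : ℕ) → v i = 0} ↔
      M *ᵥ v ∈ {v : Fin (k + l) → F | ∀ i : Fin (k + l), k ≤ (i : ℕ) → v i = 0})).trans ?_)
  refine (Matrix.reindex finSumFinEquiv.symm finSumFinEquiv.symm).subtypeEquiv fun M => ?_
  rw [Matrix.det_reindex_self]
  constructor
  · rintro ⟨h1, h2⟩
    exact ⟨h1, (stab_std_iff k l M h1).1 h2⟩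
  · rintro ⟨h1, h2⟩
    exact ⟨h1, (stab_std_iff k l M h1).2 h2⟩

end Cfsg.Agent.Lib.Helper18
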