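import Mathlib
import Cfsg.Prelude.Def_ClassicalGeometry
import Cfsg.Agent.Lib.Helper18.Parabolic2
set_option autoImplicit false

/-! Maximal parabolics `P_k`, `P_{n-k}` of `GL_n`: isomorphic, not conjugate. -/

namespace Cfsg.Agent.Lib.Helper18

open Matrix

variable {F : Type*} [Field F] {n : ℕ}
set_option linter.unusedSectionVars false

/-- the standard `k`-dimensional coordinate subspace. -/
def stdW (F : Type*) [Field F] (n k : ℕ) : Submodule F (Fin n → F) where
  carrier := {v | ∀ i : Fin n, k ≤ (i : ℕ) → v i = 0}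
  add_mem' {a b} ha hb i hi := by
    show a i + b i = 0
    rw [ha i hi, hb i hi, add_zero]
  zero_mem' i _ := rfl
  smul_mem' c a ha i hi := by
    show c * a i = 0
    rw [ha i hi, mul_zero]

lemma stdW_ssubset {a b : ℕ} (hab : a < b) (hb : b ≤ n) :
    (stdW F n a : Set (Fin n → F)) ⊂ (stdW F n b : Set (Fin n → F)) := by
  classical
  refine ⟨fun v hv i hi => hv i (by omega), fun h => ?_⟩
  have h1 : (Pi.single (⟨a, by omega⟩ : Fin n) (1 : F) : Fin n → F) ∈ (stdW F n b : Set (Fin n → F)) := by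
    intro i hi
    have : i ≠ ⟨a, by omega⟩ := by
      intro h
      rw [h] at hi
      simp at hi
      omega
    simp [this]
  have h2 := h h1 ⟨a, by omega⟩ le_rfl
  simp at h2

lemma stdW_ncard_ne [Finite F] {a b : ℕ} (hab : a ≠ b) (ha : a ≤ n) (hb : b ≤ n) :
    (stdW F n a : Set (Fin n → F)).ncard ≠ (stdW F n b : Set (Fin n → F)).ncard := by
  rcases lt_or_gt_of_ne hab with h | h
  · exact (Set.ncard_lt_ncard (stdW_ssubset h hb) (Set.toFinite _)).ne
  · exact (Set.ncard_lt_ncard (stdW_ssubset h ha) (Set.toFinite _)).ne'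

lemma mem_glPar_iff [Finite F] (g : Matrix.GeneralLinearGroup (Fin n) F) (k : ℕ) :
    g ∈ Cfsg.stabilizing (Cfsg.glToMat (Fin n) F) {v : Fin n → F | ∀ i : Fin n, k ≤ (i : ℕ) → v i = 0} ↔
      ∀ i j : Fin n, k ≤ (i : ℕ) → (j : ℕ) < k → (g : Matrix (Fin n) (Fin n) F) i j = 0 := by
  constructor
  · intro h i j hi hj
    have := (h (Pi.single j 1)).1 (by
      intro i hi
      have : i ≠ j := by
        rintro rfl
        omega
      simp [this]) i hi
    simpa [Matrix.mulVec_single_one] using this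
  · intro h
    refine mem_iff_mulVec_mem_of_finite g.1 (gl_det_ne_zero g) _ ?_
    intro v hv i hi
    show ∑ j, g.1 i j * v j = 0
    refine Finset.sum_eq_zero fun j _ => ?_
    by_cases hj : k ≤ (j : ℕ)
    · rw [hv j hj, mul_zero]
    · rw [h i j hi (by omega), zero_mul]

/-- transpose followed by reversal of the indices. -/
def revT (M : Matrix (Fin n) (Fin n) F) : Matrix (Fin n) (Fin n) F :=
  Mᵀ.submatrix Fin.revPerm Fin.revPerm

lemma revT_apply (M : Matrix (Fin n) (Fin n) F) (i j : Fin n) : revT M i j = M j.rev i.rev := rfl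

lemma revT_mul (A B : Matrix (Fin n) (Fin n) F) : revT (A * B) = revT B * revT A := by
  unfold revT
  rw [Matrix.transpose_mul, Matrix.submatrix_mul_equiv]

lemma revT_one : revT (1 : Matrix (Fin n) (Fin n) F) = 1 := by
  unfold revT
  rw [Matrix.transpose_one, Matrix.submatrix_one_equiv]

lemma revT_revT (A : Matrix (Fin n) (Fin n) F) : revT (revT A) = A := by
  ext i j
  simp [revT_apply]

/-- the inverse-transpose-reverse automorphism of `GL_n`. -/
def glDual (g : Matrix.GeneralLinearGroup (Fin n) F) : Matrix.GeneralLinearGroup (Fin n) F :=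
  ⟨revT (g⁻¹ : Matrix.GeneralLinearGroup (Fin n) F).1, revT g.1, by
    rw [← revT_mul, ← Units.val_mul, mul_inv_cancel]; exact revT_one, by
    rw [← revT_mul, ← Units.val_mul, inv_mul_cancel]; exact revT_one⟩

lemma glDual_mul (g h : Matrix.GeneralLinearGroup (Fin n) F) : glDual (g * h) = glDual g * glDual h := by
  apply Units.ext
  show revT ((g * h)⁻¹ : Matrix.GeneralLinearGroup (Fin n) F).1 = revT (g⁻¹).1 * revT (h⁻¹).1
  rw [← revT_mul, _root_.mul_inv_rev, Units.val_mul]

lemma glDual_glDual (g : Matrix.GeneralLinearGroup (Fin n) F) : glDual (glDual g) = g := by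
  apply Units.ext
  show revT (revT g.1) = g.1
  exact revT_revT _

lemma glDual_mem [Finite F] {k : ℕ} (hk : k ≤ n) {g : Matrix.GeneralLinearGroup (Fin n) F}
    (hg : g ∈ Cfsg.stabilizing (Cfsg.glToMat (Fin n) F)
      {v : Fin n → F | ∀ i : Fin n, k ≤ (i : ℕ) → v i = 0}) :
    glDual g ∈ Cfsg.stabilizing (Cfsg.glToMat (Fin n) F)
      {v : Fin n → F | ∀ i : Fin n, n - k ≤ (i : ℕ) → v i = 0} := by
  rw [mem_glPar_iff]
  intro i j hi hj
  have h1 := (mem_glPar_iff _ k).1 (inv_mem hg)
  show (g⁻¹ : Matrix.GeneralLinearGroup (Fin n) F).1 j.rev i.rev = 0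
  refine h1 _ _ ?_ ?_
  · rw [Fin.val_rev]; omega
  · rw [Fin.val_rev]; omega

theorem glPar_equiv [Finite F] {k : ℕ} (hk : k ≤ n) :
    Nonempty (↥(Cfsg.stabilizing (Cfsg.glToMat (Fin n) F)
        {v : Fin n → F | ∀ i : Fin n, k ≤ (i : ℕ) → v i = 0}) ≃*
      ↥(Cfsg.stabilizing (Cfsg.glToMat (Fin n) F)
        {v : Fin n → F | ∀ i : Fin n, n - k ≤ (i : ℕ) → v i = 0})) := by
  refine ⟨{ toFun := fun g => ⟨glDual g.1, glDual_mem hk g.2⟩
            invFun := fun g => ⟨glDual g.1, ?_⟩
            left_inv := fun g => Subtype.ext (glDual_glDual _)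
            right_inv := fun g => Subtype.ext (glDual_glDual _)
            map_mul' := fun g h => Subtype.ext (glDual_mul _ _) }⟩
  have := glDual_mem (Nat.sub_le n k) g.2
  rwa [Nat.sub_sub_self hk] at this

/-- elementary transvection in `GL`. -/
noncomputable def tGL (i j : Fin n) (hij : i ≠ j) (c : F) : Matrix.GeneralLinearGroup (Fin n) F :=
  Matrix.GeneralLinearGroup.mkOfDetNeZero (Matrix.transvection i j c) (by
    rw [Matrix.det_transvection_of_ne _ _ hij]; exact one_ne_zero)

lemma tGL_mulVec (i j : Fin n) (hij : i ≠ j) (c : F) (u : Fin n → F) :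
    (tGL i j hij c).1 *ᵥ u = u + (c * u j) • Pi.single i (1 : F) := by
  show (Matrix.transvection i j c) *ᵥ u = _
  rw [Matrix.transvection, Matrix.add_mulVec, Matrix.one_mulVec, Matrix.single_mulVec_eq]

lemma tGL_mem [Finite F] (i j : Fin n) (hij : i ≠ j) (c : F) (l : ℕ) (h : ¬ (l ≤ (i : ℕ) ∧ (j : ℕ) < l)) :
    tGL i j hij c ∈ Cfsg.stabilizing (Cfsg.glToMat (Fin n) F)
      {v : Fin n → F | ∀ i : Fin n, l ≤ (i : ℕ) → v i = 0} := by
  rw [mem_glPar_iff]
  intro a b ha hb
  show (Matrix.transvection i j c) a b = 0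
  have hab : a ≠ b := by
    rintro rfl
    omega
  have h2 : ¬ (i = a ∧ j = b) := by
    rintro ⟨rfl, rfl⟩
    exact h ⟨ha, hb⟩
  simp [Matrix.transvection, hab, h2]

lemma smul_single_mem_of_sum (U : Submodule F (Fin n → F)) (u : Fin n → F) (hu : u ∈ U) (j : Fin n)
    (h : ∀ i, i ≠ j → u i • (Pi.single i (1 : F) : Fin n → F) ∈ U) :
    u j • (Pi.single j (1 : F) : Fin n → F) ∈ U := by
  classical
  have h1 : u = ∑ i, u i • (Pi.single i (1 : F) : Fin n → F) := by
    funext x
    simp [Finset.sum_apply, Pi.single_apply]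
  have h2 := Finset.add_sum_erase Finset.univ (fun i => u i • (Pi.single i (1 : F) : Fin n → F))
    (Finset.mem_univ j)
  rw [← h1] at h2
  have h3 : u j • (Pi.single j (1 : F) : Fin n → F) =
      u - ∑ i ∈ Finset.univ.erase j, u i • (Pi.single i (1 : F) : Fin n → F) :=
    eq_sub_of_add_eq h2
  rw [h3]
  exact U.sub_mem hu (U.sum_mem fun i hi => h i (Finset.ne_of_mem_erase hi))

lemma mem_of_forall_smul_single (U : Submodule F (Fin n → F)) (v : Fin n → F)
    (h : ∀ i, v i • (Pi.single i (1 : F) : Fin n → F) ∈ U) : v ∈ U := by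
  classical
  have h1 : v = ∑ i, v i • (Pi.single i (1 : F) : Fin n → F) := by
    funext x
    simp [Finset.sum_apply, Pi.single_apply]
  rw [h1]
  exact U.sum_mem fun i _ => h i

theorem glPar_invariant [Finite F] (l : ℕ) (U : Submodule F (Fin n → F))
    (hU : ∀ h ∈ Cfsg.stabilizing (Cfsg.glToMat (Fin n) F)
      {v : Fin n → F | ∀ i : Fin n, l ≤ (i : ℕ) → v i = 0}, ∀ u ∈ U, h.1 *ᵥ u ∈ U) :
    U = stdW F n 0 ∨ U = stdW F n l ∨ U = stdW F n n := by
  classical
  have key : ∀ u ∈ U, ∀ i j : Fin n, i ≠ j → ¬ (l ≤ (i : ℕ) ∧ (j : ℕ) < l) → u j ≠ 0 →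
      (Pi.single i (1 : F) : Fin n → F) ∈ U := by
    intro u hu i j hij h hj
    have h1 := hU _ (tGL_mem i j hij 1 l h) u hu
    rw [tGL_mulVec, one_mul] at h1
    have h2 := U.sub_mem h1 hu
    rw [add_sub_cancel_left] at h2
    have h3 := U.smul_mem (u j)⁻¹ h2
    rwa [smul_smul, inv_mul_cancel₀ hj, one_smul] at h3
  by_cases hA : ∃ u ∈ U, ∃ j : Fin n, l ≤ (j : ℕ) ∧ u j ≠ 0
  · obtain ⟨u, hu, j, hj, huj⟩ := hA
    right; right
    have h1 : ∀ i, i ≠ j → (Pi.single i (1 : F) : Fin n → F) ∈ U := fun i hi =>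
      key u hu i j hi (by omega) huj
    have h2 : (Pi.single j (1 : F) : Fin n → F) ∈ U := by
      have := smul_single_mem_of_sum U u hu j fun i hi => U.smul_mem _ (h1 i hi)
      have h3 := U.smul_mem (u j)⁻¹ this
      rwa [smul_smul, inv_mul_cancel₀ huj, one_smul] at h3
    refine le_antisymm (fun v _ i hi => absurd i.2 (by omega)) fun v _ => ?_
    refine mem_of_forall_smul_single U v fun i => U.smul_mem _ ?_
    by_cases hi : i = j
    · rw [hi]; exact h2
    · exact h1 i hi
  · push Not at hA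
    by_cases hB : ∃ u ∈ U, u ≠ 0
    · obtain ⟨u, hu, hne⟩ := hB
      obtain ⟨j, huj⟩ := Function.ne_iff.1 hne
      have huj' : u j ≠ 0 := huj
      have hjl : (j : ℕ) < l := by
        by_contra h
        exact huj' (hA u hu j (by omega))
      right; left
      have h1 : ∀ i : Fin n, i ≠ j → (i : ℕ) < l → (Pi.single i (1 : F) : Fin n → F) ∈ U :=
        fun i hi hil => key u hu i j hi (by omega) huj'
      have h2 : (Pi.single j (1 : F) : Fin n → F) ∈ U := by
        have := smul_single_mem_of_sum U u hu j fun i hi => by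
          by_cases hil : (i : ℕ) < l
          · exact U.smul_mem _ (h1 i hi hil)
          · rw [hA u hu i (by omega), zero_smul]; exact U.zero_mem
        have h3 := U.smul_mem (u j)⁻¹ this
        rwa [smul_smul, inv_mul_cancel₀ huj', one_smul] at h3
      refine le_antisymm (fun v hv i hi => hA v hv i hi) fun v hv => ?_
      refine mem_of_forall_smul_single U v fun i => ?_
      by_cases hil : (i : ℕ) < l
      · refine U.smul_mem _ ?_
        by_cases hi : i = j
        · rw [hi]; exact h2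
        · exact h1 i hi hil
      · rw [hv i (by omega), zero_smul]; exact U.zero_mem
    · push Not at hB
      left
      refine le_antisymm (fun v hv i _ => by rw [hB v hv]; rfl) fun v hv => ?_
      have : v = 0 := funext fun i => hv i (Nat.zero_le _)
      rw [this]; exact U.zero_mem

theorem glPar_not_conj [Finite F] {k : ℕ} (hk0 : 0 < k) (hkn : k < n) (h2 : 2 * k ≠ n)
    (g : Matrix.GeneralLinearGroup (Fin n) F) :
    (Cfsg.stabilizing (Cfsg.glToMat (Fin n) F)
      {v : Fin n → F | ∀ i : Fin n, k ≤ (i : ℕ) → v i = 0}).map (MulAut.conj g).toMonoidHom ≠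
    Cfsg.stabilizing (Cfsg.glToMat (Fin n) F)
      {v : Fin n → F | ∀ i : Fin n, n - k ≤ (i : ℕ) → v i = 0} := by
  intro heq
  let U : Submodule F (Fin n → F) := (stdW F n k).map (Matrix.mulVecLin g.1)
  have hU : ∀ h ∈ Cfsg.stabilizing (Cfsg.glToMat (Fin n) F)
      {v : Fin n → F | ∀ i : Fin n, n - k ≤ (i : ℕ) → v i = 0}, ∀ u ∈ U, h.1 *ᵥ u ∈ U := by
    intro h hh u hu
    rw [← heq] at hh
    obtain ⟨p, hp, rfl⟩ := hh
    obtain ⟨w, hw, rfl⟩ := hu
    refine ⟨p.1 *ᵥ w, (hp w).1 hw, ?_⟩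
    show g.1 *ᵥ (p.1 *ᵥ w) = (g * p * g⁻¹ : Matrix.GeneralLinearGroup (Fin n) F).1 *ᵥ (g.1 *ᵥ w)
    rw [Matrix.mulVec_mulVec, Matrix.mulVec_mulVec, ← Units.val_mul, ← Units.val_mul]
    congr 2
    group
  have hcard : (U : Set (Fin n → F)).ncard = (stdW F n k : Set (Fin n → F)).ncard := by
    rw [Submodule.map_coe]
    refine Set.ncard_image_of_injective _ ?_
    exact Matrix.mulVec_injective_of_isUnit g.isUnit
  rcases glPar_invariant (n - k) U hU with h | h | h
  · rw [h] at hcard
    exact stdW_ncard_ne (by omega) (by omega) (by omega) hcard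
  · rw [h] at hcard
    exact stdW_ncard_ne (by omega) (by omega) (by omega) hcard
  · rw [h] at hcard
    exact stdW_ncard_ne (by omega) (by omega) (by omega) hcard

end Cfsg.Agent.Lib.Helper18
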