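import Mathlib
import Cfsg.Prelude.Def_LieClassical
import Cfsg.Agent.Lib.Helper18.Herm4

set_option linter.unusedSimpArgs false
set_option linter.unusedSectionVars false

namespace Cfsg.Agent.Lib.Helper18

open Matrix

section center

variable {F : Type*} [Field F] {q : ℕ} {n : ℕ}

theorem center_SU_comm (z : Cfsg.SU n F q) (hz : z ∈ Subgroup.center (Cfsg.SU n F q))
    (A : Matrix (Fin n) (Fin n) F) (hdet : A.det = 1)
    (hA : ∀ u v, Cfsg.hermForm n F q (A *ᵥ u) (A *ᵥ v) = Cfsg.hermForm n F q u v) :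
    A * (z.1 : Matrix (Fin n) (Fin n) F) = (z.1 : Matrix (Fin n) (Fin n) F) * A := by
  have := Subgroup.mem_center_iff.mp hz (mkSU A hdet hA)
  exact congrArg (fun x : Cfsg.SU n F q => (x.1 : Matrix (Fin n) (Fin n) F)) this

variable [Fintype F] (hF : Fintype.card F = q ^ 2)
include hF

theorem herm_exists_sq_ne_one : ∃ l : F, l ^ (q + 1) = 1 ∧ l ^ 2 ≠ 1 := by
  classical
  have hq := herm_q_pos hF
  by_contra hcon
  push Not at hcon
  have h1 : Nat.card {a : F // a ^ (q + 1) = 1} ≤ 2 := by
    rw [Nat.card_eq_fintype_card, Fintype.card_subtype]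
    calc _ ≤ ({1, -1} : Finset F).card := Finset.card_le_card (fun a ha => by
            simp only [Finset.mem_filter, Finset.mem_univ, true_and] at ha
            have := hcon a ha
            rw [pow_two, mul_self_eq_one_iff] at this
            simpa using this)
      _ ≤ 2 := Finset.card_le_two
  rw [herm_card_norm_one hF] at h1
  omega

theorem herm_neg_one_pow : (-1 : F) ^ (q + 1) = 1 := by
  have h : (-1 : F) ^ q = -1 := by
    have := map_neg (hermFrob hF) 1
    rw [map_one] at this
    exact this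
  rw [pow_succ, h]
  simp

theorem center_SU_offdiag (z : Cfsg.SU n F q) (hz : z ∈ Subgroup.center (Cfsg.SU n F q))
    (a b : Fin n) (hab : a ≠ b) : (z.1 : Matrix (Fin n) (Fin n) F) a b = 0 := by
  obtain ⟨l, hl, hl2⟩ := herm_exists_sq_ne_one hF
  have hl0 : l ≠ 0 := by
    rintro rfl
    simp at hl
  have hupd : ∀ (c : Fin n) (x : F), x ^ (q + 1) = 1 →
      ∀ i, (Function.update (1 : Fin n → F) c x) i ^ (q + 1) = 1 := by
    intro c x hx i
    by_cases hi : i = c
    · subst hi; simpa using hx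
    · simp [Function.update_of_ne hi]
  have h := center_SU_comm z hz
    (Matrix.diagonal (Function.update (1 : Fin n → F) a l)
      * Matrix.diagonal (Function.update (1 : Fin n → F) b l⁻¹))
    (by rw [Matrix.det_mul, det_diag_update, det_diag_update, mul_inv_cancel₀ hl0])
    (herm_mul_preserve (herm_diag_preserve _ (hupd a l hl))
      (herm_diag_preserve _ (hupd b l⁻¹ (by rw [inv_pow, hl, inv_one]))))
  have h2 := congrFun (congrFun h a) b
  rw [Matrix.diagonal_mul_diagonal, Matrix.diagonal_mul, Matrix.mul_diagonal] at h2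
  simp only [Function.update_self, Function.update_of_ne hab, Function.update_of_ne hab.symm,
    Pi.one_apply, mul_one, one_mul] at h2
  have h3 : (l ^ 2 - 1) * (z.1 : Matrix (Fin n) (Fin n) F) a b = 0 := by
    have : l * (l * (z.1 : Matrix (Fin n) (Fin n) F) a b)
        = l * ((z.1 : Matrix (Fin n) (Fin n) F) a b * l⁻¹) := by rw [h2]
    have e : l * ((z.1 : Matrix (Fin n) (Fin n) F) a b * l⁻¹)
        = (z.1 : Matrix (Fin n) (Fin n) F) a b := by
      field_simp
    rw [e] at this
    linear_combination this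
  rcases mul_eq_zero.mp h3 with h4 | h4
  · exact absurd (sub_eq_zero.mp h4) hl2
  · exact h4

theorem center_SU_diag (z : Cfsg.SU n F q) (hz : z ∈ Subgroup.center (Cfsg.SU n F q))
    (a b : Fin n) : (z.1 : Matrix (Fin n) (Fin n) F) a a = (z.1 : Matrix (Fin n) (Fin n) F) b b := by
  by_cases hab : a = b
  · rw [hab]
  have hupd : ∀ i, (Function.update (1 : Fin n → F) a (-1)) i ^ (q + 1) = 1 := by
    intro i
    by_cases hi : i = a
    · subst hi; simpa using herm_neg_one_pow hF
    · simp [Function.update_of_ne hi]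
  have h := center_SU_comm z hz
    ((Equiv.swap a b).permMatrix F * Matrix.diagonal (Function.update (1 : Fin n → F) a (-1)))
    (by rw [Matrix.det_mul, det_diag_update, Matrix.det_permutation, Equiv.Perm.sign_swap hab]; simp)
    (herm_mul_preserve (herm_perm_preserve _) (herm_diag_preserve _ hupd))
  have h2 := congrFun (congrFun h a) b
  rw [Matrix.mul_assoc, PEquiv.toMatrix_toPEquiv_mul, ← Matrix.mul_assoc, Matrix.mul_diagonal,
    PEquiv.mul_toMatrix_toPEquiv, Matrix.submatrix_apply, Matrix.submatrix_apply,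
    Matrix.diagonal_mul] at h2
  simp only [Equiv.swap_apply_left, id, Equiv.symm_swap, Equiv.swap_apply_right,
    Function.update_of_ne (Ne.symm hab), Pi.one_apply, one_mul, mul_one] at h2
  exact h2.symm

theorem card_pow_eq_one_of_dvd (d : ℕ) (hd : d ∣ q + 1) : Nat.card {a : F // a ^ d = 1} = d := by
  classical
  have hd0 : 0 < d := Nat.pos_of_dvd_of_pos hd (Nat.succ_pos q)
  have e1 : {a : F // a ^ d = 1} ≃ {x : F // x ∈ Polynomial.nthRoots d (1 : F)} :=
    Equiv.subtypeEquivRight (fun a => by rw [Polynomial.mem_nthRoots hd0])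
  have : NeZero d := ⟨hd0.ne'⟩
  rw [Nat.card_congr (e1.trans (rootsOfUnityEquivNthRoots F d).symm),
    card_rootsOfUnity_finField, hF]
  have h : q ^ 2 - 1 = (q + 1) * (q - 1) := by
    have := Nat.sq_sub_sq q 1
    simpa using this
  rw [h]
  exact Nat.gcd_eq_left (Dvd.dvd.mul_right hd _)

theorem card_center_SU (hn : 1 ≤ n) :
    Nat.card (Subgroup.center (Cfsg.SU n F q)) = Nat.gcd n (q + 1) := by
  rw [← card_pow_eq_one_of_dvd hF (Nat.gcd n (q + 1)) (Nat.gcd_dvd_right _ _)]
  apply Nat.card_congr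
  have hform : ∀ z : Cfsg.SU n F q, z ∈ Subgroup.center (Cfsg.SU n F q) →
      (z.1 : Matrix (Fin n) (Fin n) F)
        = Matrix.diagonal (fun _ => (z.1 : Matrix (Fin n) (Fin n) F) ⟨0, hn⟩ ⟨0, hn⟩) := by
    intro z hz
    ext i j
    by_cases hij : i = j
    · subst hij
      rw [Matrix.diagonal_apply_eq]
      exact center_SU_diag hF z hz _ _
    · rw [Matrix.diagonal_apply_ne _ hij]
      exact center_SU_offdiag hF z hz i j hij
  refine Equiv.ofBijective
    (fun z => ⟨(z.1.1 : Matrix (Fin n) (Fin n) F) ⟨0, hn⟩ ⟨0, hn⟩, ?_⟩) ⟨?_, ?_⟩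
  · have h1 := hform z.1 z.2
    have hdet : (z.1.1 : Matrix (Fin n) (Fin n) F).det = 1 := z.1.1.2
    have hU := (mem_SU_iff hF z.1.1).mp z.1.2
    set c := (z.1.1 : Matrix (Fin n) (Fin n) F) ⟨0, hn⟩ ⟨0, hn⟩ with hc
    rw [h1] at hdet hU
    rw [Matrix.det_diagonal, Finset.prod_const, Finset.card_univ, Fintype.card_fin] at hdet
    have h2 := congrFun (congrFun hU ⟨0, hn⟩) ⟨0, hn⟩
    rw [Matrix.diagonal_transpose, Matrix.diagonal_mul, Matrix.map_apply,
      Matrix.diagonal_apply_eq, Matrix.one_apply_eq, ← pow_succ'] at h2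
    exact pow_gcd_eq_one.mpr ⟨hdet, h2⟩
  · intro z w h
    apply Subtype.ext
    apply Subtype.ext
    apply Subtype.ext
    rw [hform z.1 z.2, hform w.1 w.2]
    have := congrArg Subtype.val h
    simp only at this
    rw [this]
  · rintro ⟨c, hc⟩
    have hcn : c ^ n = 1 := by
      obtain ⟨k, hk⟩ := Nat.gcd_dvd_left n (q + 1)
      rw [hk, pow_mul, hc, one_pow]
    have hcq : c ^ (q + 1) = 1 := by
      obtain ⟨k, hk⟩ := Nat.gcd_dvd_right n (q + 1)
      rw [hk, pow_mul, hc, one_pow]
    refine ⟨⟨mkSU (Matrix.diagonal (fun _ => c))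
      (by rw [Matrix.det_diagonal, Finset.prod_const, Finset.card_univ, Fintype.card_fin, hcn])
      (herm_diag_preserve _ (fun _ => hcq)), ?_⟩, ?_⟩
    · rw [Subgroup.mem_center_iff]
      intro g
      apply Subtype.ext
      apply Subtype.ext
      show (g.1 : Matrix (Fin n) (Fin n) F) * Matrix.diagonal (fun _ => c)
        = Matrix.diagonal (fun _ => c) * (g.1 : Matrix (Fin n) (Fin n) F)
      ext i j
      rw [Matrix.diagonal_mul, Matrix.mul_diagonal, mul_comm]
    · apply Subtype.ext
      show Matrix.diagonal (fun _ => c) (⟨0, hn⟩ : Fin n) ⟨0, hn⟩ = c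
      rw [Matrix.diagonal_apply_eq]

end center

end Cfsg.Agent.Lib.Helper18
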