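import Mathlib

/-! Elements of prime order `p` in `GL₄(q)` with `q` of order four modulo `p` act irreducibly, and
their centraliser is the multiplicative group of a field. -/

set_option autoImplicit false

namespace Cfsg.Agent.Lib.Helper18

open Matrix

variable {F : Type*} [Field F] [Finite F]

omit [Finite F] in
theorem irr_pow_modEq_aux {p q a b : ℕ} (hcop : p.gcd q = 1) (hab : b ≤ a)
    (h : q ^ a ≡ q ^ b [MOD p]) : q ^ (a - b) ≡ 1 [MOD p] := by
  have h1 : q ^ a = q ^ b * q ^ (a - b) := by rw [← pow_add]; congr 1; omega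
  rw [h1] at h
  have h2 : q ^ b * q ^ (a - b) ≡ q ^ b * 1 [MOD p] := by rwa [mul_one]
  exact Nat.ModEq.cancel_left_of_coprime (Nat.Coprime.pow_right b hcop) h2

/-- The fixed space of a matrix. -/
def matFix (z : Matrix (Fin 4) (Fin 4) F) : Submodule F (Fin 4 → F) where
  carrier := {v | z *ᵥ v = v}
  add_mem' := by
    intro a b ha hb
    change z *ᵥ (a + b) = a + b
    rw [Matrix.mulVec_add, ha, hb]
  zero_mem' := Matrix.mulVec_zero z
  smul_mem' := by
    intro c a ha
    change z *ᵥ (c • a) = c • a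
    rw [Matrix.mulVec_smul, ha]

theorem irr_card_modEq {p : ℕ} [Fact p.Prime] (z : Matrix (Fin 4) (Fin 4) F) (hz : z ^ p = 1)
    (W : Submodule F (Fin 4 → F)) (hW : ∀ v ∈ W, z *ᵥ v ∈ W) :
    Nat.card W ≡ Nat.card (W ⊓ matFix z : Submodule F (Fin 4 → F)) [MOD p] := by
  classical
  have := Fintype.ofFinite F
  have : Fintype W := Fintype.ofFinite _
  let f : Function.End W := fun w => ⟨z *ᵥ w.1, hW w.1 w.2⟩
  have hpow : ∀ (n : ℕ) (w : W), ((f ^ n) w).1 = (z ^ n) *ᵥ w.1 := by
    intro n
    induction n with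
    | zero =>
      intro w
      rw [pow_zero, pow_zero, Matrix.one_mulVec]
      rfl
    | succ n ih =>
      intro w
      rw [pow_succ, pow_succ, ← Matrix.mulVec_mulVec]
      exact ih (f w)
  have hf : f ^ p ^ 1 = 1 := by
    funext w
    apply Subtype.ext
    rw [pow_one, hpow, hz, Matrix.one_mulVec]
    rfl
  have h1 := Equiv.Perm.card_fixedPoints_modEq (f := f) (p := p) (n := 1) hf
  rw [← Nat.card_eq_fintype_card, ← Nat.card_eq_fintype_card] at h1
  have e : Function.fixedPoints f ≃ (W ⊓ matFix z : Submodule F (Fin 4 → F)) :=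
    { toFun := fun w => ⟨w.1.1, w.1.2, congrArg Subtype.val w.2⟩
      invFun := fun v => ⟨⟨v.1, v.2.1⟩, Subtype.ext v.2.2⟩
      left_inv := fun w => rfl
      right_inv := fun v => rfl }
  rwa [Nat.card_congr e] at h1

theorem irr_of_prime_order {p : ℕ} [Fact p.Prime] (hcop : p.gcd (Nat.card F) = 1)
    (hq : ∀ d, 1 ≤ d → d ≤ 3 → ¬ (Nat.card F ^ d ≡ 1 [MOD p]))
    (z : Matrix (Fin 4) (Fin 4) F) (hz : z ^ p = 1) (hz1 : z ≠ 1)
    (W : Submodule F (Fin 4 → F)) (hW : ∀ v ∈ W, z *ᵥ v ∈ W) : W = ⊥ ∨ W = ⊤ := by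
  have hcard : ∀ S : Submodule F (Fin 4 → F), Nat.card S = Nat.card F ^ Module.finrank F S :=
    fun S => Module.natCard_eq_pow_finrank
  have hle : ∀ S : Submodule F (Fin 4 → F), Module.finrank F S ≤ 4 := by
    intro S
    have := Submodule.finrank_le S
    rwa [Module.finrank_fin_fun] at this
  have htop : ∀ S : Submodule F (Fin 4 → F), Module.finrank F S = 4 → S = ⊤ := by
    intro S hS
    apply Submodule.eq_top_of_finrank_eq
    rw [hS, Module.finrank_fin_fun]
  -- the fixed space is trivial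
  have hfix : matFix z = ⊥ := by
    have h1 := irr_card_modEq z hz ⊤ (fun _ _ => Submodule.mem_top)
    rw [top_inf_eq, hcard, hcard, finrank_top, Module.finrank_fin_fun] at h1
    have h2 := irr_pow_modEq_aux hcop (hle _) h1
    have hd : Module.finrank F (matFix z) = 0 ∨ Module.finrank F (matFix z) = 4 := by
      by_contra hcon
      push Not at hcon
      have := hle (matFix z)
      exact hq _ (by omega) (by omega) h2
    rcases hd with hd | hd
    · exact Submodule.finrank_eq_zero.1 hd
    · exfalso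
      apply hz1
      have ht := htop _ hd
      ext i j
      have : (Pi.single j 1 : Fin 4 → F) ∈ matFix z := by rw [ht]; exact Submodule.mem_top
      have h3 : z *ᵥ (Pi.single j 1 : Fin 4 → F) = Pi.single j 1 := this
      have h4 := congrFun h3 i
      rw [Matrix.mulVec_single_one] at h4
      rw [Matrix.one_apply, ← Matrix.col_apply z j i, h4, Pi.single_apply]
  have h1 := irr_card_modEq z hz W hW
  rw [hfix, inf_bot_eq, hcard, hcard, finrank_bot, pow_zero] at h1
  have hd : Module.finrank F W = 0 ∨ Module.finrank F W = 4 := by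
    by_contra hcon
    push Not at hcon
    have := hle W
    exact hq _ (by omega) (by omega) h1
  rcases hd with hd | hd
  · exact Or.inl (Submodule.finrank_eq_zero.1 hd)
  · exact Or.inr (htop _ hd)

omit [Finite F] in
theorem irr_centralizer_noZeroDivisors (z : Matrix (Fin 4) (Fin 4) F)
    (hirr : ∀ W : Submodule F (Fin 4 → F), (∀ v ∈ W, z *ᵥ v ∈ W) → W = ⊥ ∨ W = ⊤)
    {a b : Matrix (Fin 4) (Fin 4) F} (ha : z * a = a * z) (hab : a * b = 0) : a = 0 ∨ b = 0 := by
  have hext : ∀ c : Matrix (Fin 4) (Fin 4) F, (∀ v, c *ᵥ v = 0) → c = 0 := by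
    intro c hc
    ext i j
    have h4 := congrFun (hc (Pi.single j 1)) i
    rw [Matrix.mulVec_single_one] at h4
    exact h4
  rcases hirr (LinearMap.ker a.mulVecLin) (by
    intro v hv
    rw [LinearMap.mem_ker, Matrix.mulVecLin_apply] at hv ⊢
    rw [Matrix.mulVec_mulVec, ← ha, ← Matrix.mulVec_mulVec, hv, Matrix.mulVec_zero]) with h0 | h0
  · right
    apply hext
    intro v
    have : b *ᵥ v ∈ LinearMap.ker a.mulVecLin := by
      rw [LinearMap.mem_ker, Matrix.mulVecLin_apply, Matrix.mulVec_mulVec, hab, Matrix.zero_mulVec]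
    rw [h0] at this
    exact this
  · left
    apply hext
    intro v
    have : v ∈ LinearMap.ker a.mulVecLin := by rw [h0]; exact Submodule.mem_top
    exact this

theorem irr_centralizer_isField (z : Matrix (Fin 4) (Fin 4) F)
    (hirr : ∀ W : Submodule F (Fin 4 → F), (∀ v ∈ W, z *ᵥ v ∈ W) → W = ⊥ ∨ W = ⊤) :
    IsField (Subring.centralizer ({z} : Set (Matrix (Fin 4) (Fin 4) F))) := by
  have : NoZeroDivisors (Subring.centralizer ({z} : Set (Matrix (Fin 4) (Fin 4) F))) := by
    refine ⟨fun {a b} hab => ?_⟩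
    have ha : z * a.1 = a.1 * z := Subring.mem_centralizer_iff.1 a.2 z rfl
    rcases irr_centralizer_noZeroDivisors z hirr ha (congrArg Subtype.val hab) with h0 | h0
    · exact Or.inl (Subtype.ext h0)
    · exact Or.inr (Subtype.ext h0)
  have : IsDomain (Subring.centralizer ({z} : Set (Matrix (Fin 4) (Fin 4) F))) :=
    NoZeroDivisors.to_isDomain _
  have : Finite (Matrix (Fin 4) (Fin 4) F) := by
    unfold Matrix
    infer_instance
  exact Finite.isDomain_to_isField _

theorem irr_isCyclic (z : Matrix (Fin 4) (Fin 4) F)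
    (hirr : ∀ W : Submodule F (Fin 4 → F), (∀ v ∈ W, z *ᵥ v ∈ W) → W = ⊥ ∨ W = ⊤)
    {Q : Type*} [Group Q] [Finite Q] (f : Q →* Matrix (Fin 4) (Fin 4) F)
    (hf : Function.Injective f) (hc : ∀ x, z * f x = f x * z) : IsCyclic Q := by
  have hfield := irr_centralizer_isField z hirr
  let _ : Field (Subring.centralizer ({z} : Set (Matrix (Fin 4) (Fin 4) F))) := hfield.toField
  let g : Q →* (Subring.centralizer ({z} : Set (Matrix (Fin 4) (Fin 4) F))) :=
    { toFun := fun x => ⟨f x, Subring.mem_centralizer_iff.2 (fun y hy => by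
        rw [Set.mem_singleton_iff.1 hy]; exact hc x)⟩
      map_one' := Subtype.ext f.map_one
      map_mul' := fun x y => Subtype.ext (f.map_mul x y) }
  exact isCyclic_of_injective_ringHom g (fun x y hxy => hf (congrArg Subtype.val hxy))

end Cfsg.Agent.Lib.Helper18
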