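import Mathlib

/-! Criteria for the non-existence of a nilpotent minimal cover. -/

set_option autoImplicit false

namespace Cfsg.Agent.Lib.Helper18

theorem no_nilp_min_cover_T0 {G Ω I : Type*} [Group G] [Fintype Ω] [Fintype I]
    (B : Ω → Subgroup G) (hB : ∀ p, B p ≠ ⊤) (y : I → G)
    (hcard : Fintype.card Ω < Fintype.card I)
    (hin : ∀ i (A : Subgroup G), Group.IsNilpotent A → y i ∈ A → ∀ a ∈ A, ∃ p, a ∈ B p)
    (hsep : ∀ i j (A : Subgroup G), Group.IsNilpotent A → y i ∈ A → y j ∈ A → i = j) :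
    ¬ ∃ 𝓐 : Finset (Subgroup G), ((∀ A ∈ 𝓐, A ≠ ⊤) ∧ (∀ g : G, ∃ A ∈ 𝓐, g ∈ A)) ∧
      (∀ 𝓑 : Finset (Subgroup G), (∀ A ∈ 𝓑, A ≠ ⊤) ∧ (∀ g : G, ∃ A ∈ 𝓑, g ∈ A) →
        𝓐.card ≤ 𝓑.card) ∧ (∀ A ∈ 𝓐, Group.IsNilpotent ↥A) := by
  classical
  rintro ⟨𝓐, ⟨hA1, hA2⟩, hmin, hnil⟩
  choose c hc hc' using hA2
  obtain ⟨𝓒, h𝓒⟩ : ∃ 𝓒, 𝓒 = 𝓐.filter (fun A => ∀ a ∈ A, ∃ p, a ∈ B p) := ⟨_, rfl⟩
  obtain ⟨𝓢, h𝓢⟩ : ∃ 𝓢, 𝓢 = Finset.univ.image B := ⟨_, rfl⟩
  have hcov : (∀ A ∈ (𝓐 \ 𝓒) ∪ 𝓢, A ≠ ⊤) ∧ (∀ g : G, ∃ A ∈ (𝓐 \ 𝓒) ∪ 𝓢, g ∈ A) := by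
    constructor
    · intro A hA
      rcases Finset.mem_union.1 hA with hA | hA
      · exact hA1 A (Finset.mem_sdiff.1 hA).1
      · rw [h𝓢] at hA
        obtain ⟨p, _, rfl⟩ := Finset.mem_image.1 hA
        exact hB p
    · intro g
      by_cases hg : c g ∈ 𝓒
      · rw [h𝓒] at hg
        obtain ⟨p, hp⟩ := (Finset.mem_filter.1 hg).2 g (hc' g)
        exact ⟨B p, Finset.mem_union_right _
          (by rw [h𝓢]; exact Finset.mem_image_of_mem _ (Finset.mem_univ p)), hp⟩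
      · exact ⟨c g, Finset.mem_union_left _ (Finset.mem_sdiff.2 ⟨hc g, hg⟩), hc' g⟩
  have hle := hmin _ hcov
  have hS : 𝓢.card ≤ Fintype.card Ω := by
    rw [h𝓢]; exact Finset.card_image_le
  have hC : Fintype.card I ≤ 𝓒.card := by
    have hf : Function.Injective (fun i => c (y i)) := by
      intro i j hij
      have hij' : c (y i) = c (y j) := hij
      exact hsep i j (c (y i)) (hnil _ (hc _)) (hc' _) (hij' ▸ hc' (y j))
    have hsub : Finset.univ.image (fun i => c (y i)) ⊆ 𝓒 := by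
      intro A hA
      obtain ⟨i, _, rfl⟩ := Finset.mem_image.1 hA
      rw [h𝓒, Finset.mem_filter]
      exact ⟨hc _, hin i _ (hnil _ (hc _)) (hc' _)⟩
    have := Finset.card_le_card hsub
    rw [Finset.card_image_of_injective _ hf, Finset.card_univ] at this
    exact this
  have hCA : 𝓒 ⊆ 𝓐 := by rw [h𝓒]; exact Finset.filter_subset _ _
  have h4 : ((𝓐 \ 𝓒) ∪ 𝓢).card ≤ (𝓐 \ 𝓒).card + 𝓢.card := Finset.card_union_le _ _
  have h5 : (𝓐 \ 𝓒).card = 𝓐.card - 𝓒.card := Finset.card_sdiff_of_subset hCA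
  have h6 := Finset.card_le_card hCA
  omega

/-- A nilpotent group containing `x` lies in every subgroup `S ∋ x` such that `x` lies in no other
conjugate of `S` (in the strong sense below). -/
theorem nilpotent_le_of_selfnorm {L : Type*} [Group L] (A S : Subgroup L)
    (hA : Group.IsNilpotent A) {x : L} (hxA : x ∈ A) (hxS : x ∈ S)
    (hS : ∀ g : L, g⁻¹ * x * g ∈ S → g ∈ S) : A ≤ S := by
  have hnc := Group.normalizerCondition_of_isNilpotent (G := A)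
  by_contra hcon
  have hlt : S.subgroupOf A < ⊤ := by
    rw [lt_top_iff_ne_top]
    intro hh
    exact hcon (Subgroup.subgroupOf_eq_top.1 hh)
  have h1 := hnc _ hlt
  obtain ⟨g, hgN, hgS⟩ := SetLike.exists_of_lt h1
  apply hgS
  rw [Subgroup.mem_subgroupOf]
  apply hS
  have hx' : (⟨x, hxA⟩ : A) ∈ S.subgroupOf A := by rw [Subgroup.mem_subgroupOf]; exact hxS
  have h2 : g⁻¹ ∈ Subgroup.normalizer ((S.subgroupOf A : Subgroup A) : Set A) := inv_mem hgN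
  have h3 := (Subgroup.mem_normalizer_iff.1 h2 ⟨x, hxA⟩).1 hx'
  rw [inv_inv, Subgroup.mem_subgroupOf] at h3
  exact h3

theorem no_nilp_min_cover_T {L Ω I : Type*} [Group L] [Fintype Ω] [Fintype I]
    (G : Subgroup (L ⧸ Subgroup.center L))
    (B : Ω → Subgroup L) (hZ : ∀ p, Subgroup.center L ≤ B p)
    (hB : ∀ p, ∃ g : L, (g : L ⧸ Subgroup.center L) ∈ G ∧ g ∉ B p)
    (x : I → L) (hx : ∀ i, (x i : L ⧸ Subgroup.center L) ∈ G)
    (hcard : Fintype.card Ω < Fintype.card I)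
    (hin : ∀ i (A : Subgroup L), Group.IsNilpotent A →
      (∀ a ∈ A, (a : L ⧸ Subgroup.center L) ∈ G) → x i ∈ A → ∀ a ∈ A, ∃ p, a ∈ B p)
    (hsep : ∀ i j (A : Subgroup L), Group.IsNilpotent A → x i ∈ A → x j ∈ A → i = j) :
    ¬ ∃ 𝓐 : Finset (Subgroup G), ((∀ A ∈ 𝓐, A ≠ ⊤) ∧ (∀ g : G, ∃ A ∈ 𝓐, g ∈ A)) ∧
      (∀ 𝓑 : Finset (Subgroup G), (∀ A ∈ 𝓑, A ≠ ⊤) ∧ (∀ g : G, ∃ A ∈ 𝓑, g ∈ A) →
        𝓐.card ≤ 𝓑.card) ∧ (∀ A ∈ 𝓐, Group.IsNilpotent ↥A) := by
  have hlift : ∀ A : Subgroup G, Group.IsNilpotent A →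
      Group.IsNilpotent ((A.map G.subtype).comap (QuotientGroup.mk' (Subgroup.center L))) := by
    intro A hA
    have h1 : Group.IsNilpotent (A.map G.subtype) :=
      Group.nilpotent_of_mulEquiv (A.equivMapOfInjective G.subtype G.subtype_injective)
    apply Subgroup.isNilpotent_of_ker_le_center
      ((QuotientGroup.mk' (Subgroup.center L)).subgroupComap (A.map G.subtype))
    intro a ha
    have h2 : (QuotientGroup.mk' (Subgroup.center L)) a.1 = 1 :=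
      congrArg Subtype.val (MonoidHom.mem_ker.1 ha)
    have h3 : a.1 ∈ Subgroup.center L := (QuotientGroup.eq_one_iff a.1).1 h2
    rw [Subgroup.mem_center_iff]
    intro b
    exact Subtype.ext (Subgroup.mem_center_iff.1 h3 b.1)
  have hmem : ∀ (A : Subgroup G) (l : L) (hl : (l : L ⧸ Subgroup.center L) ∈ G),
      l ∈ (A.map G.subtype).comap (QuotientGroup.mk' (Subgroup.center L)) ↔
        (⟨(l : L ⧸ Subgroup.center L), hl⟩ : G) ∈ A := by
    intro A l hl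
    constructor
    · rintro ⟨a, ha, e⟩
      have : a = ⟨(l : L ⧸ Subgroup.center L), hl⟩ := Subtype.ext e
      rw [← this]; exact ha
    · intro h
      exact ⟨_, h, rfl⟩
  have hG : ∀ (A : Subgroup G), ∀ l ∈ (A.map G.subtype).comap
      (QuotientGroup.mk' (Subgroup.center L)), (l : L ⧸ Subgroup.center L) ∈ G := by
    rintro A l ⟨a, _, e⟩
    have e' : (a : L ⧸ Subgroup.center L) = (l : L ⧸ Subgroup.center L) := e
    rw [← e']; exact a.2
  apply no_nilp_min_cover_T0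
    (fun p => ((B p).map (QuotientGroup.mk' (Subgroup.center L))).subgroupOf G) ?_
    (fun i => (⟨(x i : L ⧸ Subgroup.center L), hx i⟩ : G)) hcard
  · intro i A hA hi a ha
    obtain ⟨l, hl⟩ := QuotientGroup.mk_surjective a.1
    have hlG : (l : L ⧸ Subgroup.center L) ∈ G := by rw [hl]; exact a.2
    have hla : l ∈ (A.map G.subtype).comap (QuotientGroup.mk' (Subgroup.center L)) := by
      rw [hmem A l hlG]
      have : (⟨(l : L ⧸ Subgroup.center L), hlG⟩ : G) = a := Subtype.ext hl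
      rw [this]; exact ha
    obtain ⟨p, hp⟩ := hin i _ (hlift A hA) (hG A) ((hmem A _ (hx i)).2 hi) l hla
    refine ⟨p, ?_⟩
    rw [Subgroup.mem_subgroupOf]
    exact ⟨l, hp, hl⟩
  · intro i j A hA hi hj
    exact hsep i j _ (hlift A hA) ((hmem A _ (hx i)).2 hi) ((hmem A _ (hx j)).2 hj)
  · intro p hp
    obtain ⟨g, hgG, hgB⟩ := hB p
    apply hgB
    have h1 : (⟨(g : L ⧸ Subgroup.center L), hgG⟩ : G) ∈
        ((B p).map (QuotientGroup.mk' (Subgroup.center L))).subgroupOf G := by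
      rw [hp]; trivial
    rw [Subgroup.mem_subgroupOf] at h1
    obtain ⟨b, hb, e⟩ := h1
    have e' : (b : L ⧸ Subgroup.center L) = (g : L ⧸ Subgroup.center L) := e
    have h2 : b⁻¹ * g ∈ Subgroup.center L := QuotientGroup.eq.1 e'
    have h3 : g = b * (b⁻¹ * g) := by group
    rw [h3]
    exact mul_mem hb (hZ p h2)

end Cfsg.Agent.Lib.Helper18
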