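import Mathlib
import Cfsg.Prelude.Def_LieExceptional

/-! Suzuki ovoid: field facts and the parametrisation of the ovoid. -/

set_option autoImplicit false

namespace Cfsg.Agent.Lib.Helper18

open Cfsg Matrix

/-- The field data used for the Suzuki groups: characteristic two together with an additive
power map `x ↦ x ^ s` whose square is the Frobenius map. -/
structure SzData (F : Type*) [Field F] (s : ℕ) : Prop where
  two : (2 : F) = 0
  add : ∀ x y : F, (x + y) ^ s = x ^ s + y ^ s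
  ss : ∀ x : F, (x ^ s) ^ s = x ^ 2
  sqrt : ∀ x : F, ∃ t : F, t ^ 2 = x
  four_le : 4 ≤ s
  lt_card : s + 2 < Nat.card F

theorem szData_of_card {F : Type*} [Field F] [Fintype F] {m : ℕ} (hm : 1 ≤ m)
    (hF : Fintype.card F = 2 ^ (2 * m + 1)) : SzData F (2 ^ (m + 1)) := by
  have h2 : (2 : F) = 0 := by
    have h := Nat.cast_card_eq_zero F
    rw [hF] at h
    push_cast at h
    exact pow_eq_zero_iff (by omega) |>.1 h
  have : CharP F 2 := CharTwo.of_one_ne_zero_of_two_eq_zero one_ne_zero h2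
  have : Fact (Nat.Prime 2) := ⟨Nat.prime_two⟩
  have hq : ∀ x : F, x ^ (2 ^ (2 * m + 1)) = x := fun x => by
    rw [← hF]; exact FiniteField.pow_card x
  refine ⟨h2, fun x y => add_pow_char_pow x y 2 (m + 1), fun x => ?_, fun x => ?_, ?_, ?_⟩
  · rw [← pow_mul, ← pow_add, show m + 1 + (m + 1) = (2 * m + 1) + 1 by ring, pow_succ, pow_mul, hq]
  · refine ⟨x ^ (2 ^ (2 * m)), ?_⟩
    rw [← pow_mul, ← pow_succ, hq]
  · calc 4 = 2 ^ (1 + 1) := by norm_num
      _ ≤ 2 ^ (m + 1) := Nat.pow_le_pow_right (by norm_num) (by omega)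
  · rw [Nat.card_eq_fintype_card, hF]
    obtain ⟨k, rfl⟩ : ∃ k, m = k + 1 := ⟨m - 1, by omega⟩
    have h1 : 1 ≤ 2 ^ k := Nat.one_le_two_pow
    have e1 : 2 ^ (k + 1 + 1) = 4 * 2 ^ k := by ring
    have e2 : 2 ^ (2 * (k + 1) + 1) = 8 * (2 ^ k * 2 ^ k) := by ring
    rw [e1, e2]
    nlinarith

namespace SzData

variable {F : Type*} [Field F] {s : ℕ} (h : SzData F s)
include h

theorem add_self (x : F) : x + x = 0 := by linear_combination x * h.two

theorem neg_eq (x : F) : -x = x := by linear_combination -x * h.two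

theorem sub_eq (x y : F) : x - y = x + y := by linear_combination -y * h.two

theorem eq_of_add_eq_zero {x y : F} (hxy : x + y = 0) : x = y := by
  linear_combination hxy - y * h.two

theorem s_pos : 0 < s := by have := h.four_le; omega

theorem s_ne : s ≠ 0 := h.s_pos.ne'

theorem sq_inj {x y : F} (hxy : x ^ 2 = y ^ 2) : x = y := by
  have : (x + y) ^ 2 = 0 := by linear_combination hxy + (y ^ 2 + x * y) * h.two
  exact h.eq_of_add_eq_zero (pow_eq_zero_iff (by norm_num) |>.1 this)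

theorem s_inj {x y : F} (hxy : x ^ s = y ^ s) : x = y := by
  apply h.sq_inj
  rw [← h.ss, ← h.ss, hxy]

theorem zero_pow_s : (0 : F) ^ s = 0 := zero_pow h.s_ne

theorem add3 (x y z : F) : (x + y + z) ^ s = x ^ s + y ^ s + z ^ s := by
  rw [h.add, h.add]

/-- `x ↦ x ^ s` fixes only `0` and `1`. -/
theorem eq_zero_or_one_of_pow_s {x : F} (hx : x ^ s = x) : x = 0 ∨ x = 1 := by
  have h2 : x ^ 2 = x := by rw [← h.ss, hx, hx]
  have : x * (x - 1) = 0 := by linear_combination h2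
  rcases mul_eq_zero.1 this with h0 | h0
  · exact Or.inl h0
  · exact Or.inr (sub_eq_zero.1 h0)

/-- `k ^ (s + 1) = 1` forces `k = 1`. -/
theorem eq_one_of_pow_s_add_one {k : F} (hk : k ^ (s + 1) = 1) : k = 1 := by
  have hk0 : k ≠ 0 := by
    rintro rfl
    rw [zero_pow (by omega)] at hk
    exact zero_ne_one hk
  have h1 : (k ^ (s + 1)) ^ s = 1 := by rw [hk, one_pow]
  have h2 : k ^ 2 * k ^ s = 1 := by
    rw [← h.ss k, ← h1, ← pow_mul, ← pow_mul, ← pow_add]; congr 1; ring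
  have h3 : k * k ^ (s + 1) = 1 := by rw [← h2]; ring
  rwa [hk, mul_one] at h3

/-- `k ^ (s + 2) = 1` forces `k = 1`. -/
theorem eq_one_of_pow_s_add_two {k : F} (hk : k ^ (s + 2) = 1) : k = 1 := by
  have h1 : (k ^ (s + 2)) ^ s = 1 := by rw [hk, one_pow]
  have h2 : (k ^ (s + 1)) ^ 2 = 1 ^ 2 := by
    rw [one_pow, ← h1]
    have : (k ^ (s + 2)) ^ s = (k ^ s) ^ s * (k ^ s) ^ 2 := by ring
    rw [this, h.ss]; ring
  exact h.eq_one_of_pow_s_add_one (h.sq_inj h2)

/-- `(x ^ (s - 1)) ^ (s + 1) = x`: the map `x ↦ x ^ (s + 1)` is onto. -/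
theorem exists_pow_s_add_one (x : F) : ∃ a : F, a ^ (s + 1) = x := by
  by_cases hx : x = 0
  · exact ⟨0, by rw [hx, zero_pow (by omega)]⟩
  refine ⟨x ^ s / x, ?_⟩
  have : (x ^ s / x) ^ (s + 1) = ((x ^ s) ^ s / x ^ s) * (x ^ s / x) := by
    rw [pow_succ, div_pow]
  rw [this, h.ss]
  have hxs : x ^ s ≠ 0 := pow_ne_zero _ hx
  field_simp

end SzData

/-! ### The ovoid -/

section ovoid

variable {F : Type*} [Field F]

/-- The function defining the ovoid. -/
def szF (s : ℕ) (x y : F) : F := x * y + x ^ (s + 2) + y ^ s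

/-- Representing vectors of the affine points of the ovoid. -/
def szV (s : ℕ) (x y : F) : Fin 4 → F := ![szF s x y, y, x, 1]

theorem szV_ne_zero (s : ℕ) (x y : F) : szV s x y ≠ 0 := fun h => by
  have := congrFun h 3
  simp [szV] at this

/-- The affine points of the ovoid. -/
def szP (s : ℕ) (x y : F) : Projectivization F (Fin 4 → F) :=
  Projectivization.mk F (szV s x y) (szV_ne_zero s x y)

theorem szE_ne_zero : (![1, 0, 0, 0] : Fin 4 → F) ≠ 0 := by simp

theorem szInf_eq : suzukiPointInfinity F = Projectivization.mk F ![1, 0, 0, 0] szE_ne_zero := rfl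

theorem szF_zero {s : ℕ} (hs : s ≠ 0) : szF s (0 : F) 0 = 0 := by
  simp [szF, hs]

theorem szV_zero {s : ℕ} (hs : s ≠ 0) : szV s (0 : F) 0 = ![0, 0, 0, 1] := by
  simp [szV, szF_zero hs]

theorem szP_zero {s : ℕ} (hs : s ≠ 0) : szP s (0 : F) 0 = suzukiPointZero F := by
  unfold szP suzukiPointZero
  congr 1
  exact szV_zero hs

theorem mem_suzukiOvoid_iff {m : ℕ} {p : Projectivization F (Fin 4 → F)} :
    p ∈ suzukiOvoid F m ↔ p = suzukiPointInfinity F ∨ ∃ x y : F, p = szP (2 ^ (m + 1)) x y := by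
  constructor
  · rintro ⟨v, hv, rfl, rfl | ⟨x, y, rfl⟩⟩
    · exact Or.inl rfl
    · exact Or.inr ⟨x, y, rfl⟩
  · rintro (rfl | ⟨x, y, rfl⟩)
    · exact ⟨_, szE_ne_zero, rfl, Or.inl rfl⟩
    · exact ⟨_, szV_ne_zero _ x y, rfl, Or.inr ⟨x, y, rfl⟩⟩

theorem szInf_mem (m : ℕ) : suzukiPointInfinity F ∈ suzukiOvoid F m :=
  mem_suzukiOvoid_iff.2 (Or.inl rfl)

theorem szP_mem (m : ℕ) (x y : F) : szP (2 ^ (m + 1)) x y ∈ suzukiOvoid F m :=
  mem_suzukiOvoid_iff.2 (Or.inr ⟨x, y, rfl⟩)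

theorem szP_ne_inf (s : ℕ) (x y : F) : szP s x y ≠ suzukiPointInfinity F := fun h => by
  rw [szInf_eq, szP, Projectivization.mk_eq_mk_iff'] at h
  obtain ⟨a, ha⟩ := h
  have := congrFun ha 3
  simp [szV] at this

theorem szP_inj {s : ℕ} {x y x' y' : F} (h : szP s x y = szP s x' y') : x = x' ∧ y = y' := by
  rw [szP, szP, Projectivization.mk_eq_mk_iff'] at h
  obtain ⟨a, ha⟩ := h
  have h3 := congrFun ha 3
  have h2 := congrFun ha 2
  have h1 := congrFun ha 1
  simp [szV] at h1 h2 h3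
  subst h3
  simp at h1 h2
  exact ⟨h2.symm, h1.symm⟩

/-- The ovoid is parametrised by `Option (F × F)`. -/
noncomputable def szOvoidEquiv (m : ℕ) : Option (F × F) ≃ suzukiOvoid F m :=
  Equiv.ofBijective
    (fun o => o.elim ⟨suzukiPointInfinity F, szInf_mem m⟩
      (fun xy => ⟨szP (2 ^ (m + 1)) xy.1 xy.2, szP_mem m xy.1 xy.2⟩))
    (by
      constructor
      · rintro (_ | ⟨x, y⟩) (_ | ⟨x', y'⟩) hh
        · rfl
        · exact absurd (congrArg Subtype.val hh).symm (szP_ne_inf _ _ _)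
        · exact absurd (congrArg Subtype.val hh) (szP_ne_inf _ _ _)
        · obtain ⟨h1, h2⟩ := szP_inj (congrArg Subtype.val hh)
          simp only at h1 h2
          rw [h1, h2]
      · rintro ⟨p, hp⟩
        rcases mem_suzukiOvoid_iff.1 hp with rfl | ⟨x, y, rfl⟩
        · exact ⟨none, rfl⟩
        · exact ⟨some (x, y), rfl⟩)

theorem card_suzukiOvoid [Fintype F] (m : ℕ) :
    Nat.card (suzukiOvoid F m) = Fintype.card F ^ 2 + 1 := by
  rw [← Nat.card_congr (szOvoidEquiv (F := F) m), Nat.card_eq_fintype_card, Fintype.card_option,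
    Fintype.card_prod, sq]

end ovoid

end Cfsg.Agent.Lib.Helper18
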