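import Mathlib
import Cfsg.Prelude.Def_LieExceptional
import Cfsg.Agent.Lib.Helper18.Sz1

/-! Suzuki groups: the explicit elements `T(a,b)`, `D(t)`, `w` and their action on the ovoid. -/

set_option autoImplicit false

namespace Cfsg.Agent.Lib.Helper18

open Cfsg Matrix

variable {F : Type*} [Field F] {s : ℕ}

/-! ### identities for the defining function -/

theorem szF_translate (h : SzData F s) (a b x y : F) :
    szF s (x + a) (y + b + a ^ s * x) =
      szF s x y + a * y + (b + a ^ (s + 1)) * x + szF s a b := by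
  unfold szF
  rw [h.add3, mul_pow, h.ss, pow_add (x + a), h.add]
  linear_combination (a ^ s * x ^ 2 + a ^ 2 * x ^ s + a ^ (s + 1) * x + x * x ^ s * a) * h.two

theorem szF_scale (h : SzData F s) (k x y : F) :
    szF s (k * x) (k ^ (s + 1) * y) = k ^ (s + 2) * szF s x y := by
  unfold szF
  have : (k ^ (s + 1) * y) ^ s = (k ^ s) ^ s * k ^ s * y ^ s := by ring
  rw [this, h.ss]
  ring

theorem szF_pow_s (h : SzData F s) (x y : F) :
    (szF s x y) ^ s = x ^ s * y ^ s + x ^ 2 * (x ^ s) ^ 2 + y ^ 2 := by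
  unfold szF
  rw [h.add3, h.ss, mul_pow]
  have : (x ^ (s + 2)) ^ s = (x ^ s) ^ s * (x ^ s) ^ 2 := by ring
  rw [this, h.ss]

theorem szF_key (h : SzData F s) (x y : F) :
    x * y * (szF s x y) ^ s + y ^ (s + 2) + x ^ s * (szF s x y) ^ 2 = (szF s x y) ^ (s + 1) := by
  rw [pow_succ (szF s x y) s, szF_pow_s h]
  unfold szF
  linear_combination (x ^ s * x * y * x ^ (s + 2) + x ^ s * x * y * y ^ s + x ^ s * x ^ (s + 2) * y ^ s -
    x ^ (s + 2) * x ^ s * y ^ s) * h.two

theorem szF_eq_zero (h : SzData F s) {x y : F} (hf : szF s x y = 0) : x = 0 ∧ y = 0 := by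
  have hk := szF_key h x y
  rw [hf, zero_pow h.s_ne, zero_pow (by norm_num), zero_pow (by omega)] at hk
  have hy : y = 0 := by
    have : y ^ (s + 2) = 0 := by linear_combination hk
    exact pow_eq_zero_iff (by omega) |>.1 this
  subst hy
  have : x ^ (s + 2) = 0 := by
    have := hf
    unfold szF at this
    rw [zero_pow h.s_ne] at this
    linear_combination this
  exact ⟨pow_eq_zero_iff (by omega) |>.1 this, rfl⟩

theorem szF_invert (h : SzData F s) {x y : F} (hf : szF s x y ≠ 0) :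
    szF s (y / szF s x y) (x / szF s x y) = 1 / szF s x y := by
  have hk := szF_key h x y
  obtain ⟨f, hfd⟩ : ∃ f, f = szF s x y := ⟨_, rfl⟩
  rw [← hfd] at hk hf ⊢
  unfold szF
  rw [div_pow, div_pow]
  have hfs : f ^ s ≠ 0 := pow_ne_zero _ hf
  have e1 : f ^ (s + 2) = f ^ s * f ^ 2 := pow_add _ _ _
  have e2 : f ^ (s + 1) = f ^ s * f := pow_succ _ _
  rw [e1]
  rw [e2] at hk
  field_simp
  linear_combination hk

/-! ### the elements -/

/-- The matrix of the translation `T(a,b)`. -/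
def szTMat (s : ℕ) (a b : F) : Matrix (Fin 4) (Fin 4) F :=
  !![1, a, b + a ^ (s + 1), szF s a b; 0, 1, a ^ s, b; 0, 0, 1, a; 0, 0, 0, 1]

theorem szTMat_det (s : ℕ) (a b : F) : (szTMat s a b).det = 1 := by
  simp [szTMat, Matrix.det_succ_row_zero, Fin.sum_univ_succ, Fin.succAbove]

/-- The translation `T(a,b)`. -/
def szT (s : ℕ) (a b : F) : SpecialLinearGroup (Fin 4) F := ⟨szTMat s a b, szTMat_det s a b⟩

theorem szTMat_mulVec_V (h : SzData F s) (a b x y : F) :
    szTMat s a b *ᵥ szV s x y = szV s (x + a) (y + b + a ^ s * x) := by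
  ext i
  fin_cases i
  · simp [szTMat, szV, Matrix.mulVec, dotProduct, Fin.sum_univ_succ, szF_translate h]
    ring
  · simp [szTMat, szV, Matrix.mulVec, dotProduct, Fin.sum_univ_succ]
    ring
  · simp [szTMat, szV, Matrix.mulVec, dotProduct, Fin.sum_univ_succ]
  · simp [szTMat, szV, Matrix.mulVec, dotProduct, Fin.sum_univ_succ]

theorem szTMat_mulVec_E (a b : F) : szTMat s a b *ᵥ ![1, 0, 0, 0] = ![1, 0, 0, 0] := by
  ext i
  fin_cases i <;> simp [szTMat, Matrix.mulVec, dotProduct, Fin.sum_univ_succ]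

theorem szT_smul_P (h : SzData F s) (a b x y : F) :
    szT s a b • szP s x y = szP s (x + a) (y + b + a ^ s * x) := by
  unfold szP
  rw [Projectivization.smul_mk]
  congr 1
  exact szTMat_mulVec_V h a b x y

theorem szT_smul_inf (a b : F) : szT s a b • suzukiPointInfinity F = suzukiPointInfinity F := by
  rw [szInf_eq, Projectivization.smul_mk]
  congr 1
  exact szTMat_mulVec_E a b

/-- The matrix of the torus element `D(t)`. -/
def szDMat (s : ℕ) (t : Fˣ) : Matrix (Fin 4) (Fin 4) F :=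
  diagonal ![(t : F) ^ (s + 2), (t : F) ^ s, ((t⁻¹ : Fˣ) : F) ^ s, ((t⁻¹ : Fˣ) : F) ^ (s + 2)]

theorem szDMat_det (s : ℕ) (t : Fˣ) : (szDMat s t).det = 1 := by
  rw [szDMat, det_diagonal, Fin.prod_univ_four]
  simp only [cons_val_zero, cons_val_one, cons_val]
  have : (t : F) * ((t⁻¹ : Fˣ) : F) = 1 := by simp
  calc _ = ((t : F) * ((t⁻¹ : Fˣ) : F)) ^ (s + 2) * ((t : F) * ((t⁻¹ : Fˣ) : F)) ^ s := by ring
    _ = 1 := by rw [this]; simp

/-- The torus element `D(t)`. -/
def szD (s : ℕ) (t : Fˣ) : SpecialLinearGroup (Fin 4) F := ⟨szDMat s t, szDMat_det s t⟩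

theorem szDMat_mulVec_V (h : SzData F s) (t : Fˣ) (x y : F) :
    szDMat s t *ᵥ szV s x y =
      ((t⁻¹ : Fˣ) : F) ^ (s + 2) • szV s ((t : F) ^ 2 * x) (((t : F) ^ 2) ^ (s + 1) * y) := by
  have ht : (t : F) * ((t⁻¹ : Fˣ) : F) = 1 := by simp
  obtain ⟨u, hu⟩ : ∃ u : F, u = ((t⁻¹ : Fˣ) : F) := ⟨_, rfl⟩
  rw [← hu] at ht
  rw [szDMat, ← hu]
  ext i
  fin_cases i
  · simp [szV, Matrix.mulVec_diagonal, szF_scale h]
    calc (t : F) ^ (s + 2) * szF s x y
        = (t : F) ^ (s + 2) * szF s x y * ((t : F) * u) ^ (s + 2) := by rw [ht]; simp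
      _ = _ := by ring
  · simp [szV, Matrix.mulVec_diagonal]
    calc (t : F) ^ s * y = (t : F) ^ s * y * ((t : F) * u) ^ (s + 2) := by rw [ht]; simp
      _ = _ := by ring
  · simp [szV, Matrix.mulVec_diagonal]
    calc u ^ s * x = u ^ s * x * ((t : F) * u) ^ 2 := by rw [ht]; simp
      _ = _ := by ring
  · simp [szV, Matrix.mulVec_diagonal]

theorem szDMat_mulVec_E (t : Fˣ) :
    szDMat s t *ᵥ ![1, 0, 0, 0] = (t : F) ^ (s + 2) • ![1, 0, 0, 0] := by
  ext i
  fin_cases i <;> simp [szDMat, Matrix.mulVec_diagonal]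

theorem szD_smul_P (h : SzData F s) (t : Fˣ) (x y : F) :
    szD s t • szP s x y = szP s ((t : F) ^ 2 * x) (((t : F) ^ 2) ^ (s + 1) * y) := by
  unfold szP
  rw [Projectivization.smul_mk, Projectivization.mk_eq_mk_iff']
  exact ⟨_, (szDMat_mulVec_V h t x y).symm⟩

theorem szD_smul_inf (t : Fˣ) : szD s t • suzukiPointInfinity F = suzukiPointInfinity F := by
  rw [szInf_eq, Projectivization.smul_mk, Projectivization.mk_eq_mk_iff']
  exact ⟨_, (szDMat_mulVec_E t).symm⟩

theorem suzukiForm_det : (suzukiForm F).det = 1 := by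
  simp [suzukiForm, Matrix.det_succ_row_zero, Fin.sum_univ_succ, Fin.succAbove]
  ring

/-- The Weyl element `w`. -/
def szW : SpecialLinearGroup (Fin 4) F := ⟨suzukiForm F, suzukiForm_det⟩

theorem szW_mulVec (v : Fin 4 → F) : suzukiForm F *ᵥ v = ![v 3, v 2, v 1, v 0] := by
  ext i
  fin_cases i <;> simp [suzukiForm, Matrix.mulVec, dotProduct, Fin.sum_univ_succ]

theorem szW_smul_inf (hs : s ≠ 0) : (szW : SpecialLinearGroup (Fin 4) F) • suzukiPointInfinity F = szP s 0 0 := by
  rw [szInf_eq, Projectivization.smul_mk, szP]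
  congr 1
  rw [szV_zero hs]
  exact (szW_mulVec _).trans (by simp)

theorem szW_smul_zero (hs : s ≠ 0) : (szW : SpecialLinearGroup (Fin 4) F) • szP s 0 0 = suzukiPointInfinity F := by
  rw [szInf_eq, szP, Projectivization.smul_mk]
  congr 1
  rw [szV_zero hs]
  exact (szW_mulVec _).trans (by simp)

theorem szW_smul_P (h : SzData F s) {x y : F} (hf : szF s x y ≠ 0) :
    (szW : SpecialLinearGroup (Fin 4) F) • szP s x y = szP s (y / szF s x y) (x / szF s x y) := by
  unfold szP
  rw [Projectivization.smul_mk, Projectivization.mk_eq_mk_iff']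
  refine ⟨szF s x y, ?_⟩
  refine Eq.trans ?_ (szW_mulVec _).symm
  ext i
  fin_cases i
  · simp [szV, szF_invert h hf, hf]
  · simp [szV]; field_simp
  · simp [szV]; field_simp
  · simp [szV]

end Cfsg.Agent.Lib.Helper18
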