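import Mathlib
import Cfsg.Prelude.Def_LieExceptional
import Cfsg.Agent.Lib.Helper18.Sz1
import Cfsg.Agent.Lib.Helper18.Sz2

/-! Suzuki groups: membership of the explicit elements, and the two-point stabiliser. -/

set_option autoImplicit false

namespace Cfsg.Agent.Lib.Helper18

open Cfsg Matrix

variable {F : Type*} [Field F] {s : ℕ}

open Polynomial in
theorem sz_poly4 (h : SzData F s) [Finite F] {A B G E : F}
    (hz : ∀ x : F, A * x ^ 2 + B * x ^ (s + 2) + G * x ^ s + E * x = 0) :
    A = 0 ∧ B = 0 ∧ G = 0 ∧ E = 0 := by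
  classical
  have := Fintype.ofFinite F
  have hs := h.four_le
  obtain ⟨p, hp⟩ : ∃ p : F[X], p = C A * X ^ 2 + C B * X ^ (s + 2) + C G * X ^ s + C E * X :=
    ⟨_, rfl⟩
  have hdeg : p.natDegree ≤ s + 2 := by
    rw [hp]
    compute_degree
  have hp0 : p = 0 := by
    refine Polynomial.eq_zero_of_natDegree_lt_card_of_eval_eq_zero p (f := id)
      Function.injective_id (fun x => ?_) ?_
    · rw [hp]
      simpa using hz x
    · have := h.lt_card
      rw [Nat.card_eq_fintype_card] at this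
      omega
  have c2 := congrArg (fun q => q.coeff 2) hp0
  have c1 := congrArg (fun q => q.coeff 1) hp0
  have cs := congrArg (fun q => q.coeff s) hp0
  have cs2 := congrArg (fun q => q.coeff (s + 2)) hp0
  simp only [hp, coeff_add, coeff_C_mul, coeff_X_pow, coeff_X, coeff_zero] at c1 c2 cs cs2
  rw [if_pos trivial, if_neg (by omega), if_neg (by omega), if_neg (by omega)] at c2
  rw [if_neg (by omega), if_neg (by omega), if_neg (by omega), if_pos trivial] at c1
  rw [if_neg (by omega), if_neg (by omega), if_pos trivial, if_neg (by omega)] at cs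
  rw [if_neg (by omega), if_pos trivial, if_neg (by omega), if_neg (by omega)] at cs2
  simp only [mul_zero, mul_one, add_zero, zero_add] at c1 c2 cs cs2
  exact ⟨c2, cs2, cs, c1⟩

theorem szV_mulVec (M : Matrix (Fin 4) (Fin 4) F) (x y : F) (i : Fin 4) :
    (M *ᵥ szV s x y) i = M i 0 * szF s x y + M i 1 * y + M i 2 * x + M i 3 := by
  simp [Matrix.mulVec, dotProduct, Fin.sum_univ_four, szV]

theorem sz_two_point_aux (h : SzData F s) [Finite F] (M : Matrix (Fin 4) (Fin 4) F)
    (h10 : M 1 0 = 0) (h20 : M 2 0 = 0) (h30 : M 3 0 = 0)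
    (h03 : M 0 3 = 0) (h13 : M 1 3 = 0) (h23 : M 2 3 = 0)
    (hP : ∀ x y, ∃ c x' y' : F, c ≠ 0 ∧ c • szV s x' y' = M *ᵥ szV s x y) :
    ∃ δ k : F, δ ≠ 0 ∧ M = δ • diagonal ![k ^ (s + 2), k ^ (s + 1), k, 1] := by
  have hs := h.four_le
  -- the last row
  have hne : ∀ x y, M 3 1 * y + M 3 2 * x + M 3 3 ≠ 0 := by
    intro x y
    obtain ⟨c, x', y', hc, he⟩ := hP x y
    have := congrFun he 3
    rw [szV_mulVec, h30] at this
    simp [szV] at this
    rw [← this]
    exact hc
  have h31 : M 3 1 = 0 := by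
    by_contra hh
    apply hne 0 (-M 3 3 / M 3 1)
    field_simp
    ring
  have h32 : M 3 2 = 0 := by
    by_contra hh
    apply hne (-M 3 3 / M 3 2) 0
    field_simp
    ring
  have hδ : M 3 3 ≠ 0 := by
    have := hne 0 0
    simpa using this
  obtain ⟨δ, hδd⟩ : ∃ δ, δ = M 3 3 := ⟨_, rfl⟩
  rw [← hδd] at hδ
  -- the functional equation
  have hfun : ∀ x y, δ * szF s ((M 2 1 * y + M 2 2 * x) / δ) ((M 1 1 * y + M 1 2 * x) / δ) =
      M 0 0 * szF s x y + M 0 1 * y + M 0 2 * x := by
    intro x y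
    obtain ⟨c, x', y', hc, he⟩ := hP x y
    have e3 := congrFun he 3
    have e2 := congrFun he 2
    have e1 := congrFun he 1
    have e0 := congrFun he 0
    rw [szV_mulVec] at e0 e1 e2 e3
    simp [szV, h30, h31, h32, h20, h10, h03, h13, h23] at e0 e1 e2 e3
    rw [← hδd] at e3
    subst e3
    have hx : x' = (M 2 1 * y + M 2 2 * x) / c := by rw [← e2]; field_simp
    have hy : y' = (M 1 1 * y + M 1 2 * x) / c := by rw [← e1]; field_simp
    rw [← hx, ← hy, e0]
  -- y = 0
  have hy0 := sz_poly4 h (A := δ * (M 2 2 / δ * (M 1 2 / δ))) (B := δ * (M 2 2 / δ) ^ (s + 2) - M 0 0)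
    (G := δ * (M 1 2 / δ) ^ s) (E := - M 0 2) (fun x => by
      have := hfun x 0
      unfold szF at this
      rw [zero_pow h.s_ne] at this
      simp only [mul_zero, zero_add, add_zero] at this
      have e1 : M 2 2 * x / δ = M 2 2 / δ * x := by ring
      have e2 : M 1 2 * x / δ = M 1 2 / δ * x := by ring
      rw [e1, e2, mul_pow, mul_pow] at this
      linear_combination this)
  have hx0 := sz_poly4 h (A := δ * (M 2 1 / δ * (M 1 1 / δ))) (B := δ * (M 2 1 / δ) ^ (s + 2))
    (G := δ * (M 1 1 / δ) ^ s - M 0 0) (E := - M 0 1) (fun y => by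
      have := hfun 0 y
      unfold szF at this
      rw [zero_pow (by omega : s + 2 ≠ 0)] at this
      simp only [mul_zero, zero_mul, zero_add, add_zero] at this
      have e1 : M 2 1 * y / δ = M 2 1 / δ * y := by ring
      have e2 : M 1 1 * y / δ = M 1 1 / δ * y := by ring
      rw [e1, e2, mul_pow, mul_pow] at this
      linear_combination this)
  obtain ⟨-, hB, hG, hE⟩ := hy0
  obtain ⟨-, hB', hG', hE'⟩ := hx0
  have h12 : M 1 2 = 0 := by
    have : (M 1 2 / δ) ^ s = 0 := (mul_eq_zero.1 hG).resolve_left hδ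
    have := pow_eq_zero_iff h.s_ne |>.1 this
    exact (div_eq_zero_iff.1 this).resolve_right hδ
  have h21 : M 2 1 = 0 := by
    have : (M 2 1 / δ) ^ (s + 2) = 0 := (mul_eq_zero.1 hB').resolve_left hδ
    have := pow_eq_zero_iff (by omega) |>.1 this
    exact (div_eq_zero_iff.1 this).resolve_right hδ
  have h02 : M 0 2 = 0 := by linear_combination -hE
  have h01 : M 0 1 = 0 := by linear_combination -hE'
  obtain ⟨k, hk⟩ : ∃ k, k = M 2 2 / δ := ⟨_, rfl⟩
  obtain ⟨l, hl⟩ : ∃ l, l = M 1 1 / δ := ⟨_, rfl⟩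
  rw [← hk] at hB
  rw [← hl] at hG'
  have h00 : M 0 0 = δ * k ^ (s + 2) := by linear_combination -hB
  have hlk : l ^ s = k ^ (s + 2) := by
    apply mul_left_cancel₀ hδ
    linear_combination hG' + h00
  have hl' : l = k ^ (s + 1) := by
    apply h.sq_inj
    rw [← h.ss l, hlk]
    have : (k ^ (s + 2)) ^ s = (k ^ s) ^ s * (k ^ s) ^ 2 := by ring
    rw [this, h.ss]
    ring
  refine ⟨δ, k, hδ, ?_⟩
  have h22 : M 2 2 = δ * k := by rw [hk]; field_simp
  have h11 : M 1 1 = δ * k ^ (s + 1) := by rw [← hl', hl]; field_simp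
  ext i j
  fin_cases i <;> fin_cases j <;>
    simp [h00, h01, h02, h03, h10, h11, h12, h13, h20, h21, h22, h23, h30, h31, h32, ← hδd]

end Cfsg.Agent.Lib.Helper18
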