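import Mathlib
import Cfsg.Prelude.Def_LieExceptional
import Cfsg.Agent.Lib.Helper18.Sz1
import Cfsg.Agent.Lib.Helper18.Sz2
import Cfsg.Agent.Lib.Helper18.Sz3

/-! Suzuki groups: membership of the explicit elements, stabilisers, Bruhat decomposition. -/

set_option autoImplicit false

namespace Cfsg.Agent.Lib.Helper18

open Cfsg Matrix
open scoped Pointwise

variable {F : Type*} [Field F] [Finite F] {m : ℕ}

theorem finite_suzukiOvoid : (suzukiOvoid F m).Finite := by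
  have : Finite (suzukiOvoid F m) := Finite.of_equiv _ (szOvoidEquiv (F := F) m)
  exact Set.toFinite _

theorem mem_Sz_of_forall {g : SpecialLinearGroup (Fin 4) F}
    (h1 : g • suzukiPointInfinity F ∈ suzukiOvoid F m)
    (h2 : ∀ x y, g • szP (2 ^ (m + 1)) x y ∈ suzukiOvoid F m) : g ∈ Sz F m := by
  rw [MulAction.mem_stabilizer_set_iff_smul_set_subset finite_suzukiOvoid]
  rintro _ ⟨p, hp, rfl⟩
  rcases mem_suzukiOvoid_iff.1 hp with rfl | ⟨x, y, rfl⟩
  · exact h1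
  · exact h2 x y

omit [Finite F] in
theorem Sz_smul_mem {g : SpecialLinearGroup (Fin 4) F} (hg : g ∈ Sz F m)
    {p : Projectivization F (Fin 4 → F)} (hp : p ∈ suzukiOvoid F m) : g • p ∈ suzukiOvoid F m := by
  have : g • suzukiOvoid F m = suzukiOvoid F m := hg
  rw [← this]
  exact Set.smul_mem_smul_set hp

theorem szT_mem (h : SzData F (2 ^ (m + 1))) (a b : F) : szT (2 ^ (m + 1)) a b ∈ Sz F m := by
  apply mem_Sz_of_forall
  · rw [szT_smul_inf]; exact szInf_mem m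
  · intro x y
    rw [szT_smul_P h]; exact szP_mem m _ _

theorem szD_mem (h : SzData F (2 ^ (m + 1))) (t : Fˣ) : szD (2 ^ (m + 1)) t ∈ Sz F m := by
  apply mem_Sz_of_forall
  · rw [szD_smul_inf]; exact szInf_mem m
  · intro x y
    rw [szD_smul_P h]; exact szP_mem m _ _

theorem szW_mem (h : SzData F (2 ^ (m + 1))) : (szW : SpecialLinearGroup (Fin 4) F) ∈ Sz F m := by
  apply mem_Sz_of_forall
  · rw [szW_smul_inf h.s_ne]; exact szP_mem m _ _
  · intro x y
    by_cases hf : szF (2 ^ (m + 1)) x y = 0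
    · obtain ⟨rfl, rfl⟩ := szF_eq_zero h hf
      rw [szW_smul_zero h.s_ne]; exact szInf_mem m
    · rw [szW_smul_P h hf]; exact szP_mem m _ _

theorem Sz_two_point (h : SzData F (2 ^ (m + 1))) {g : SpecialLinearGroup (Fin 4) F}
    (hg : g ∈ Sz F m) (h1 : g • suzukiPointInfinity F = suzukiPointInfinity F)
    (h2 : g • szP (2 ^ (m + 1)) 0 0 = szP (2 ^ (m + 1)) (0 : F) 0) :
    ∃ t : Fˣ, g = szD (2 ^ (m + 1)) t := by
  obtain ⟨s, hs⟩ : ∃ s, s = 2 ^ (m + 1) := ⟨_, rfl⟩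
  rw [← hs] at h h2 ⊢
  have hcol0 : ∀ i : Fin 4, i ≠ 0 → g.1 i 0 = 0 := by
    have h1' := h1
    rw [szInf_eq, Projectivization.smul_mk, Projectivization.mk_eq_mk_iff'] at h1'
    obtain ⟨a, ha⟩ := h1'
    intro i hi
    have := congrFun ha i
    have e : (g • (![1, 0, 0, 0] : Fin 4 → F)) i = g.1 i 0 := by
      change (g.1 *ᵥ ![1, 0, 0, 0]) i = _
      simp [Matrix.mulVec, dotProduct, Fin.sum_univ_four]
    rw [e] at this
    rw [← this]
    fin_cases i <;> simp at hi ⊢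
  have hcol3 : ∀ i : Fin 4, i ≠ 3 → g.1 i 3 = 0 := by
    have h2' := h2
    rw [szP, Projectivization.smul_mk, Projectivization.mk_eq_mk_iff'] at h2'
    obtain ⟨a, ha⟩ := h2'
    intro i hi
    have := congrFun ha i
    have e : (g • szV s (0 : F) 0) i = g.1 i 3 := by
      change (g.1 *ᵥ szV s 0 0) i = _
      rw [szV_mulVec, szF_zero h.s_ne]
      simp
    rw [e, szV_zero h.s_ne] at this
    rw [← this]
    fin_cases i <;> simp at hi ⊢
  have hP : ∀ x y, ∃ c x' y' : F, c ≠ 0 ∧ c • szV s x' y' = g.1 *ᵥ szV s x y := by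
    intro x y
    have hmem : g • szP s x y ∈ suzukiOvoid F m := Sz_smul_mem hg (hs ▸ szP_mem m x y)
    rcases mem_suzukiOvoid_iff.1 hmem with hh | ⟨x', y', hh⟩
    · exfalso
      rw [← h1] at hh
      exact szP_ne_inf _ _ _ (smul_left_cancel g hh)
    · rw [← hs, szP, szP, Projectivization.smul_mk, Projectivization.mk_eq_mk_iff'] at hh
      obtain ⟨c, hc⟩ := hh
      refine ⟨c, x', y', ?_, hc⟩
      rintro rfl
      rw [zero_smul] at hc
      exact szV_ne_zero s x y ((smul_eq_zero_iff_eq g).1 hc.symm)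
  obtain ⟨δ, k, hδ, hM⟩ := sz_two_point_aux h g.1 (hcol0 1 (by decide)) (hcol0 2 (by decide))
    (hcol0 3 (by decide)) (hcol3 0 (by decide)) (hcol3 1 (by decide)) (hcol3 2 (by decide)) hP
  have hdet : δ ^ 4 * (k ^ (s + 2) * k ^ (s + 1) * k * 1) = 1 := by
    have := g.2
    rw [hM, Matrix.det_smul, det_diagonal, Fin.prod_univ_four] at this
    simpa using this
  obtain ⟨t0, ht0⟩ := h.sqrt k
  have h4 : δ * t0 ^ (s + 2) = 1 := by
    apply h.sq_inj
    apply h.sq_inj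
    rw [one_pow, one_pow, ← hdet, ← ht0]
    ring
  have ht00 : t0 ≠ 0 := by
    rintro rfl
    rw [zero_pow (by omega), mul_zero] at h4
    exact zero_ne_one h4
  refine ⟨Units.mk0 t0 ht00, ?_⟩
  apply Subtype.ext
  change g.1 = szDMat s _
  rw [hM, szDMat, ← ht0]
  have hinv : ((Units.mk0 t0 ht00)⁻¹ : Fˣ) = Units.mk0 t0⁻¹ (inv_ne_zero ht00) := by
    ext; simp
  rw [hinv]
  simp only [Units.val_mk0]
  have hδ' : δ = (t0⁻¹) ^ (s + 2) := by
    rw [inv_pow]
    exact eq_inv_of_mul_eq_one_left h4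
  have hti : t0 * t0⁻¹ = 1 := mul_inv_cancel₀ ht00
  obtain ⟨u, hu⟩ : ∃ u, u = t0⁻¹ := ⟨_, rfl⟩
  rw [← hu] at hδ' hti ⊢
  rw [hδ', ← Matrix.diagonal_smul]
  congr 1
  ext i
  fin_cases i
  · simp
    calc u ^ (s + 2) * (t0 ^ 2) ^ (s + 2) = (t0 * u) ^ (s + 2) * t0 ^ (s + 2) := by ring
      _ = _ := by rw [hti]; simp
  · simp
    calc u ^ (s + 2) * (t0 ^ 2) ^ (s + 1) = (t0 * u) ^ (s + 2) * t0 ^ s := by ring
      _ = _ := by rw [hti]; simp
  · simp
    calc u ^ (s + 2) * t0 ^ 2 = (t0 * u) ^ 2 * u ^ s := by ring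
      _ = _ := by rw [hti]; simp
  · simp

omit [Finite F] in
theorem szT_smul_zero (h : SzData F (2 ^ (m + 1))) (a b : F) :
    szT (2 ^ (m + 1)) a b • szP (2 ^ (m + 1)) 0 0 = szP (2 ^ (m + 1)) a b := by
  rw [szT_smul_P h]
  simp

theorem Sz_one_point (h : SzData F (2 ^ (m + 1))) {g : SpecialLinearGroup (Fin 4) F}
    (hg : g ∈ Sz F m) (h1 : g • suzukiPointInfinity F = suzukiPointInfinity F) :
    ∃ (a b : F) (t : Fˣ), g = szT (2 ^ (m + 1)) a b * szD (2 ^ (m + 1)) t := by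
  have hmem : g • szP (2 ^ (m + 1)) 0 0 ∈ suzukiOvoid F m := Sz_smul_mem hg (szP_mem m 0 0)
  rcases mem_suzukiOvoid_iff.1 hmem with hh | ⟨a, b, hh⟩
  · exfalso
    rw [← h1] at hh
    exact szP_ne_inf _ _ _ (smul_left_cancel g hh)
  · obtain ⟨t, ht⟩ := Sz_two_point h (g := (szT (2 ^ (m + 1)) a b)⁻¹ * g)
      ((Sz F m).mul_mem ((Sz F m).inv_mem (szT_mem h a b)) hg)
      (by rw [mul_smul, h1, inv_smul_eq_iff, szT_smul_inf])
      (by rw [mul_smul, hh, inv_smul_eq_iff, szT_smul_zero h])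
    exact ⟨a, b, t, by rw [← ht]; group⟩

omit [Finite F] in
theorem szW_mul_self : (szW : SpecialLinearGroup (Fin 4) F) * szW = 1 := by
  apply Subtype.ext
  change suzukiForm F * suzukiForm F = 1
  ext i j
  fin_cases i <;> fin_cases j <;> simp [suzukiForm, Matrix.mul_apply, Fin.sum_univ_four]

theorem Sz_bruhat (h : SzData F (2 ^ (m + 1))) {g : SpecialLinearGroup (Fin 4) F}
    (hg : g ∈ Sz F m) :
    (∃ (a b : F) (t : Fˣ), g = szT (2 ^ (m + 1)) a b * szD (2 ^ (m + 1)) t) ∨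
    ∃ (a b c d : F) (t : Fˣ), g = szT (2 ^ (m + 1)) a b * szW *
      (szT (2 ^ (m + 1)) c d * szD (2 ^ (m + 1)) t) := by
  have hmem : g • suzukiPointInfinity F ∈ suzukiOvoid F m := Sz_smul_mem hg (szInf_mem m)
  rcases mem_suzukiOvoid_iff.1 hmem with hh | ⟨a, b, hh⟩
  · exact Or.inl (Sz_one_point h hg hh)
  · right
    obtain ⟨c, d, t, ht⟩ := Sz_one_point h (g := szW * (szT (2 ^ (m + 1)) a b)⁻¹ * g)
      ((Sz F m).mul_mem ((Sz F m).mul_mem (szW_mem h) ((Sz F m).inv_mem (szT_mem h a b))) hg)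
      (by
        rw [mul_smul, mul_smul, hh, ← szT_smul_zero h a b, inv_smul_smul, szW_smul_zero h.s_ne])
    refine ⟨a, b, c, d, t, ?_⟩
    rw [← ht]
    have := szW_mul_self (F := F)
    calc g = szT (2 ^ (m + 1)) a b * (szW * szW) * ((szT (2 ^ (m + 1)) a b)⁻¹ * g) := by
          rw [this]; group
      _ = _ := by group

end Cfsg.Agent.Lib.Helper18
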