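import Mathlib
import Cfsg.Prelude.Def_LieExceptional
import Cfsg.Agent.Lib.Helper18.Sz1
import Cfsg.Agent.Lib.Helper18.Sz2
import Cfsg.Agent.Lib.Helper18.Sz3
import Cfsg.Agent.Lib.Helper18.Sz4

/-! Suzuki groups: the invariant form, relations, two-transitivity, orders. -/

set_option autoImplicit false

namespace Cfsg.Agent.Lib.Helper18

open Cfsg Matrix
open scoped Pointwise

section rel

variable {F : Type*} [Field F] {s : ℕ}

theorem szTMat_form (h : SzData F s) (a b : F) :
    (szTMat s a b)ᵀ * suzukiForm F * szTMat s a b = suzukiForm F := by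
  have h2 := h.two
  ext i j
  fin_cases i <;> fin_cases j <;>
    simp [szTMat, suzukiForm, Matrix.mul_apply, Fin.sum_univ_four] <;>
    first
      | linear_combination a * h2
      | linear_combination (b + a ^ (s + 1)) * h2
      | linear_combination (a ^ s) * h2
      | linear_combination (szF s a b + a * b) * h2

theorem szDMat_form (t : Fˣ) :
    (szDMat s t)ᵀ * suzukiForm F * szDMat s t = suzukiForm F := by
  have ht : (t : F) * ((t⁻¹ : Fˣ) : F) = 1 := by simp
  obtain ⟨u, hu⟩ : ∃ u : F, u = ((t⁻¹ : Fˣ) : F) := ⟨_, rfl⟩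
  rw [← hu] at ht
  have e1 : (t : F) ^ (s + 2) * u ^ (s + 2) = 1 := by rw [← mul_pow, ht, one_pow]
  have e2 : (t : F) ^ s * u ^ s = 1 := by rw [← mul_pow, ht, one_pow]
  have e1' : u ^ (s + 2) * (t : F) ^ (s + 2) = 1 := by rw [← mul_pow, mul_comm, ht, one_pow]
  have e2' : u ^ s * (t : F) ^ s = 1 := by rw [← mul_pow, mul_comm, ht, one_pow]
  rw [szDMat, ← hu, diagonal_transpose]
  ext i j
  fin_cases i <;> fin_cases j <;>
    simp [suzukiForm, Matrix.mul_apply, Matrix.diagonal_apply, e1, e2, e1', e2']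

theorem szWMat_form : (suzukiForm F)ᵀ * suzukiForm F * suzukiForm F = suzukiForm F := by
  ext i j
  fin_cases i <;> fin_cases j <;>
    simp [suzukiForm, Matrix.mul_apply, Fin.sum_univ_four]

theorem sz_form_mul {A B J : Matrix (Fin 4) (Fin 4) F} (hA : Aᵀ * J * A = J) (hB : Bᵀ * J * B = J) :
    (A * B)ᵀ * J * (A * B) = J := by
  rw [transpose_mul]
  calc Bᵀ * Aᵀ * J * (A * B) = Bᵀ * (Aᵀ * J * A) * B := by simp only [Matrix.mul_assoc]
    _ = J := by rw [hA, hB]

theorem szD_mul (t u : Fˣ) : szD s (t * u) = szD s t * szD s u := by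
  apply Subtype.ext
  change szDMat s (t * u) = szDMat s t * szDMat s u
  rw [szDMat, szDMat, szDMat, diagonal_mul_diagonal]
  congr 1
  ext i
  fin_cases i <;> simp [mul_pow, mul_comm]

theorem szD_one : szD s (1 : Fˣ) = 1 := by
  apply Subtype.ext
  change szDMat s 1 = 1
  rw [szDMat, ← diagonal_one]
  congr 1
  ext i
  fin_cases i <;> simp

/-- The torus as a homomorphism. -/
def szDHom (F : Type*) [Field F] (s : ℕ) : Fˣ →* SpecialLinearGroup (Fin 4) F where
  toFun := szD s
  map_one' := szD_one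
  map_mul' := szD_mul

theorem szD_inv (t : Fˣ) : (szD s t)⁻¹ = szD s t⁻¹ := ((szDHom F s).map_inv t).symm

theorem szD_inj (h : SzData F s) {t u : Fˣ} (htu : szD s t = szD s u) : t = u := by
  have := congrFun (congrFun (congrArg Subtype.val htu) 1) 1
  change szDMat s t 1 1 = szDMat s u 1 1 at this
  simp [szDMat] at this
  exact Units.ext (h.s_inj this)

theorem szD_smul_zero (h : SzData F s) (t : Fˣ) : szD s t • szP s (0 : F) 0 = szP s 0 0 := by
  rw [szD_smul_P h]; simp

theorem szT_mul (h : SzData F s) (a b c d : F) :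
    szT s a b * szT s c d = szT s (a + c) (b + d + a ^ s * c) := by
  apply Subtype.ext
  change szTMat s a b * szTMat s c d = szTMat s (a + c) (b + d + a ^ s * c)
  have hf := szF_translate h a b c d
  have e1 : c + a = a + c := add_comm _ _
  have e2 : d + b + a ^ s * c = b + d + a ^ s * c := by ring
  rw [e1, e2] at hf
  have h2 := h.two
  ext i j
  fin_cases i <;> fin_cases j <;>
    simp [szTMat, Matrix.mul_apply, Fin.sum_univ_four, hf, h.add, pow_succ] <;>
    first
      | ring1
      | linear_combination (-(a ^ s * c)) * h2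

theorem szT_zero (h : SzData F s) : szT s (0 : F) 0 = 1 := by
  apply Subtype.ext
  change szTMat s 0 0 = 1
  ext i j
  fin_cases i <;> fin_cases j <;> simp [szTMat, szF_zero h.s_ne, h.s_ne]

theorem szT_inj {a b c d : F} (hh : szT s a b = szT s c d) : a = c ∧ b = d := by
  have h1 := congrFun (congrFun (congrArg Subtype.val hh) 2) 3
  have h2 := congrFun (congrFun (congrArg Subtype.val hh) 1) 3
  change szTMat s a b 2 3 = szTMat s c d 2 3 at h1
  change szTMat s a b 1 3 = szTMat s c d 1 3 at h2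
  simp [szTMat] at h1 h2
  exact ⟨h1, h2⟩

theorem szT_inv (h : SzData F s) (a b : F) : (szT s a b)⁻¹ = szT s a (b + a ^ (s + 1)) := by
  rw [inv_eq_iff_mul_eq_one, szT_mul h, ← szT_zero h]
  congr 1
  · exact h.add_self a
  · linear_combination (b + a ^ (s + 1)) * h.two

/-- conjugation of a translation by a torus element -/
theorem szD_conj_szT (h : SzData F s) (t : Fˣ) (a b : F) :
    szD s t * szT s a b * (szD s t)⁻¹ = szT s ((t : F) ^ 2 * a) (((t : F) ^ 2) ^ (s + 1) * b) := by
  rw [mul_inv_eq_iff_eq_mul]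
  apply Subtype.ext
  change szDMat s t * szTMat s a b = szTMat s _ _ * szDMat s t
  have ht : (t : F) * ((t⁻¹ : Fˣ) : F) = 1 := by simp
  obtain ⟨u, hu⟩ : ∃ u : F, u = ((t⁻¹ : Fˣ) : F) := ⟨_, rfl⟩
  rw [← hu] at ht
  obtain ⟨t0, ht0⟩ : ∃ t0 : F, t0 = (t : F) := ⟨_, rfl⟩
  rw [szDMat, ← hu, ← ht0]
  rw [← ht0] at ht
  have hsc := szF_scale h (t0 ^ 2) a b
  ext i j
  fin_cases i <;> fin_cases j <;>
    simp [szTMat, Matrix.diagonal_mul, Matrix.mul_diagonal, hsc]
  · ring
  · calc t0 ^ (s + 2) * (b + a ^ (s + 1)) = t0 ^ (s + 2) * (b + a ^ (s + 1)) * (t0 * u) ^ s := by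
          rw [ht]; simp
      _ = _ := by ring
  · calc t0 ^ (s + 2) * szF s a b = t0 ^ (s + 2) * szF s a b * (t0 * u) ^ (s + 2) := by
          rw [ht]; simp
      _ = _ := by ring
  · calc t0 ^ s * a ^ s = t0 ^ s * a ^ s * (t0 * u) ^ s := by rw [ht]; simp
      _ = _ := by ring
  · calc t0 ^ s * b = t0 ^ s * b * (t0 * u) ^ (s + 2) := by rw [ht]; simp
      _ = _ := by ring
  · calc u ^ s * a = u ^ s * a * (t0 * u) ^ 2 := by rw [ht]; simp
      _ = _ := by ring

theorem szW_conj_szD (t : Fˣ) : szW * szD s t * szW = szD s t⁻¹ := by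
  apply Subtype.ext
  change suzukiForm F * szDMat s t * suzukiForm F = szDMat s t⁻¹
  rw [szDMat, szDMat, inv_inv]
  ext i j
  fin_cases i <;> fin_cases j <;>
    simp [suzukiForm, Matrix.mul_apply, Fin.sum_univ_four, Matrix.vecMul_diagonal]

end rel

end Cfsg.Agent.Lib.Helper18
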