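import Mathlib
import Cfsg.Prelude.Def_LieExceptional
import Cfsg.Agent.Lib.Helper18.Sz1
import Cfsg.Agent.Lib.Helper18.Sz2
import Cfsg.Agent.Lib.Helper18.Sz3
import Cfsg.Agent.Lib.Helper18.Sz4
import Cfsg.Agent.Lib.Helper18.Sz5

/-! Suzuki groups: invariant form, two-transitivity, orders. -/

set_option autoImplicit false

namespace Cfsg.Agent.Lib.Helper18

open Cfsg Matrix
open scoped Pointwise

variable {F : Type*} [Field F] [Finite F] {m : ℕ}

theorem Sz_form (h : SzData F (2 ^ (m + 1))) {g : SpecialLinearGroup (Fin 4) F}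
    (hg : g ∈ Sz F m) : (g.1)ᵀ * suzukiForm F * g.1 = suzukiForm F := by
  rcases Sz_bruhat h hg with ⟨a, b, t, rfl⟩ | ⟨a, b, c, d, t, rfl⟩
  · exact sz_form_mul (szTMat_form h a b) (szDMat_form t)
  · exact sz_form_mul (sz_form_mul (szTMat_form h a b) szWMat_form)
      (sz_form_mul (szTMat_form h c d) (szDMat_form t))

theorem Sz_to_inf (h : SzData F (2 ^ (m + 1))) {a : Projectivization F (Fin 4 → F)}
    (ha : a ∈ suzukiOvoid F m) : ∃ g ∈ Sz F m, g • a = suzukiPointInfinity F := by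
  rcases mem_suzukiOvoid_iff.1 ha with rfl | ⟨x, y, rfl⟩
  · exact ⟨1, (Sz F m).one_mem, one_smul _ _⟩
  · refine ⟨szW * (szT (2 ^ (m + 1)) x y)⁻¹,
      (Sz F m).mul_mem (szW_mem h) ((Sz F m).inv_mem (szT_mem h x y)), ?_⟩
    rw [mul_smul, ← szT_smul_zero h x y, inv_smul_smul, szW_smul_zero h.s_ne]

theorem Sz_two_trans (h : SzData F (2 ^ (m + 1))) {a b : Projectivization F (Fin 4 → F)}
    (ha : a ∈ suzukiOvoid F m) (hb : b ∈ suzukiOvoid F m) (hab : a ≠ b) :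
    ∃ g ∈ Sz F m, g • a = suzukiPointInfinity F ∧ g • b = szP (2 ^ (m + 1)) 0 0 := by
  obtain ⟨g, hg, hga⟩ := Sz_to_inf h ha
  rcases mem_suzukiOvoid_iff.1 (Sz_smul_mem hg hb) with hh | ⟨x, y, hh⟩
  · exfalso
    rw [← hga] at hh
    exact hab (smul_left_cancel g hh).symm
  · refine ⟨(szT (2 ^ (m + 1)) x y)⁻¹ * g,
      (Sz F m).mul_mem ((Sz F m).inv_mem (szT_mem h x y)) hg, ?_, ?_⟩
    · rw [mul_smul, hga, inv_smul_eq_iff, szT_smul_inf]
    · rw [mul_smul, hh, inv_smul_eq_iff, szT_smul_zero h]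

omit [Finite F] in
/-- The point stabiliser is parametrised by `F × F × Fˣ`. -/
theorem Sz_TD_inj (h : SzData F (2 ^ (m + 1))) {a b c d : F} {t u : Fˣ}
    (hh : szT (2 ^ (m + 1)) a b * szD (2 ^ (m + 1)) t = szT (2 ^ (m + 1)) c d * szD (2 ^ (m + 1)) u) :
    a = c ∧ b = d ∧ t = u := by
  have h1 := congrArg (fun g => g • szP (2 ^ (m + 1)) (0 : F) 0) hh
  simp only [mul_smul, szD_smul_zero h, szT_smul_zero h] at h1
  obtain ⟨rfl, rfl⟩ := szP_inj h1
  exact ⟨rfl, rfl, szD_inj h (mul_left_cancel hh)⟩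

theorem card_Sz_stab_inf (h : SzData F (2 ^ (m + 1))) :
    Nat.card (MulAction.stabilizer (Sz F m) (suzukiPointInfinity F)) =
      Nat.card F ^ 2 * (Nat.card F - 1) := by
  have e : F × F × Fˣ ≃ MulAction.stabilizer (Sz F m) (suzukiPointInfinity F) :=
    Equiv.ofBijective (fun x => ⟨⟨szT (2 ^ (m + 1)) x.1 x.2.1 * szD (2 ^ (m + 1)) x.2.2,
      (Sz F m).mul_mem (szT_mem h _ _) (szD_mem h _)⟩, by
        rw [MulAction.mem_stabilizer_iff]
        change (szT (2 ^ (m + 1)) x.1 x.2.1 * szD (2 ^ (m + 1)) x.2.2) • suzukiPointInfinity F = _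
        rw [mul_smul, szD_smul_inf, szT_smul_inf]⟩) (by
      constructor
      · rintro ⟨a, b, t⟩ ⟨c, d, u⟩ hh
        obtain ⟨rfl, rfl, rfl⟩ := Sz_TD_inj h (congrArg (fun z => z.1.1) hh)
        rfl
      · rintro ⟨⟨g, hg⟩, hg'⟩
        obtain ⟨a, b, t, rfl⟩ := Sz_one_point h hg hg'
        exact ⟨(a, b, t), rfl⟩)
  rw [← Nat.card_congr e, Nat.card_prod, Nat.card_prod, Nat.card_units]
  ring

theorem Sz_orbit_inf (h : SzData F (2 ^ (m + 1))) :
    MulAction.orbit (Sz F m) (suzukiPointInfinity F) = suzukiOvoid F m := by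
  ext p
  constructor
  · rintro ⟨g, rfl⟩
    exact Sz_smul_mem g.2 (szInf_mem m)
  · intro hp
    obtain ⟨g, hg, hgp⟩ := Sz_to_inf h hp
    refine ⟨⟨g, hg⟩⁻¹, ?_⟩
    change (⟨g, hg⟩ : Sz F m)⁻¹ • _ = p
    rw [inv_smul_eq_iff]
    exact hgp.symm

theorem card_Sz (h : SzData F (2 ^ (m + 1))) :
    Nat.card (Sz F m) = Nat.card F ^ 2 * (Nat.card F ^ 2 + 1) * (Nat.card F - 1) := by
  have := Fintype.ofFinite F
  rw [← Subgroup.card_mul_index (MulAction.stabilizer (Sz F m) (suzukiPointInfinity F)),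
    MulAction.index_stabilizer, Sz_orbit_inf h, card_Sz_stab_inf h, ← Nat.card_coe_set_eq,
    card_suzukiOvoid, Nat.card_eq_fintype_card]
  ring

end Cfsg.Agent.Lib.Helper18
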