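import Mathlib
import Cfsg.Prelude.Def_LieExceptional
import Cfsg.Prelude.Def_Sz
import Cfsg.Agent.Lib.Helper18.Sz1
import Cfsg.Agent.Lib.Helper18.Sz2
import Cfsg.Agent.Lib.Helper18.Sz5

/-! The matrix description `g* = g^θ` of the Suzuki group: matrix-level lemmas. -/

set_option autoImplicit false

namespace Cfsg.Agent.Lib.Helper18

open Cfsg Matrix

variable {F : Type*} [Field F] {s : ℕ}

/-- The defining conditions of `Cfsg.Lie.Sz`, for matrices. -/
def IsSzMat (s : ℕ) (M : Matrix (Fin 4) (Fin 4) F) : Prop :=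
  Mᵀ * suzukiForm F * M = suzukiForm F ∧ Lie.star4 M = M.map (fun x => x ^ s)

theorem altForm4_eq (u v : Fin 4 → F) : Lie.altForm4 u v = u ⬝ᵥ (suzukiForm F *ᵥ v) := by
  rw [szW_mulVec]
  simp [Lie.altForm4, dotProduct, Fin.sum_univ_four]

theorem altForm4_mulVec (M : Matrix (Fin 4) (Fin 4) F) (u v : Fin 4 → F) :
    Lie.altForm4 (M *ᵥ u) (M *ᵥ v) = u ⬝ᵥ ((Mᵀ * suzukiForm F * M) *ᵥ v) := by
  rw [altForm4_eq, ← Matrix.mulVec_mulVec, ← Matrix.mulVec_mulVec, Matrix.dotProduct_mulVec u,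
    Matrix.vecMul_transpose]

theorem mem_Sp4_iff (g : GL (Fin 4) F) :
    g ∈ Lie.Sp4 F ↔ (g.1)ᵀ * suzukiForm F * g.1 = suzukiForm F := by
  constructor
  · intro hg
    ext i j
    have := hg (Pi.single i 1) (Pi.single j 1)
    change Lie.altForm4 (g.1 *ᵥ _) (g.1 *ᵥ _) = _ at this
    rw [altForm4_mulVec, altForm4_eq] at this
    simpa using this
  · intro hg u v
    change Lie.altForm4 (g.1 *ᵥ _) (g.1 *ᵥ _) = _
    rw [altForm4_mulVec, hg, altForm4_eq]

theorem suzukiForm_mul_self : suzukiForm F * suzukiForm F = 1 :=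
  congrArg Subtype.val (szW_mul_self (F := F))

/-- the transposed relation -/
theorem sz_form_transpose {M : Matrix (Fin 4) (Fin 4) F}
    (hM : Mᵀ * suzukiForm F * M = suzukiForm F) : M * suzukiForm F * Mᵀ = suzukiForm F := by
  have h1 : (suzukiForm F * Mᵀ * suzukiForm F) * M = 1 := by
    rw [Matrix.mul_assoc, Matrix.mul_assoc, ← Matrix.mul_assoc Mᵀ, hM, suzukiForm_mul_self]
  have h2 : M * (suzukiForm F * Mᵀ * suzukiForm F) = 1 := mul_eq_one_comm.1 h1
  calc M * suzukiForm F * Mᵀ = M * (suzukiForm F * Mᵀ * suzukiForm F) * suzukiForm F := by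
        simp only [Matrix.mul_assoc, suzukiForm_mul_self, Matrix.mul_one]
    _ = suzukiForm F := by rw [h2, Matrix.one_mul]

theorem sz_form_entry (M : Matrix (Fin 4) (Fin 4) F) (i j : Fin 4) :
    (Mᵀ * suzukiForm F * M) i j = M 0 i * M 3 j + M 1 i * M 2 j + M 2 i * M 1 j + M 3 i * M 0 j := by
  simp [suzukiForm, Matrix.mul_apply, Fin.sum_univ_four]
  ring

theorem sz_form_entry' (M : Matrix (Fin 4) (Fin 4) F) (i j : Fin 4) :
    (M * suzukiForm F * Mᵀ) i j = M i 0 * M j 3 + M i 1 * M j 2 + M i 2 * M j 1 + M i 3 * M j 0 := by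
  simp [suzukiForm, Matrix.mul_apply, Fin.sum_univ_four]
  ring

theorem star4_mul_aux (h2 : (2 : F) = 0) (A B : Matrix (Fin 4) (Fin 4) F) (k l i j : Fin 4)
    (hA : A k 0 * A l 3 + A k 1 * A l 2 + A k 2 * A l 1 + A k 3 * A l 0 = 0)
    (hB : B 0 i * B 3 j + B 1 i * B 2 j + B 2 i * B 1 j + B 3 i * B 0 j = 0) :
    (A * B) k i * (A * B) l j - (A * B) l i * (A * B) k j =
      (A k 0 * A l 1 - A l 0 * A k 1) * (B 0 i * B 1 j - B 1 i * B 0 j) +
      (A k 0 * A l 2 - A l 0 * A k 2) * (B 0 i * B 2 j - B 2 i * B 0 j) +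
      (A k 1 * A l 3 - A l 1 * A k 3) * (B 1 i * B 3 j - B 3 i * B 1 j) +
      (A k 2 * A l 3 - A l 2 * A k 3) * (B 2 i * B 3 j - B 3 i * B 2 j) := by
  simp only [Matrix.mul_apply, Fin.sum_univ_four]
  linear_combination
    ((B 1 i * B 2 j - B 2 i * B 1 j)) * hA +
    ((A k 0 * A l 3 - A l 0 * A k 3)) * hB +
    (-(A k 0 * A l 3 - A l 0 * A k 3) * (B 1 i * B 2 j) -
      (A l 0 * A k 3 + A l 1 * A k 2) * (B 1 i * B 2 j - B 2 i * B 1 j)
      - (A k 0 * A l 3 - A l 0 * A k 3) * (B 3 i * B 0 j)) * h2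

theorem star4_mul (h2 : (2 : F) = 0) {A B : Matrix (Fin 4) (Fin 4) F}
    (hA : Aᵀ * suzukiForm F * A = suzukiForm F) (hB : Bᵀ * suzukiForm F * B = suzukiForm F) :
    Lie.star4 (A * B) = Lie.star4 A * Lie.star4 B := by
  have hA' := sz_form_transpose hA
  have eA : ∀ k l, A k 0 * A l 3 + A k 1 * A l 2 + A k 2 * A l 1 + A k 3 * A l 0 =
      suzukiForm F k l := fun k l => by rw [← sz_form_entry', hA']
  have eB : ∀ i j, B 0 i * B 3 j + B 1 i * B 2 j + B 2 i * B 1 j + B 3 i * B 0 j =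
      suzukiForm F i j := fun i j => by rw [← sz_form_entry, hB]
  ext p r
  have key := star4_mul_aux h2 A B (Lie.pairOf p).1 (Lie.pairOf p).2 (Lie.pairOf r).1
    (Lie.pairOf r).2
    (by rw [eA]; fin_cases p <;> simp [Lie.pairOf, suzukiForm])
    (by rw [eB]; fin_cases r <;> simp [Lie.pairOf, suzukiForm])
  rw [Matrix.mul_apply, Fin.sum_univ_four]
  simp only [Lie.star4, Matrix.of_apply]
  rw [key]
  simp [Lie.pairOf]

/-- The map `x ↦ x ^ s` as a ring homomorphism. -/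
def SzData.theta (h : SzData F s) : F →+* F where
  toFun x := x ^ s
  map_one' := one_pow _
  map_mul' x y := mul_pow x y s
  map_zero' := h.zero_pow_s
  map_add' := h.add

theorem IsSzMat.mul (h : SzData F s) {A B : Matrix (Fin 4) (Fin 4) F}
    (hA : IsSzMat s A) (hB : IsSzMat s B) : IsSzMat s (A * B) := by
  refine ⟨sz_form_mul hA.1 hB.1, ?_⟩
  rw [star4_mul h.two hA.1 hB.1, hA.2, hB.2]
  exact (Matrix.map_mul (f := h.theta) (L := A) (M := B)).symm

theorem isSzMat_T (h : SzData F s) (a b : F) : IsSzMat s (szTMat s a b) := by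
  refine ⟨szTMat_form h a b, ?_⟩
  have h2 := h.two
  have hfs := szF_pow_s h a b
  have hss := h.ss a
  have hs := h.s_ne
  ext p r
  fin_cases p <;> fin_cases r <;>
    simp [Lie.star4, Lie.pairOf, szTMat, hs, hfs, hss, h.add] <;>
    (try unfold szF) <;>
    first
      | ring1
      | linear_combination (-(b ^ s)) * h2
      | (rw [show (a ^ (s + 1)) ^ s = (a ^ s) ^ s * a ^ s by ring, hss]
         linear_combination (-(a ^ (s + 2)) - b ^ s) * h2)
      | linear_combination (-(a ^ (s + 2)) - b ^ s) * h2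
      | linear_combination (- b ^ s) * h2
      | linear_combination (-(a ^ s * a ^ (s + 2)) - a ^ s * b ^ s) * h2

theorem isSzMat_D (h : SzData F s) (t : Fˣ) : IsSzMat s (szDMat s t) := by
  refine ⟨szDMat_form t, ?_⟩
  have ht : (t : F) * ((t⁻¹ : Fˣ) : F) = 1 := by simp
  obtain ⟨u, hu⟩ : ∃ u : F, u = ((t⁻¹ : Fˣ) : F) := ⟨_, rfl⟩
  rw [← hu] at ht
  obtain ⟨t0, ht0⟩ : ∃ t0 : F, t0 = (t : F) := ⟨_, rfl⟩
  rw [szDMat, ← hu, ← ht0]
  rw [← ht0] at ht
  have hst := h.ss t0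
  have hsu := h.ss u
  have hs := h.s_ne
  ext p r
  fin_cases p <;> fin_cases r <;>
    simp [Lie.star4, Lie.pairOf, Matrix.diagonal_apply, hs, hst, hsu]
  · rw [show (t0 ^ (s + 2)) ^ s = (t0 ^ s) ^ s * (t0 ^ s) ^ 2 by ring, hst]; ring
  · calc t0 ^ (s + 2) * u ^ s = (t0 * u) ^ s * t0 ^ 2 := by ring
      _ = _ := by rw [ht]; simp
  · calc t0 ^ s * u ^ (s + 2) = (t0 * u) ^ s * u ^ 2 := by ring
      _ = _ := by rw [ht]; simp
  · rw [show (u ^ (s + 2)) ^ s = (u ^ s) ^ s * (u ^ s) ^ 2 by ring, hsu]; ring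

theorem isSzMat_W (h : SzData F s) : IsSzMat s (suzukiForm F) := by
  refine ⟨szWMat_form, ?_⟩
  have h2 := h.two
  have hs := h.s_ne
  ext p r
  fin_cases p <;> fin_cases r <;>
    simp [Lie.star4, Lie.pairOf, suzukiForm, hs] <;>
    linear_combination (-1 : F) * h2

end Cfsg.Agent.Lib.Helper18
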