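import Mathlib
import Cfsg.Prelude.Def_LieExceptional
import Cfsg.Prelude.Def_Sz
import Cfsg.Agent.Lib.Helper18.Sz1
import Cfsg.Agent.Lib.Helper18.Sz2
import Cfsg.Agent.Lib.Helper18.Sz4
import Cfsg.Agent.Lib.Helper18.Sz5
import Cfsg.Agent.Lib.Helper18.Sz6
import Cfsg.Agent.Lib.Helper18.SzL1

/-! `Cfsg.Lie.Sz` is the image of the ovoid stabiliser `Cfsg.Sz`. -/

set_option autoImplicit false

namespace Cfsg.Agent.Lib.Helper18

open Cfsg Matrix

section col

variable {F : Type*} [Field F] {s : ℕ}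

theorem isSzMat_col0_aux (h : SzData F s) {c0 c1 c2 c3 d0 d1 d2 d3 : F}
    (E1 : c0 * d2 - c2 * d0 = c1 ^ s) (E2 : c1 * d3 - c3 * d1 = c2 ^ s)
    (E3 : c2 * d3 - c3 * d2 = c3 ^ s) (Fm : c0 * d3 + c1 * d2 + c2 * d1 + c3 * d0 = 0) :
    (∃ e0 : F, ![c0, c1, c2, c3] = e0 • ![1, 0, 0, 0]) ∨
      ∃ x y e3 : F, ![c0, c1, c2, c3] = e3 • szV s x y := by
  have hs := h.s_ne
  by_cases h3 : c3 = 0
  · left
    subst h3
    rw [zero_pow hs] at E3
    simp only [zero_mul, sub_zero] at E2 E3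
    have h2 : c2 = 0 := by
      by_contra hh
      have hd : d3 = 0 := (mul_eq_zero.1 E3).resolve_left hh
      rw [hd, mul_zero] at E2
      exact hh (pow_eq_zero_iff hs |>.1 E2.symm)
    subst h2
    rw [zero_pow hs] at E2
    simp only [zero_mul, sub_zero, add_zero] at E1 Fm
    have h1 : c1 = 0 := by
      by_contra hh
      have hd : d3 = 0 := (mul_eq_zero.1 E2).resolve_left hh
      rw [hd, mul_zero, zero_add] at Fm
      have hd2 : d2 = 0 := (mul_eq_zero.1 Fm).resolve_left hh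
      rw [hd2, mul_zero] at E1
      exact hh (pow_eq_zero_iff hs |>.1 E1.symm)
    subst h1
    refine ⟨c0, ?_⟩
    ext i
    fin_cases i <;> simp
  · right
    have key : c0 * c3 ^ (s + 1) = c1 * c2 * c3 ^ s + c2 ^ (s + 2) + c1 ^ s * c3 ^ 2 := by
      linear_combination (-(c3 ^ 2)) * E1 - (c0 * c3 + c1 * c2) * E3 - c2 * c3 * Fm - c2 ^ 2 * E2 +
        (c0 * c2 * c3 * d3 + c1 * c2 ^ 2 * d3 -
          (c1 * c2 * c3 ^ s + c2 ^ (s + 2) + c1 ^ s * c3 ^ 2)) * h.two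
    refine ⟨c2 / c3, c1 / c3, c3, ?_⟩
    have hf : c3 * szF s (c2 / c3) (c1 / c3) = c0 := by
      unfold szF
      rw [div_pow, div_pow]
      have h3s : c3 ^ s ≠ 0 := pow_ne_zero _ h3
      have e1 : c3 ^ (s + 2) = c3 ^ s * c3 ^ 2 := pow_add _ _ _
      have e2 : c3 ^ (s + 1) = c3 ^ s * c3 := pow_succ _ _
      rw [e1]
      rw [e2] at key
      field_simp
      linear_combination -key
    ext i
    fin_cases i
    · simp [szV, hf]
    · simp [szV]; field_simp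
    · simp [szV]; field_simp
    · simp [szV]

theorem isSzMat_col0 (h : SzData F s) {M : Matrix (Fin 4) (Fin 4) F} (hM : IsSzMat s M) :
    (∃ c0 : F, (fun i => M i 0) = c0 • ![1, 0, 0, 0]) ∨
      ∃ x y c3 : F, (fun i => M i 0) = c3 • szV s x y := by
  have E1 := congrFun (congrFun hM.2 1) 0
  have E2 := congrFun (congrFun hM.2 2) 0
  have E3 := congrFun (congrFun hM.2 3) 0
  have Fm := congrFun (congrFun hM.1 0) 1
  rw [sz_form_entry] at Fm
  simp [Lie.star4, Lie.pairOf, suzukiForm] at E1 E2 E3 Fm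
  have hcol : (fun i => M i 0) = ![M 0 0, M 1 0, M 2 0, M 3 0] := by
    ext i
    fin_cases i <;> simp
  rw [hcol]
  exact isSzMat_col0_aux h E1 E2 E3 Fm

theorem isSzMat_det (h : SzData F s) {M : Matrix (Fin 4) (Fin 4) F} (hM : IsSzMat s M) :
    M.det = 1 := by
  have := congrArg Matrix.det hM.1
  rw [det_mul, det_mul, det_transpose, suzukiForm_det, mul_one] at this
  apply h.sq_inj
  rw [one_pow, sq, this]

end col

variable {F : Type*} [Field F] [Finite F] {m : ℕ}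

theorem Sz_isSzMat (h : SzData F (2 ^ (m + 1))) {g : SpecialLinearGroup (Fin 4) F}
    (hg : g ∈ Sz F m) : IsSzMat (2 ^ (m + 1)) g.1 := by
  rcases Sz_bruhat h hg with ⟨a, b, t, rfl⟩ | ⟨a, b, c, d, t, rfl⟩
  · exact (isSzMat_T h a b).mul h (isSzMat_D h t)
  · exact ((isSzMat_T h a b).mul h (isSzMat_W h)).mul h ((isSzMat_T h c d).mul h (isSzMat_D h t))

omit [Finite F] in
theorem isSzMat_smul_inf (h : SzData F (2 ^ (m + 1))) {g : SpecialLinearGroup (Fin 4) F}
    (hg : IsSzMat (2 ^ (m + 1)) g.1) : g • suzukiPointInfinity F ∈ suzukiOvoid F m := by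
  rw [szInf_eq, Projectivization.smul_mk]
  have e : g • (![1, 0, 0, 0] : Fin 4 → F) = fun i => g.1 i 0 := by
    ext i
    change (g.1 *ᵥ ![1, 0, 0, 0]) i = _
    simp [Matrix.mulVec, dotProduct, Fin.sum_univ_four]
  rw [mem_suzukiOvoid_iff]
  rcases isSzMat_col0 h hg with ⟨c0, hc⟩ | ⟨x, y, c3, hc⟩
  · left
    rw [szInf_eq, Projectivization.mk_eq_mk_iff']
    exact ⟨c0, by rw [e, hc]⟩
  · right
    refine ⟨x, y, ?_⟩
    rw [szP, Projectivization.mk_eq_mk_iff']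
    exact ⟨c3, by rw [e, hc]⟩

theorem mem_Sz_of_isSzMat (h : SzData F (2 ^ (m + 1))) {g : SpecialLinearGroup (Fin 4) F}
    (hg : IsSzMat (2 ^ (m + 1)) g.1) : g ∈ Sz F m := by
  apply mem_Sz_of_forall
  · exact isSzMat_smul_inf h hg
  · intro x y
    have : g • szP (2 ^ (m + 1)) x y =
        (g * (szT (2 ^ (m + 1)) x y * szW)) • suzukiPointInfinity F := by
      rw [mul_smul, mul_smul, szW_smul_inf h.s_ne, szT_smul_zero h]
    rw [this]
    exact isSzMat_smul_inf h (hg.mul h ((isSzMat_T h x y).mul h (isSzMat_W h)))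

theorem LieSz_eq_map (h : SzData F (2 ^ (m + 1))) :
    Lie.Sz F (2 ^ (m + 1)) = (Sz F m).map SpecialLinearGroup.toGL := by
  apply le_antisymm
  · unfold Lie.Sz
    rw [Subgroup.closure_le]
    rintro g ⟨hg1, hg2⟩
    have hM : IsSzMat (2 ^ (m + 1)) g.1 := ⟨(mem_Sp4_iff g).1 hg1, hg2⟩
    refine ⟨⟨g.1, isSzMat_det h hM⟩, mem_Sz_of_isSzMat h hM, ?_⟩
    apply Units.ext
    rfl
  · rintro _ ⟨x, hx, rfl⟩
    apply Subgroup.subset_closure
    have hM := Sz_isSzMat h hx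
    exact ⟨(mem_Sp4_iff _).2 hM.1, hM.2⟩

/-- The two descriptions of the Suzuki group are isomorphic. -/
noncomputable def LieSzEquiv (h : SzData F (2 ^ (m + 1))) : Sz F m ≃* Lie.Sz F (2 ^ (m + 1)) :=
  ((Sz F m).equivMapOfInjective _ SpecialLinearGroup.toGL_injective).trans
    (MulEquiv.subgroupCongr (LieSz_eq_map h).symm)

end Cfsg.Agent.Lib.Helper18
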