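import Mathlib
import Cfsg.Prelude.Def_LieExceptional
import Cfsg.Agent.Lib.Helper18.Sz1
import Cfsg.Agent.Lib.Helper18.Sz2
import Cfsg.Agent.Lib.Helper18.Sz3
import Cfsg.Agent.Lib.Helper18.Sz4
import Cfsg.Agent.Lib.Helper18.Sz5
import Cfsg.Agent.Lib.Helper18.Sz6

/-! Suzuki groups: three-point stabilisers, independence of three points. -/

set_option autoImplicit false

namespace Cfsg.Agent.Lib.Helper18

open Cfsg Matrix
open scoped Pointwise

variable {F : Type*} [Field F] [Finite F] {m : ℕ}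

omit [Finite F] in
theorem szD_fix_imp (h : SzData F (2 ^ (m + 1))) {t : Fˣ} {x y : F} (hxy : ¬ (x = 0 ∧ y = 0))
    (hfix : szD (2 ^ (m + 1)) t • szP (2 ^ (m + 1)) x y = szP (2 ^ (m + 1)) x y) : t = 1 := by
  rw [szD_smul_P h] at hfix
  obtain ⟨h1, h2⟩ := szP_inj hfix
  have ht2 : (t : F) ^ 2 = 1 := by
    by_cases hx : x = 0
    · have hy : y ≠ 0 := fun hy => hxy ⟨hx, hy⟩
      apply h.eq_one_of_pow_s_add_one
      exact mul_right_cancel₀ hy (by rw [h2, one_mul])
    · exact mul_right_cancel₀ hx (by rw [h1, one_mul])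
  apply Units.ext
  apply h.sq_inj
  rw [ht2]; simp

theorem Sz_three_point (h : SzData F (2 ^ (m + 1))) {g : SpecialLinearGroup (Fin 4) F}
    (hg : g ∈ Sz F m) {a b c : Projectivization F (Fin 4 → F)}
    (ha : a ∈ suzukiOvoid F m) (hb : b ∈ suzukiOvoid F m) (hc : c ∈ suzukiOvoid F m)
    (hab : a ≠ b) (hbc : b ≠ c) (hac : a ≠ c)
    (ga : g • a = a) (gb : g • b = b) (gc : g • c = c) : g = 1 := by
  obtain ⟨x, hx, xa, xb⟩ := Sz_two_trans h ha hb hab
  have hfix : ∀ p : Projectivization F (Fin 4 → F), g • p = p →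
      (x * g * x⁻¹) • (x • p) = x • p := by
    intro p hp
    rw [mul_smul, mul_smul, inv_smul_smul, hp]
  obtain ⟨t, ht⟩ := Sz_two_point h (g := x * g * x⁻¹)
    ((Sz F m).mul_mem ((Sz F m).mul_mem hx hg) ((Sz F m).inv_mem hx))
    (by rw [← xa]; exact hfix a ga) (by rw [← xb]; exact hfix b gb)
  rcases mem_suzukiOvoid_iff.1 (Sz_smul_mem hx hc) with hh | ⟨u, v, hh⟩
  · exfalso
    rw [← xa] at hh
    exact hac (smul_left_cancel x hh).symm
  · have huv : ¬ (u = 0 ∧ v = 0) := by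
      rintro ⟨rfl, rfl⟩
      rw [← xb] at hh
      exact hbc (smul_left_cancel x hh).symm
    have h3 := hfix c gc
    rw [hh, ht] at h3
    have ht1 := szD_fix_imp h huv h3
    rw [ht1, szD_one] at ht
    have : x * g = x := by
      have := mul_inv_eq_one.1 ht
      exact this
    exact mul_eq_left.1 this

theorem Sz_no_comm (h : SzData F (2 ^ (m + 1))) {n : SpecialLinearGroup (Fin 4) F}
    (hn : n ∈ Sz F m) (h1 : n • suzukiPointInfinity F = szP (2 ^ (m + 1)) 0 0) {t : Fˣ}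
    (hc : szD (2 ^ (m + 1)) t * n = n * szD (2 ^ (m + 1)) t) : t = 1 := by
  obtain ⟨c, d, u, hg⟩ := Sz_one_point h (g := szW * n) ((Sz F m).mul_mem (szW_mem h) hn)
    (by rw [mul_smul, h1, szW_smul_zero h.s_ne])
  have hw := szW_mul_self (F := F)
  have hn' : n = szW * (szT (2 ^ (m + 1)) c d * szD (2 ^ (m + 1)) u) := by
    rw [← hg, ← mul_assoc, hw, one_mul]
  have e1 : szD (2 ^ (m + 1)) t⁻¹ * (szT (2 ^ (m + 1)) c d * szD (2 ^ (m + 1)) u) =
      szT (2 ^ (m + 1)) c d * szD (2 ^ (m + 1)) u * szD (2 ^ (m + 1)) t := by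
    rw [← szW_conj_szD]
    calc szW * szD (2 ^ (m + 1)) t * szW * (szT (2 ^ (m + 1)) c d * szD (2 ^ (m + 1)) u)
        = szW * (szD (2 ^ (m + 1)) t * n) := by rw [hn']; simp only [mul_assoc]
      _ = szW * (n * szD (2 ^ (m + 1)) t) := by rw [hc]
      _ = (szW * szW) * (szT (2 ^ (m + 1)) c d * szD (2 ^ (m + 1)) u) * szD (2 ^ (m + 1)) t := by
          rw [hn']; simp only [mul_assoc]
      _ = _ := by rw [hw, one_mul]
  have e2 : szD (2 ^ (m + 1)) t⁻¹ * (szT (2 ^ (m + 1)) c d * szD (2 ^ (m + 1)) u) =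
      (szD (2 ^ (m + 1)) t⁻¹ * szT (2 ^ (m + 1)) c d * (szD (2 ^ (m + 1)) t⁻¹)⁻¹) *
        szD (2 ^ (m + 1)) (t⁻¹ * u) := by
    rw [szD_mul]; group
  rw [e2, szD_conj_szT h, mul_assoc, ← szD_mul] at e1
  obtain ⟨-, -, h3⟩ := Sz_TD_inj h e1
  have h4 : t * t = 1 := by
    have : t⁻¹ = t := by
      rw [mul_comm] at h3
      exact mul_left_cancel h3
    calc t * t = t⁻¹ * t := by rw [this]
      _ = 1 := inv_mul_cancel t
  apply Units.ext
  apply h.sq_inj
  have := congrArg Units.val h4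
  simp only [Units.val_mul, Units.val_one] at this
  rw [sq, this]; simp

omit [Finite F] in
theorem sz_linearIndependent {s : ℕ} (hs : s ≠ 0) {x y : F} (hxy : ¬ (x = 0 ∧ y = 0)) :
    LinearIndependent F ![(![1, 0, 0, 0] : Fin 4 → F), szV s 0 0, szV s x y] := by
  rw [Fintype.linearIndependent_iff]
  intro c hc
  rw [Fin.sum_univ_three] at hc
  have e0 := congrFun hc 0
  have e1 := congrFun hc 1
  have e2 := congrFun hc 2
  have e3 := congrFun hc 3
  simp [szV, szF_zero hs] at e0 e1 e2 e3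
  have c2 : c 2 = 0 := by
    by_contra hh
    exact hxy ⟨e2.resolve_left hh, e1.resolve_left hh⟩
  rw [c2] at e0 e3
  simp at e0 e3
  intro i
  fin_cases i
  · exact e0
  · exact e3
  · exact c2

theorem Sz_independent (h : SzData F (2 ^ (m + 1))) (p : Fin 3 ↪ suzukiOvoid F m) :
    Projectivization.Independent (fun i => (p i : Projectivization F (Fin 4 → F))) := by
  have hne : ∀ i j : Fin 3, i ≠ j → (p i).1 ≠ (p j).1 := fun i j hij hh =>
    hij (p.injective (Subtype.ext hh))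
  obtain ⟨g, hg, h0, h1⟩ := Sz_two_trans h (p 0).2 (p 1).2 (hne 0 1 (by decide))
  rcases mem_suzukiOvoid_iff.1 (Sz_smul_mem hg (p 2).2) with hh | ⟨x, y, hh⟩
  · exfalso
    rw [← h0] at hh
    exact hne 2 0 (by decide) (smul_left_cancel g hh)
  have hxy : ¬ (x = 0 ∧ y = 0) := by
    rintro ⟨rfl, rfl⟩
    rw [← h1] at hh
    exact hne 2 1 (by decide) (smul_left_cancel g hh)
  have hv := sz_linearIndependent (F := F) h.s_ne hxy
  have hl := hv.map' ((DistribMulAction.toLinearEquiv F (Fin 4 → F) g⁻¹).toLinearMap)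
    (LinearEquiv.ker _)
  have hf := fun i => hl.ne_zero i
  have key : (fun i => (p i : Projectivization F (Fin 4 → F))) =
      fun i => Projectivization.mk F _ (hf i) := by
    funext i
    have e : ∀ (q : Projectivization F (Fin 4 → F)) (v : Fin 4 → F) (hv0 : v ≠ 0)
        (hv1 : g⁻¹ • v ≠ 0), g • q = Projectivization.mk F v hv0 →
        q = Projectivization.mk F (g⁻¹ • v) hv1 := by
      intro q v hv0 hv1 hq
      rw [← Projectivization.smul_mk g⁻¹ hv0, ← hq, inv_smul_smul]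
    fin_cases i
    · exact e _ _ szE_ne_zero _ h0
    · exact e _ _ (szV_ne_zero _ _ _) _ h1
    · exact e _ _ (szV_ne_zero _ _ _) _ hh
  rw [key]
  exact Projectivization.Independent.mk _ hf hl

end Cfsg.Agent.Lib.Helper18
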