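import Mathlib
import Cfsg.Prelude.Def_LieExceptional
import Cfsg.Agent.Lib.Helper18.Sz1

/-! Suzuki 2-groups, abstractly: a group parametrised by `F × F` with the twisted multiplication. -/

set_option autoImplicit false

namespace Cfsg.Agent.Lib.Helper18

open Cfsg
open scoped commutatorElement

variable {F : Type*} [Field F] {s : ℕ}

theorem SzData.exists_ne [Finite F] (h : SzData F s) : ∃ c : F, c ≠ 0 ∧ c ≠ 1 := by
  have hnt : Nontrivial Fˣ := by
    rw [← Finite.one_lt_card_iff_nontrivial, Nat.card_units]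
    have := h.lt_card
    omega
  obtain ⟨t, ht⟩ := _root_.exists_ne (1 : Fˣ)
  exact ⟨t, t.ne_zero, fun hh => ht (Units.ext hh)⟩

/-- A parametrisation of a group by `F × F` with the multiplication of a Suzuki 2-group. -/
structure SzUParam (F : Type*) [Field F] (s : ℕ) (U : Type*) [Group U] where
  τ : F → F → U
  bij : Function.Bijective (fun x : F × F => τ x.1 x.2)
  mul : ∀ a b c d, τ a b * τ c d = τ (a + c) (b + d + a ^ s * c)

namespace SzUParam

variable {U : Type*} [Group U] (P : SzUParam F s U)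
include P

theorem inj {a b c d : F} (hh : P.τ a b = P.τ c d) : a = c ∧ b = d := by
  have := P.bij.1 (a₁ := (a, b)) (a₂ := (c, d)) hh
  exact ⟨congrArg Prod.fst this, congrArg Prod.snd this⟩

theorem surj (u : U) : ∃ a b, u = P.τ a b := by
  obtain ⟨⟨a, b⟩, hab⟩ := P.bij.2 u
  exact ⟨a, b, hab.symm⟩

theorem zero : P.τ 0 0 = 1 := by
  have := P.mul 0 0 0 0
  simp only [add_zero, mul_zero] at this
  exact mul_eq_left.1 this

theorem card : Nat.card U = Nat.card F ^ 2 := by
  rw [← Nat.card_congr (Equiv.ofBijective _ P.bij), Nat.card_prod, sq]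

variable (h : SzData F s)
include h

theorem central_mul (b c d : F) : P.τ 0 b * P.τ c d = P.τ c (b + d) := by
  rw [P.mul, zero_add, h.zero_pow_s, zero_mul, add_zero]

omit h in
theorem mul_central (b c d : F) : P.τ c d * P.τ 0 b = P.τ c (b + d) := by
  rw [P.mul, add_zero, mul_zero, add_zero, add_comm d b]

theorem comm_eq (a b c d : F) :
    ⁅P.τ a b, P.τ c d⁆ = P.τ 0 (a ^ s * c + c ^ s * a) := by
  rw [commutatorElement_def, mul_inv_eq_iff_eq_mul, mul_inv_eq_iff_eq_mul, mul_assoc, P.mul, P.mul,
    P.central_mul h]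
  congr 1
  · exact add_comm _ _
  · linear_combination (-(c ^ s * a) - b - d + (b + d)) * h.two

theorem sq_eq (a b : F) : P.τ a b ^ 2 = P.τ 0 (a ^ (s + 1)) := by
  rw [sq, P.mul]
  congr 1
  · exact h.add_self a
  · rw [h.add_self, zero_add, pow_succ]

theorem pow_four (a b : F) : P.τ a b ^ 4 = 1 := by
  rw [show 4 = 2 * 2 by norm_num, pow_mul, P.sq_eq h, P.sq_eq h, zero_pow (by omega), P.zero]

theorem mem_center_iff [Finite F] (a b : F) : P.τ a b ∈ Subgroup.center U ↔ a = 0 := by
  constructor
  · intro hz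
    rw [Subgroup.mem_center_iff] at hz
    have hc : ∀ c, a ^ s * c = c ^ s * a := by
      intro c
      have := hz (P.τ c 0)
      rw [P.mul, P.mul] at this
      have := (P.inj this).2
      linear_combination -this
    have h1 := hc 1
    rw [one_pow, mul_one, one_mul] at h1
    rcases h.eq_zero_or_one_of_pow_s h1 with h0 | h0
    · exact h0
    · exfalso
      obtain ⟨c, hc0, hc1⟩ := h.exists_ne
      have := hc c
      rw [h0, one_pow, one_mul, mul_one] at this
      rcases h.eq_zero_or_one_of_pow_s this.symm with h2 | h2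
      · exact hc0 h2
      · exact hc1 h2
  · rintro rfl
    rw [Subgroup.mem_center_iff]
    intro g
    obtain ⟨c, d, rfl⟩ := P.surj g
    rw [P.central_mul h, P.mul_central]

theorem card_center [Finite F] : Nat.card (Subgroup.center U) = Nat.card F := by
  have e : F ≃ Subgroup.center U := Equiv.ofBijective
    (fun b => ⟨P.τ 0 b, (P.mem_center_iff h 0 b).2 rfl⟩) (by
      constructor
      · intro b b' hb
        exact (P.inj (congrArg Subtype.val hb)).2
      · rintro ⟨z, hz⟩
        obtain ⟨a, b, rfl⟩ := P.surj z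
        have := (P.mem_center_iff h a b).1 hz
        subst this
        exact ⟨b, rfl⟩)
  exact (Nat.card_congr e).symm

theorem center_eq_commutator [Finite F] : Subgroup.center U = commutator U := by
  apply le_antisymm
  · intro z hz
    obtain ⟨a, b, rfl⟩ := P.surj z
    have := (P.mem_center_iff h a b).1 hz
    subst this
    obtain ⟨c', hc0, hc1⟩ := h.exists_ne
    have hμ : c' + c' ^ s ≠ 0 := by
      intro hh
      rcases h.eq_zero_or_one_of_pow_s (h.eq_of_add_eq_zero hh).symm with h2 | h2
      · exact hc0 h2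
      · exact hc1 h2
    obtain ⟨a, ha⟩ := h.exists_pow_s_add_one (b / (c' + c' ^ s))
    have hb : b = a ^ s * (a * c') + (a * c') ^ s * a := by
      have : b = a ^ (s + 1) * (c' + c' ^ s) := by rw [ha]; field_simp
      rw [this]; ring
    rw [hb, ← P.comm_eq h a 0 (a * c') 0]
    exact Subgroup.commutator_mem_commutator (Subgroup.mem_top _) (Subgroup.mem_top _)
  · rw [commutator_eq_closure, Subgroup.closure_le]
    rintro _ ⟨x, y, rfl⟩
    obtain ⟨a, b, rfl⟩ := P.surj x
    obtain ⟨c, d, rfl⟩ := P.surj y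
    rw [P.comm_eq h]
    exact (P.mem_center_iff h _ _).2 rfl

theorem exponent_eq : Monoid.exponent U = 4 := by
  have h4 : Monoid.exponent U ∣ 2 ^ 2 := by
    apply Monoid.exponent_dvd_of_forall_pow_eq_one
    intro g
    obtain ⟨a, b, rfl⟩ := P.surj g
    exact P.pow_four h a b
  obtain ⟨k, hk, hk'⟩ := (Nat.dvd_prime_pow Nat.prime_two).1 h4
  have hk2 : k = 2 := by
    by_contra hne
    have hk1 : k ≤ 1 := by omega
    have hd : Monoid.exponent U ∣ 2 := by
      rw [hk']
      calc 2 ^ k ∣ 2 ^ 1 := pow_dvd_pow 2 hk1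
        _ = 2 := by norm_num
    have h1 : P.τ 1 0 ^ 2 = 1 := by
      obtain ⟨r, hr⟩ := hd
      rw [hr, pow_mul, Monoid.pow_exponent_eq_one, one_pow]
    rw [P.sq_eq h, one_pow, ← P.zero] at h1
    exact one_ne_zero (P.inj h1).2
  rw [hk', hk2]
  norm_num

end SzUParam

end Cfsg.Agent.Lib.Helper18
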