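import Mathlib
import Cfsg.Prelude.Def_LieExceptional
import Cfsg.Agent.Lib.Helper18.Sz1
import Cfsg.Agent.Lib.Helper18.Sz2
import Cfsg.Agent.Lib.Helper18.Sz3
import Cfsg.Agent.Lib.Helper18.Sz4
import Cfsg.Agent.Lib.Helper18.Sz5
import Cfsg.Agent.Lib.Helper18.Sz6
import Cfsg.Agent.Lib.Helper18.Sz7
import Cfsg.Agent.Lib.Helper18.Sz8

/-! Suzuki groups: simplicity. -/

set_option autoImplicit false

namespace Cfsg.Agent.Lib.Helper18

open Cfsg Matrix
open scoped Pointwise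

section rel

variable {F : Type*} [Field F] {s : ℕ}

theorem szT_central_mul (h : SzData F s) (e c d : F) :
    szT s 0 e * szT s c d = szT s c (e + d) := by
  rw [szT_mul h, zero_add, h.zero_pow_s, zero_mul, add_zero]

theorem szT_mul_central (h : SzData F s) (e c d : F) :
    szT s c d * szT s 0 e = szT s c (e + d) := by
  rw [szT_mul h, add_zero, mul_zero, add_zero, add_comm d e]

theorem szW_conj_rel (h : SzData F s) :
    szT s (1 : F) 1 * szW * szT s 0 1 = szW * (szT s 1 1 * szW) := by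
  apply Subtype.ext
  change szTMat s 1 1 * suzukiForm F * szTMat s 0 1 = suzukiForm F * (szTMat s 1 1 * suzukiForm F)
  have h2 := h.two
  have hs := h.s_ne
  ext i j
  fin_cases i <;> fin_cases j <;>
    simp [szTMat, suzukiForm, szF, Matrix.mul_apply, Fin.sum_univ_four, hs] <;>
    first
      | linear_combination h2
      | linear_combination (-1 : F) * h2
      | linear_combination (2 : F) * h2
      | linear_combination (3 : F) * h2

theorem szW_inv : (szW : SpecialLinearGroup (Fin 4) F)⁻¹ = szW :=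
  inv_eq_of_mul_eq_one_left szW_mul_self

end rel

variable {F : Type*} [Field F] [Finite F] {m : ℕ}

theorem Sz_normal_aux (h : SzData F (2 ^ (m + 1))) (N : Subgroup (SpecialLinearGroup (Fin 4) F))
    (hle : N ≤ Sz F m) (hnorm : ∀ g ∈ Sz F m, ∀ n ∈ N, g * n * g⁻¹ ∈ N) (hne : N ≠ ⊥) :
    Sz F m ≤ N := by
  obtain ⟨s, hs⟩ : ∃ s, s = 2 ^ (m + 1) := ⟨_, rfl⟩
  have hT : ∀ a b : F, szT s a b ∈ Sz F m := fun a b => hs ▸ szT_mem h a b
  have hD : ∀ t : Fˣ, szD s t ∈ Sz F m := fun t => hs ▸ szD_mem h t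
  have hW : (szW : SpecialLinearGroup (Fin 4) F) ∈ Sz F m := szW_mem h
  have hPm : ∀ x y : F, szP s x y ∈ suzukiOvoid F m := fun x y => hs ▸ szP_mem m x y
  have h3 := @Sz_three_point F _ _ m h
  have h2t := @Sz_two_trans F _ _ m h
  have h1p := @Sz_one_point F _ _ m h
  have hnc := @Sz_no_comm F _ _ m h
  have hbr := @Sz_bruhat F _ _ m h
  rw [← hs] at h h2t h1p hnc hbr
  obtain ⟨c0, hc00, hc01⟩ := h.exists_ne
  obtain ⟨t, ht⟩ : ∃ t : Fˣ, t ≠ 1 := ⟨Units.mk0 c0 hc00, fun hh => hc01 (congrArg Units.val hh)⟩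
  -- A1
  obtain ⟨⟨n0, hn0⟩, hn01'⟩ := Subgroup.ne_bot_iff_exists_ne_one.1 hne
  have hn01 : n0 ≠ 1 := fun hh => hn01' (Subtype.ext hh)
  obtain ⟨a, ha, hmove⟩ : ∃ a ∈ suzukiOvoid F m, n0 • a ≠ a := by
    by_contra hcon
    push Not at hcon
    apply hn01
    exact h3 (hle hn0) (szInf_mem m) (hPm 0 0) (hPm 1 0) (szP_ne_inf _ _ _).symm
      (fun hh => zero_ne_one (szP_inj hh).1) (szP_ne_inf _ _ _).symm
      (hcon _ (szInf_mem m)) (hcon _ (hPm 0 0)) (hcon _ (hPm 1 0))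
  obtain ⟨g, hg, hga, hgb⟩ := h2t ha (Sz_smul_mem (hle hn0) ha) hmove.symm
  obtain ⟨n1, hn1, hn1inf⟩ : ∃ n1 ∈ N, n1 • suzukiPointInfinity F = szP s 0 0 := by
    refine ⟨g * n0 * g⁻¹, hnorm g hg n0 hn0, ?_⟩
    rw [mul_smul, mul_smul, ← hga, inv_smul_smul, hgb]
  -- A2
  obtain ⟨x, hx, hxinf, hx1⟩ : ∃ x ∈ N, x • suzukiPointInfinity F = suzukiPointInfinity F ∧
      x ≠ 1 := by
    refine ⟨n1⁻¹ * (szD s t * n1 * (szD s t)⁻¹), N.mul_mem (N.inv_mem hn1)
      (hnorm _ (hD t) n1 hn1), ?_, ?_⟩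
    · rw [mul_smul, mul_smul, mul_smul, inv_smul_eq_iff.2 (szD_smul_inf t).symm, hn1inf,
        szD_smul_zero h, inv_smul_eq_iff, hn1inf]
    · intro hh
      apply ht
      apply hnc (hle hn1) hn1inf
      rw [inv_mul_eq_one] at hh
      rw [eq_mul_inv_iff_mul_eq] at hh
      exact hh.symm
  -- A3
  obtain ⟨e, he0, heN⟩ : ∃ e : F, e ≠ 0 ∧ szT s 0 e ∈ N := by
    obtain ⟨a, b, u, rfl⟩ := h1p (hle hx) hxinf
    by_cases hu : u = 1
    · subst hu
      rw [szD_one, mul_one] at hx hx1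
      by_cases ha0 : a = 0
      · subst ha0
        refine ⟨b, ?_, hx⟩
        rintro rfl
        exact hx1 (szT_zero h)
      · refine ⟨a ^ (s + 1), pow_ne_zero _ ha0, ?_⟩
        have := N.mul_mem hx hx
        rw [szT_mul h, h.add_self, h.add_self, zero_add, ← pow_succ] at this
        exact this
    · refine ⟨((u : F) ^ 2) ^ (s + 1) + 1, ?_, ?_⟩
      · intro hh
        apply hu
        have h1 : ((u : F) ^ 2) ^ (s + 1) = 1 := h.eq_of_add_eq_zero hh
        have h2 := h.eq_one_of_pow_s_add_one h1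
        apply Units.ext
        apply h.sq_inj
        rw [h2]; simp
      · have hy := N.mul_mem hx (hnorm _ (hT 0 1) _ (N.inv_mem hx))
        have e1 : szT s a b * szD s u * (szT s 0 1 * (szT s a b * szD s u)⁻¹ * (szT s 0 1)⁻¹) =
            szT s a b * (szD s u * szT s 0 1 * (szD s u)⁻¹) * (szT s a b)⁻¹ * (szT s 0 1)⁻¹ := by
          group
        rw [e1, szD_conj_szT h, mul_zero, mul_one, szT_mul_central h, ← szT_central_mul h,
          mul_inv_cancel_right, szT_inv h, szT_central_mul h, zero_pow (by omega), add_zero] at hy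
        exact hy
  -- A4
  have hZ : ∀ e' : F, szT s 0 e' ∈ N := by
    intro e'
    obtain ⟨k, hk⟩ := h.exists_pow_s_add_one (e' / e)
    by_cases hk0 : k = 0
    · rw [hk0, zero_pow (by omega)] at hk
      have : e' = 0 := by
        rcases div_eq_zero_iff.1 hk.symm with h0 | h0
        · exact h0
        · exact absurd h0 he0
      rw [this, szT_zero h]
      exact N.one_mem
    obtain ⟨r, hr⟩ := h.sqrt k
    have hr0 : r ≠ 0 := by
      rintro rfl
      apply hk0
      rw [← hr]; simp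
    have := hnorm _ (hD (Units.mk0 r hr0)) _ heN
    rw [szD_conj_szT h, Units.val_mk0, hr, hk, mul_zero] at this
    have e2 : e' / e * e = e' := by field_simp
    rwa [e2] at this
  -- C1
  have hWN : (szW : SpecialLinearGroup (Fin 4) F) ∈ N := by
    have := hnorm _ ((Sz F m).mul_mem (hT 1 1) hW) _ (hZ 1)
    rw [szW_conj_rel h, mul_inv_cancel_right] at this
    exact this
  -- C2
  have hDN : ∀ u : Fˣ, szD s u ∈ N := by
    intro u
    obtain ⟨r, hr⟩ := h.sqrt (u : F)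
    have hr0 : r ≠ 0 := by
      rintro rfl
      apply u.ne_zero
      rw [← hr]; simp
    have hu : u = Units.mk0 r hr0 * Units.mk0 r hr0 := by
      apply Units.ext
      simp [← hr, sq]
    have := N.mul_mem (hnorm _ (hD (Units.mk0 r hr0)) _ hWN) hWN
    have e1 : szD s (Units.mk0 r hr0) * szW * (szD s (Units.mk0 r hr0))⁻¹ * szW =
        szD s (Units.mk0 r hr0) * (szW * szD s (Units.mk0 r hr0)⁻¹ * szW) := by
      rw [szD_inv]; simp only [mul_assoc]
    rw [e1, szW_conj_szD, inv_inv, ← szD_mul, ← hu] at this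
    exact this
  -- C3
  have hTN : ∀ a b : F, szT s a b ∈ N := by
    intro a b
    have hk1 : (t : F) ^ 2 + 1 ≠ 0 := by
      intro hh
      apply ht
      apply Units.ext
      apply h.sq_inj
      rw [h.eq_of_add_eq_zero hh]; simp
    obtain ⟨a', ha'⟩ : ∃ a', a' = a / ((t : F) ^ 2 + 1) := ⟨_, rfl⟩
    have hy := N.mul_mem (hDN t) (hnorm _ (hT a' 0) _ (N.inv_mem (hDN t)))
    have e1 : szD s t * (szT s a' 0 * (szD s t)⁻¹ * (szT s a' 0)⁻¹) =
        szD s t * szT s a' 0 * (szD s t)⁻¹ * (szT s a' 0)⁻¹ := by group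
    rw [e1, szD_conj_szT h, szT_inv h, szT_mul h] at hy
    have e2 : (t : F) ^ 2 * a' + a' = a := by rw [ha']; field_simp
    rw [e2] at hy
    have := N.mul_mem (hZ (b + (((t : F) ^ 2) ^ (s + 1) * 0 + (0 + a' ^ (s + 1)) +
      ((t : F) ^ 2 * a') ^ s * a'))) hy
    rw [szT_central_mul h] at this
    convert this using 2
    rw [add_assoc, h.add_self, add_zero]
  intro g hg
  rcases hbr hg with ⟨a, b, u, rfl⟩ | ⟨a, b, c, d, u, rfl⟩
  · exact N.mul_mem (hTN a b) (hDN u)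
  · exact N.mul_mem (N.mul_mem (hTN a b) hWN) (N.mul_mem (hTN c d) (hDN u))

theorem Sz_nontrivial (h : SzData F (2 ^ (m + 1))) : Nontrivial (Sz F m) := by
  refine ⟨⟨⟨szT (2 ^ (m + 1)) 1 0, szT_mem h 1 0⟩, 1, ?_⟩⟩
  intro hh
  have := congrArg Subtype.val hh
  rw [OneMemClass.coe_one, ← szT_zero h] at this
  exact one_ne_zero (szT_inj this).1

theorem Sz_normal_eq (h : SzData F (2 ^ (m + 1))) (N : Subgroup (Sz F m)) (hN : N.Normal) :
    N = ⊥ ∨ N = ⊤ := by
  by_cases hb : N = ⊥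
  · exact Or.inl hb
  right
  have h1 : N.map (Sz F m).subtype ≤ Sz F m := Subgroup.map_subtype_le N
  have h2 : ∀ g ∈ Sz F m, ∀ n ∈ N.map (Sz F m).subtype, g * n * g⁻¹ ∈ N.map (Sz F m).subtype := by
    intro g hg n' hn'
    obtain ⟨n, hn, hnn⟩ := Subgroup.mem_map.1 hn'
    rw [Subgroup.mem_map]
    obtain ⟨g', hg'⟩ : ∃ g' : Sz F m, (Sz F m).subtype g' = g := ⟨⟨g, hg⟩, rfl⟩
    refine ⟨g' * n * g'⁻¹, hN.conj_mem n hn g', ?_⟩
    rw [map_mul, map_mul, map_inv, hnn, hg']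
  have h3 : N.map (Sz F m).subtype ≠ ⊥ := by
    intro hh
    apply hb
    rwa [Subgroup.map_eq_bot_iff_of_injective _ (Subgroup.subtype_injective _)] at hh
  have := Sz_normal_aux h (N.map (Sz F m).subtype) h1 h2 h3
  rw [eq_top_iff]
  intro g _
  obtain ⟨n, hn, hng⟩ := Subgroup.mem_map.1 (this g.2)
  have : n = g := Subtype.ext hng
  rwa [← this]

theorem Sz_isSimpleGroup (h : SzData F (2 ^ (m + 1))) : IsSimpleGroup (Sz F m) :=
  { toNontrivial := Sz_nontrivial h
    eq_bot_or_eq_top_of_normal := fun N hN => Sz_normal_eq h N hN }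

end Cfsg.Agent.Lib.Helper18
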