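import Mathlib
import Cfsg.Prelude.Def_LieExceptional
import Cfsg.Agent.Lib.Helper18.Sz10

/-! Suzuki groups: generation by two elements. -/

set_option autoImplicit false

namespace Cfsg.Agent.Lib.Helper18

open Cfsg Matrix

section rel

variable {F : Type*} [Field F] {s : ℕ}

/-- every nonzero element of `F` is `t ^ 2` for a unit `t` -/
theorem SzData.exists_unit_sq (h : SzData F s) {k : F} (hk : k ≠ 0) : ∃ t : Fˣ, (t : F) ^ 2 = k := by
  obtain ⟨r, hr⟩ := h.sqrt k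
  have hr0 : r ≠ 0 := by
    rintro rfl
    apply hk
    rw [← hr]; simp
  exact ⟨Units.mk0 r hr0, hr⟩

theorem szU_le_of_mem (h : SzData F s) (M : Subgroup (SpecialLinearGroup (Fin 4) F))
    (hD : ∀ t : Fˣ, szD s t ∈ M) {c d : F} (hc : c ≠ 0) (hcd : szT s c d ∈ M) (a b : F) :
    szT s a b ∈ M := by
  have h1 : ∀ k : F, k ≠ 0 → szT s (k * c) (k ^ (s + 1) * d) ∈ M := by
    intro k hk
    obtain ⟨t, ht⟩ := h.exists_unit_sq hk
    have := M.mul_mem (M.mul_mem (hD t) hcd) (M.inv_mem (hD t))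
    rwa [szD_conj_szT h, ht] at this
  have hZ : ∀ e : F, szT s 0 e ∈ M := by
    intro e
    by_cases he : e = 0
    · rw [he, szT_zero h]; exact M.one_mem
    obtain ⟨a', ha'⟩ := h.exists_pow_s_add_one e
    have ha0 : a' ≠ 0 := by
      rintro rfl
      apply he
      rw [← ha', zero_pow (by omega)]
    have h2 := h1 (a' / c) (div_ne_zero ha0 hc)
    have h3 := M.mul_mem h2 h2
    rw [szT_mul h, h.add_self, h.add_self, zero_add, ← pow_succ, div_mul_cancel₀ _ hc, ha'] at h3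
    exact h3
  by_cases ha : a = 0
  · rw [ha]; exact hZ b
  have h2 := h1 (a / c) (div_ne_zero ha hc)
  rw [div_mul_cancel₀ _ hc] at h2
  have h3 := M.mul_mem (hZ (b + (a / c) ^ (s + 1) * d)) h2
  rw [szT_central_mul h, add_assoc, h.add_self, add_zero] at h3
  exact h3

end rel

variable {F : Type*} [Field F] [Finite F] {m : ℕ}

theorem Sz_le_of_gens (h : SzData F (2 ^ (m + 1))) (M : Subgroup (SpecialLinearGroup (Fin 4) F))
    (hD : ∀ t : Fˣ, szD (2 ^ (m + 1)) t ∈ M) (hx : szT (2 ^ (m + 1)) 1 0 * szW ∈ M) :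
    Sz F m ≤ M := by
  have hbr := @Sz_bruhat F _ _ m h
  obtain ⟨s, hs⟩ : ∃ s, s = 2 ^ (m + 1) := ⟨_, rfl⟩
  rw [← hs] at h hD hx hbr
  obtain ⟨c0, hc00, hc01⟩ := h.exists_ne
  obtain ⟨t, ht⟩ : ∃ t : Fˣ, t ≠ 1 := ⟨Units.mk0 c0 hc00, fun hh => hc01 (congrArg Units.val hh)⟩
  have hy := M.mul_mem (M.mul_mem (M.mul_mem hx (hD t⁻¹)) (M.inv_mem hx)) (hD t⁻¹)
  have e1 : szT s (1 : F) 0 * szW * szD s t⁻¹ * (szT s 1 0 * szW)⁻¹ * szD s t⁻¹ =
      szT s 1 0 * (szD s t * (szT s 1 0)⁻¹ * (szD s t)⁻¹) := by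
    have hw : szW * szD s t⁻¹ * szW = szD s t := by rw [szW_conj_szD, inv_inv]
    rw [_root_.mul_inv_rev, szW_inv, szD_inv]
    calc szT s (1 : F) 0 * szW * szD s t⁻¹ * (szW * (szT s 1 0)⁻¹) * szD s t⁻¹
        = szT s 1 0 * (szW * szD s t⁻¹ * szW) * (szT s 1 0)⁻¹ * szD s t⁻¹ := by
          simp only [mul_assoc]
      _ = _ := by rw [hw]; simp only [mul_assoc]
  rw [e1, szT_inv h, szD_conj_szT h, szT_mul h] at hy
  have hc : (1 : F) + (t : F) ^ 2 * 1 ≠ 0 := by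
    intro hh
    apply ht
    apply Units.ext
    apply h.sq_inj
    rw [mul_one] at hh
    rw [← h.eq_of_add_eq_zero hh]; simp
  have hT := szU_le_of_mem h M hD hc hy
  have hW : (szW : SpecialLinearGroup (Fin 4) F) ∈ M := by
    have := M.mul_mem (M.inv_mem (hT 1 0)) hx
    rwa [inv_mul_cancel_left] at this
  intro g hg
  rcases hbr hg with ⟨a, b, u, rfl⟩ | ⟨a, b, c, d, u, rfl⟩
  · exact M.mul_mem (hT a b) (hD u)
  · exact M.mul_mem (M.mul_mem (hT a b) hW) (M.mul_mem (hT c d) (hD u))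

theorem Sz_two_generated (h : SzData F (2 ^ (m + 1))) :
    ∃ a b : Sz F m, Subgroup.closure ({a, b} : Set (Sz F m)) = ⊤ := by
  obtain ⟨ζ, hζ⟩ := IsCyclic.exists_generator (α := Fˣ)
  obtain ⟨a, ha⟩ : ∃ a : Sz F m, (Sz F m).subtype a = szD (2 ^ (m + 1)) ζ :=
    ⟨⟨_, szD_mem h ζ⟩, rfl⟩
  obtain ⟨b, hb⟩ : ∃ b : Sz F m, (Sz F m).subtype b = szT (2 ^ (m + 1)) 1 0 * szW :=
    ⟨⟨_, (Sz F m).mul_mem (szT_mem h 1 0) (szW_mem h)⟩, rfl⟩
  refine ⟨a, b, ?_⟩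
  have hle := Sz_le_of_gens h ((Subgroup.closure ({a, b} : Set (Sz F m))).map (Sz F m).subtype)
    (by
      intro t
      obtain ⟨n, rfl⟩ := Subgroup.mem_zpowers_iff.1 (hζ t)
      refine ⟨a ^ n, Subgroup.zpow_mem _ (Subgroup.subset_closure (by simp)) n, ?_⟩
      rw [map_zpow, ha]
      exact ((szDHom F (2 ^ (m + 1))).map_zpow ζ n).symm)
    ⟨b, Subgroup.subset_closure (by simp), hb⟩
  rw [eq_top_iff]
  intro g _
  obtain ⟨n, hn, hng⟩ := Subgroup.mem_map.1 (hle g.2)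
  have : n = g := Subtype.ext hng
  rwa [← this]

end Cfsg.Agent.Lib.Helper18
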