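import Mathlib
import Cfsg.Prelude.Def_LieExceptional
import Cfsg.Agent.Lib.Helper18.Sz1
import Cfsg.Agent.Lib.Helper18.Sz2
import Cfsg.Agent.Lib.Helper18.Sz3
import Cfsg.Agent.Lib.Helper18.Sz4
import Cfsg.Agent.Lib.Helper18.Sz5
import Cfsg.Agent.Lib.Helper18.Sz6
import Cfsg.Agent.Lib.Helper18.Sz7
import Cfsg.Agent.Lib.Helper18.Sz8

/-! Suzuki groups: the Sylow 2-subgroup. -/

set_option autoImplicit false

namespace Cfsg.Agent.Lib.Helper18

open Cfsg Matrix
open scoped Pointwise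

variable {F : Type*} [Field F] [Finite F] {m : ℕ}

/-- The unipotent subgroup `{T(a,b)}` of the Suzuki group. -/
def szU (h : SzData F (2 ^ (m + 1))) : Subgroup (Sz F m) where
  carrier := {g | ∃ a b, g.1 = szT (2 ^ (m + 1)) a b}
  mul_mem' := by
    rintro x y ⟨a, b, hx⟩ ⟨c, d, hy⟩
    exact ⟨_, _, by rw [Subgroup.coe_mul, hx, hy, szT_mul h]⟩
  one_mem' := ⟨0, 0, (szT_zero h).symm⟩
  inv_mem' := by
    rintro x ⟨a, b, hx⟩
    exact ⟨_, _, by rw [Subgroup.coe_inv, hx, szT_inv h]⟩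

/-- The parametrisation of `szU`. -/
def szUParam (h : SzData F (2 ^ (m + 1))) : SzUParam F (2 ^ (m + 1)) (szU h) where
  τ a b := ⟨⟨szT (2 ^ (m + 1)) a b, szT_mem h a b⟩, a, b, rfl⟩
  bij := by
    constructor
    · rintro ⟨a, b⟩ ⟨c, d⟩ hh
      obtain ⟨h1, h2⟩ := szT_inj (congrArg (fun z => z.1.1) hh)
      simp only at h1 h2
      rw [h1, h2]
    · rintro ⟨⟨g, hg⟩, a, b, hab⟩
      refine ⟨(a, b), ?_⟩
      apply Subtype.ext; apply Subtype.ext
      exact hab.symm
  mul a b c d := by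
    apply Subtype.ext; apply Subtype.ext
    exact szT_mul h a b c d

/-- Transport of a parametrisation along an isomorphism. -/
def SzUParam.transport {F : Type*} [Field F] {s : ℕ} {U V : Type*} [Group U] [Group V]
    (P : SzUParam F s U) (e : U ≃* V) : SzUParam F s V where
  τ a b := e (P.τ a b)
  bij := e.bijective.comp P.bij
  mul a b c d := by rw [← map_mul, P.mul]

theorem Sz_factorization_two [Fintype F] (hm : 1 ≤ m) (hF : Fintype.card F = 2 ^ (2 * m + 1)) :
    (Nat.card (Sz F m)).factorization 2 = 2 * (2 * m + 1) := by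
  rw [card_Sz (szData_of_card hm hF), Nat.card_eq_fintype_card, hF]
  obtain ⟨k, hk⟩ : ∃ k, k = 2 * m + 1 := ⟨_, rfl⟩
  rw [← hk]
  have hk1 : 1 ≤ k := by omega
  have hq : 2 ≤ 2 ^ k := by
    calc 2 = 2 ^ 1 := by norm_num
      _ ≤ 2 ^ k := Nat.pow_le_pow_right (by norm_num) hk1
  have hev : 2 ∣ 2 ^ k := dvd_pow_self 2 (by omega)
  have h1 : ¬ 2 ∣ (2 ^ k) ^ 2 + 1 := by
    intro hh
    have : 2 ∣ (2 ^ k) ^ 2 := dvd_pow hev (by norm_num)
    omega
  have h2 : ¬ 2 ∣ 2 ^ k - 1 := by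
    intro hh
    omega
  rw [Nat.factorization_mul (by positivity) (by omega), Nat.factorization_mul (by positivity)
    (by positivity), Finsupp.add_apply, Finsupp.add_apply,
    Nat.factorization_eq_zero_of_not_dvd h1, Nat.factorization_eq_zero_of_not_dvd h2,
    ← pow_mul, Nat.factorization_pow, Finsupp.smul_apply, Nat.Prime.factorization_self Nat.prime_two]
  simp [mul_comm]

theorem Sz_sylow_param [Fintype F] (hm : 1 ≤ m) (hF : Fintype.card F = 2 ^ (2 * m + 1))
    (P : Sylow 2 (Sz F m)) : Nonempty (SzUParam F (2 ^ (m + 1)) P) := by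
  have h := szData_of_card hm hF
  have : Fact (Nat.Prime 2) := ⟨Nat.prime_two⟩
  have hcard : Nat.card (szU h) = 2 ^ (Nat.card (Sz F m)).factorization 2 := by
    rw [Sz_factorization_two hm hF, (szUParam h).card, Nat.card_eq_fintype_card, hF, ← pow_mul,
      mul_comm]
  exact ⟨(szUParam h).transport (Sylow.equiv (Sylow.ofCard (szU h) hcard) P)⟩

end Cfsg.Agent.Lib.Helper18
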