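import Mathlib
import Cfsg.Prelude.Def_LieExceptional
import Cfsg.Prelude.Def_Sz
import Cfsg.Agent.Lib.Helper18.Sz9
import Cfsg.Agent.Lib.Helper18.SzL2

/-! The Sylow 2-normaliser package for groups isomorphic to the Suzuki group. -/

set_option autoImplicit false

namespace Cfsg.Agent.Lib.Helper18

open Cfsg Matrix

section abstract

variable {G Ω : Type*} [Group G] [MulAction G Ω]

theorem normalizer_eq_stabilizer_of_regular (a : Ω) (S : Subgroup G)
    (hSa : S ≤ MulAction.stabilizer G a)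
    (hSn : ∀ g ∈ MulAction.stabilizer G a, ∀ s ∈ S, g * s * g⁻¹ ∈ S)
    (hreg : ∀ x y : Ω, x ≠ a → y ≠ a → ∃ s : S, (s : G) • x = y)
    (hne : ∃ x y : Ω, x ≠ a ∧ y ≠ a ∧ x ≠ y) :
    Subgroup.normalizer (S : Set G) = MulAction.stabilizer G a := by
  apply le_antisymm
  · intro n hn
    rw [MulAction.mem_stabilizer_iff]
    by_contra hna
    obtain ⟨y, hya, hyx⟩ : ∃ y : Ω, y ≠ a ∧ y ≠ n • a := by
      obtain ⟨x, y, hx, hy, hxy⟩ := hne
      by_cases h1 : x = n • a
      · exact ⟨y, hy, fun hh => hxy (h1.trans hh.symm)⟩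
      · exact ⟨x, hx, h1⟩
    obtain ⟨s, hs⟩ := hreg (n • a) y hna hya
    have h1 : n⁻¹ * (s : G) * n ∈ S := by
      have := (Subgroup.mem_normalizer_iff.1 (Subgroup.inv_mem _ hn) (s : G)).1 s.2
      simpa using this
    have h2 := hSa h1
    rw [MulAction.mem_stabilizer_iff, mul_smul, mul_smul, inv_smul_eq_iff, hs] at h2
    exact hyx h2
  · intro g hg
    rw [Subgroup.mem_normalizer_iff]
    intro x
    constructor
    · exact hSn g hg x
    · intro hx
      have := hSn g⁻¹ (Subgroup.inv_mem _ hg) _ hx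
      simpa [mul_assoc] using this

theorem two_pretransitive_quotient_stabilizer (a : Ω)
    (h2 : MulAction.IsMultiplyPretransitive G Ω 2) :
    MulAction.IsMultiplyPretransitive G (G ⧸ MulAction.stabilizer G a) 2 := by
  rw [MulAction.is_two_pretransitive_iff] at h2 ⊢
  intro x y z w hxy hzw
  have hinj := MulAction.injective_ofQuotientStabilizer G a
  obtain ⟨g, h1, h3⟩ := h2 (fun hh => hxy (hinj hh)) (fun hh => hzw (hinj hh))
  refine ⟨g, hinj ?_, hinj ?_⟩
  · rw [MulAction.ofQuotientStabilizer_smul, h1]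
  · rw [MulAction.ofQuotientStabilizer_smul, h3]

theorem regular_quotient_stabilizer (a : Ω) (S : Subgroup G)
    (hreg : ∀ x y : Ω, x ≠ a → y ≠ a → ∃! s : S, (s : G) • x = y)
    (x y : G ⧸ MulAction.stabilizer G a) (hx : x ≠ QuotientGroup.mk 1)
    (hy : y ≠ QuotientGroup.mk 1) : ∃! s : S, (s : G) • x = y := by
  have hinj := MulAction.injective_ofQuotientStabilizer G a
  have h1 : MulAction.ofQuotientStabilizer G a (QuotientGroup.mk 1) = a := by
    rw [MulAction.ofQuotientStabilizer_mk, one_smul]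
  obtain ⟨s, hs, huniq⟩ := hreg _ _ (fun hh => hx (hinj (hh.trans h1.symm)))
    (fun hh => hy (hinj (hh.trans h1.symm)))
  refine ⟨s, hinj ?_, ?_⟩
  · rw [MulAction.ofQuotientStabilizer_smul]; exact hs
  · intro s' hs'
    apply huniq
    rw [← MulAction.ofQuotientStabilizer_smul, hs']

end abstract

section concrete

variable {F : Type*} [Field F] [Fintype F] {m : ℕ}

theorem Sz_two_pretransitive (h : SzData F (2 ^ (m + 1))) :
    MulAction.IsMultiplyPretransitive (Sz F m) (suzukiOvoid F m) 2 := by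
  rw [MulAction.is_two_pretransitive_iff]
  intro a b c d hab hcd
  obtain ⟨g1, hg1, e1, e2⟩ := Sz_two_trans h a.2 b.2 (fun hh => hab (Subtype.ext hh))
  obtain ⟨g2, hg2, e3, e4⟩ := Sz_two_trans h c.2 d.2 (fun hh => hcd (Subtype.ext hh))
  refine ⟨(⟨g2, hg2⟩ : Sz F m)⁻¹ * (⟨g1, hg1⟩ : Sz F m), ?_, ?_⟩
  · rw [mul_smul, inv_smul_eq_iff]
    apply Subtype.ext
    exact e1.trans e3.symm
  · rw [mul_smul, inv_smul_eq_iff]
    apply Subtype.ext
    exact e2.trans e4.symm

theorem Sz_package (hm : 1 ≤ m) (hF : Fintype.card F = 2 ^ (2 * m + 1))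
    {G : Type*} [Group G] (e : G ≃* Sz F m) :
    Nat.card G = (2 ^ (2 * m + 1)) ^ 2 * (2 ^ (2 * m + 1) - 1) * ((2 ^ (2 * m + 1)) ^ 2 + 1) ∧
    ∃ S : Sylow 2 G,
      Nat.card (Subgroup.normalizer ((S : Subgroup G) : Set G)) =
        (2 ^ (2 * m + 1)) ^ 2 * (2 ^ (2 * m + 1) - 1) ∧
      (Subgroup.normalizer ((S : Subgroup G) : Set G)).index = (2 ^ (2 * m + 1)) ^ 2 + 1 ∧
      MulAction.IsMultiplyPretransitive G (G ⧸ Subgroup.normalizer ((S : Subgroup G) : Set G)) 2 ∧
      ∀ x y : G ⧸ Subgroup.normalizer ((S : Subgroup G) : Set G),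
        x ≠ (QuotientGroup.mk 1) → y ≠ (QuotientGroup.mk 1) →
          ∃! s : ↥(S : Subgroup G), (s : G) • x = y := by
  have h := szData_of_card hm hF
  have hfin : Finite G := Finite.of_equiv _ e.symm.toEquiv
  have : Fact (Nat.Prime 2) := ⟨Nat.prime_two⟩
  have hcardG : Nat.card G = Nat.card (Sz F m) := Nat.card_congr e.toEquiv
  have hcard : Nat.card G =
      (2 ^ (2 * m + 1)) ^ 2 * (2 ^ (2 * m + 1) - 1) * ((2 ^ (2 * m + 1)) ^ 2 + 1) := by
    rw [hcardG, card_Sz h, Nat.card_eq_fintype_card, hF]; ring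
  refine ⟨hcard, ?_⟩
  let _ : MulAction G (suzukiOvoid F m) := MulAction.compHom _ e.toMonoidHom
  have hsmul : ∀ (g : G) (x : suzukiOvoid F m), g • x = e g • x := fun _ _ => rfl
  obtain ⟨a, ha⟩ : ∃ a : suzukiOvoid F m, a = ⟨suzukiPointInfinity F, szInf_mem m⟩ := ⟨_, rfl⟩
  have h2 : MulAction.IsMultiplyPretransitive G (suzukiOvoid F m) 2 := by
    have h2' := Sz_two_pretransitive (F := F) (m := m) h
    rw [MulAction.is_two_pretransitive_iff] at h2' ⊢
    intro x y z w hxy hzw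
    obtain ⟨g, h1, h3⟩ := h2' hxy hzw
    exact ⟨e.symm g, by rw [hsmul, e.apply_symm_apply, h1], by rw [hsmul, e.apply_symm_apply, h3]⟩
  obtain ⟨S, hS⟩ : ∃ S : Subgroup G, S = (szU h).map e.symm.toMonoidHom := ⟨_, rfl⟩
  have hmemS : ∀ x : G, x ∈ S ↔ ∃ c d, (e x).1 = szT (2 ^ (m + 1)) c d := by
    intro x
    rw [hS, Subgroup.mem_map_equiv]
    rfl
  have hcardS : Nat.card S = 2 ^ (Nat.card G).factorization 2 := by
    rw [hcardG, Sz_factorization_two hm hF, hS,
      ← Nat.card_congr ((szU h).equivMapOfInjective _ e.symm.injective).toEquiv,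
      (szUParam h).card, Nat.card_eq_fintype_card, hF, ← pow_mul, mul_comm]
  have hstab : ∀ g : G, g ∈ MulAction.stabilizer G a ↔
      (e g).1 • suzukiPointInfinity F = suzukiPointInfinity F := by
    intro g
    rw [MulAction.mem_stabilizer_iff, hsmul, ha]
    constructor
    · intro hh; exact congrArg Subtype.val hh
    · intro hh; exact Subtype.ext hh
  have hSa : S ≤ MulAction.stabilizer G a := by
    intro x hx
    obtain ⟨c, d, hcd⟩ := (hmemS x).1 hx
    rw [hstab, hcd, szT_smul_inf]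
  have hSn : ∀ g ∈ MulAction.stabilizer G a, ∀ x ∈ S, g * x * g⁻¹ ∈ S := by
    intro g hg x hx
    obtain ⟨c, d, hcd⟩ := (hmemS x).1 hx
    obtain ⟨c', d', t, hg'⟩ := Sz_one_point h (e g).2 ((hstab g).1 hg)
    rw [hmemS, map_mul, map_mul, map_inv, Subgroup.coe_mul, Subgroup.coe_mul, Subgroup.coe_inv,
      hcd, hg']
    have e1 : szT (2 ^ (m + 1)) c' d' * szD (2 ^ (m + 1)) t * szT (2 ^ (m + 1)) c d *
        (szT (2 ^ (m + 1)) c' d' * szD (2 ^ (m + 1)) t)⁻¹ =
        szT (2 ^ (m + 1)) c' d' * (szD (2 ^ (m + 1)) t * szT (2 ^ (m + 1)) c d *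
          (szD (2 ^ (m + 1)) t)⁻¹) * (szT (2 ^ (m + 1)) c' d')⁻¹ := by group
    rw [e1, szD_conj_szT h, szT_inv h, szT_mul h, szT_mul h]
    exact ⟨_, _, rfl⟩
  have hpt : ∀ x : suzukiOvoid F m, x ≠ a → ∃ x1 y1, x.1 = szP (2 ^ (m + 1)) x1 y1 := by
    intro x hx
    rcases mem_suzukiOvoid_iff.1 x.2 with hh | hh
    · exact absurd (Subtype.ext (by rw [ha]; exact hh)) hx
    · exact hh
  have hreg : ∀ x y : suzukiOvoid F m, x ≠ a → y ≠ a → ∃! s : S, (s : G) • x = y := by
    intro x y hx hy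
    obtain ⟨x1, y1, hx1⟩ := hpt x hx
    obtain ⟨x2, y2, hy2⟩ := hpt y hy
    have hact : ∀ (g : G) (c d : F), (e g).1 = szT (2 ^ (m + 1)) c d →
        (g • x = y ↔ (x1 + c = x2 ∧ y1 + d + c ^ (2 ^ (m + 1)) * x1 = y2)) := by
      intro g c d hg
      rw [hsmul]
      constructor
      · intro hh
        have := congrArg Subtype.val hh
        change (e g).1 • x.1 = y.1 at this
        rw [hg, hx1, hy2, szT_smul_P h] at this
        exact szP_inj this
      · rintro ⟨h1, h3⟩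
        apply Subtype.ext
        change (e g).1 • x.1 = y.1
        rw [hg, hx1, hy2, szT_smul_P h, h1, h3]
    obtain ⟨c, hc⟩ : ∃ c, c = x1 + x2 := ⟨_, rfl⟩
    obtain ⟨d, hd⟩ : ∃ d, d = y1 + y2 + c ^ (2 ^ (m + 1)) * x1 := ⟨_, rfl⟩
    have hes : (e (e.symm ⟨szT (2 ^ (m + 1)) c d, szT_mem h c d⟩)).1 = szT (2 ^ (m + 1)) c d := by
      rw [e.apply_symm_apply]
    refine ⟨⟨e.symm ⟨szT (2 ^ (m + 1)) c d, szT_mem h c d⟩, (hmemS _).2 ⟨c, d, hes⟩⟩, ?_, ?_⟩
    · refine (hact _ c d hes).2 ⟨?_, ?_⟩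
      · rw [hc, ← add_assoc, h.add_self, zero_add]
      · rw [hd]
        linear_combination (y1 + c ^ (2 ^ (m + 1)) * x1) * h.two
    · rintro ⟨s', hs'⟩ hss
      obtain ⟨c', d', hcd'⟩ := (hmemS s').1 hs'
      obtain ⟨h1, h3⟩ := (hact s' c' d' hcd').1 hss
      have hc' : c' = c := by
        rw [hc, ← h1, ← add_assoc, h.add_self, zero_add]
      have hd' : d' = d := by
        rw [hd, ← h3, hc']
        linear_combination (-y1 - c ^ (2 ^ (m + 1)) * x1) * h.two
      apply Subtype.ext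
      apply e.injective
      apply Subtype.ext
      rw [hes, hcd', hc', hd']
  have hne : ∃ x y : suzukiOvoid F m, x ≠ a ∧ y ≠ a ∧ x ≠ y := by
    refine ⟨⟨_, szP_mem m 0 0⟩, ⟨_, szP_mem m 1 0⟩, ?_, ?_, ?_⟩
    · rw [ha]; exact fun hh => szP_ne_inf _ _ _ (congrArg Subtype.val hh)
    · rw [ha]; exact fun hh => szP_ne_inf _ _ _ (congrArg Subtype.val hh)
    · exact fun hh => zero_ne_one (szP_inj (congrArg Subtype.val hh)).1
  have hN := normalizer_eq_stabilizer_of_regular a S hSa hSn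
    (fun x y hx hy => (hreg x y hx hy).exists) hne
  have htr : MulAction.IsPretransitive G (suzukiOvoid F m) :=
    MulAction.isPretransitive_of_is_two_pretransitive
  have hidx : (MulAction.stabilizer G a).index = (2 ^ (2 * m + 1)) ^ 2 + 1 := by
    rw [MulAction.index_stabilizer_of_transitive, card_suzukiOvoid, hF]
  refine ⟨Sylow.ofCard S hcardS, ?_⟩
  rw [Sylow.coe_ofCard, hN]
  refine ⟨?_, hidx, two_pretransitive_quotient_stabilizer a h2,
    regular_quotient_stabilizer a S hreg⟩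
  have := Subgroup.card_mul_index (MulAction.stabilizer G a)
  rw [hidx, hcard] at this
  exact Nat.eq_of_mul_eq_mul_right (by positivity) this

end concrete

end Cfsg.Agent.Lib.Helper18
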