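import Mathlib
import Cfsg.Prelude.Def_LieExceptional
import Cfsg.Agent.Lib.Helper18.Sz10
import Cfsg.Agent.Lib.Helper18.SzL3

/-! Suzuki groups: Sylow 2-subgroups are conjugate to `szU`; maximality of the Borel subgroup;
elements of order four are not real. -/

set_option autoImplicit false

namespace Cfsg.Agent.Lib.Helper18

open Cfsg Matrix
open scoped Pointwise

section abstract

variable {G Ω : Type*} [Group G] [MulAction G Ω]

theorem eq_top_of_regular_of_simple [IsSimpleGroup G] (a : Ω) (S : Subgroup G) (hS1 : S ≠ ⊥)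
    (hSn : ∀ g ∈ MulAction.stabilizer G a, ∀ s ∈ S, g * s * g⁻¹ ∈ S)
    (hreg : ∀ x y : Ω, x ≠ a → y ≠ a → ∃ s : S, (s : G) • x = y)
    (M : Subgroup G) (hSM : S ≤ M) (g : G) (hg : g ∈ M) (hga : g • a ≠ a) : M = ⊤ := by
  have htrans : ∀ p : Ω, ∃ m ∈ M, m • a = p := by
    intro p
    by_cases hp : p = a
    · exact ⟨1, M.one_mem, by rw [one_smul, hp]⟩
    · obtain ⟨s, hs⟩ := hreg (g • a) p hga hp
      exact ⟨s * g, M.mul_mem (hSM s.2) hg, by rw [mul_smul, hs]⟩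
  have hconj : ∀ y : G, ∀ u ∈ S, y * u * y⁻¹ ∈ M := by
    intro y u hu
    obtain ⟨n, hn, hna⟩ := htrans (y • a)
    have h1 : n⁻¹ * y ∈ MulAction.stabilizer G a := by
      rw [MulAction.mem_stabilizer_iff, mul_smul, inv_smul_eq_iff, hna]
    have h2 := hSM (hSn _ h1 u hu)
    have h3 := M.mul_mem (M.mul_mem hn h2) (M.inv_mem hn)
    have e : n * (n⁻¹ * y * u * (n⁻¹ * y)⁻¹) * n⁻¹ = y * u * y⁻¹ := by group
    rwa [e] at h3
  have hK : Subgroup.normalClosure (S : Set G) ≤ M := by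
    unfold Subgroup.normalClosure
    rw [Subgroup.closure_le]
    intro z hz
    obtain ⟨u, hu, huz⟩ := Group.mem_conjugatesOfSet_iff.1 hz
    obtain ⟨y, hy⟩ := isConj_iff.1 huz
    rw [← hy]
    exact hconj y u hu
  have hKtop : Subgroup.normalClosure (S : Set G) = ⊤ := by
    rcases IsSimpleGroup.eq_bot_or_eq_top_of_normal _
      (Subgroup.normalClosure_normal (s := (S : Set G))) with h0 | h0
    · exfalso
      apply hS1
      rw [eq_bot_iff, ← h0]
      exact Subgroup.le_normalClosure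
    · exact h0
  rw [eq_top_iff, ← hKtop]
  exact hK

theorem coatom_package [IsSimpleGroup G] (a : Ω) (S : Subgroup G) (hS1 : S ≠ ⊥)
    (hSa : S ≤ MulAction.stabilizer G a)
    (hSn : ∀ g ∈ MulAction.stabilizer G a, ∀ s ∈ S, g * s * g⁻¹ ∈ S)
    (hreg : ∀ x y : Ω, x ≠ a → y ≠ a → ∃ s : S, (s : G) • x = y)
    (hmove : ∃ g : G, g • a ≠ a) :
    IsCoatom (MulAction.stabilizer G a) ∧
      ∀ M : Subgroup G, IsCoatom M → S ≤ M → M = MulAction.stabilizer G a := by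
  have hco : IsCoatom (MulAction.stabilizer G a) := by
    constructor
    · intro hh
      obtain ⟨g, hg⟩ := hmove
      apply hg
      have : g ∈ MulAction.stabilizer G a := by rw [hh]; exact Subgroup.mem_top g
      exact this
    · intro K hK
      obtain ⟨g, hgK, hgn⟩ := SetLike.exists_of_lt hK
      exact eq_top_of_regular_of_simple a S hS1 hSn hreg K (hSa.trans hK.le) g hgK hgn
  refine ⟨hco, ?_⟩
  intro M hM hSM
  by_cases hle : M ≤ MulAction.stabilizer G a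
  · rcases eq_or_lt_of_le hle with h0 | h0
    · exact h0
    · exact absurd (hM.2 _ h0) hco.1
  · exfalso
    obtain ⟨g, hgM, hgn⟩ := SetLike.not_le_iff_exists.1 hle
    exact hM.1 (eq_top_of_regular_of_simple a S hS1 hSn hreg M hSM g hgM hgn)

end abstract

section concrete

variable {F : Type*} [Field F] [Fintype F] {m : ℕ}

theorem Sz_sylow_conj (hm : 1 ≤ m) (hF : Fintype.card F = 2 ^ (2 * m + 1))
    (P : Sylow 2 (Sz F m)) :
    ∃ x : Sz F m, ∀ g : Sz F m, g ∈ P ↔ x * g * x⁻¹ ∈ szU (szData_of_card hm hF) := by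
  have h := szData_of_card hm hF
  have : Fact (Nat.Prime 2) := ⟨Nat.prime_two⟩
  have hcard : Nat.card (szU h) = 2 ^ (Nat.card (Sz F m)).factorization 2 := by
    rw [Sz_factorization_two hm hF, (szUParam h).card, Nat.card_eq_fintype_card, hF, ← pow_mul,
      mul_comm]
  obtain ⟨x, hx⟩ := MulAction.exists_smul_eq (Sz F m) P (Sylow.ofCard (szU h) hcard)
  refine ⟨x, fun g => ?_⟩
  have h1 : (szU h) = MulAut.conj x • (P : Subgroup (Sz F m)) := by
    rw [← Sylow.pointwise_smul_def, ← Sylow.smul_def, hx, Sylow.coe_ofCard]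
  rw [h1]
  have h2 : x * g * x⁻¹ = MulAut.conj x • g := rfl
  rw [h2, Subgroup.smul_mem_pointwise_smul_iff]
  rfl

/-- The point at infinity, as a point of the ovoid. -/
def szOInf (F : Type*) [Field F] (m : ℕ) : suzukiOvoid F m := ⟨suzukiPointInfinity F, szInf_mem m⟩

omit [Fintype F] in
theorem szU_fix [Finite F] (h : SzData F (2 ^ (m + 1))) {u : Sz F m} (hu : u ∈ szU h) :
    u • szOInf F m = szOInf F m := by
  obtain ⟨c, d, hcd⟩ := hu
  apply Subtype.ext
  change u.1 • suzukiPointInfinity F = _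
  rw [hcd, szT_smul_inf]
  rfl

theorem szU_norm (h : SzData F (2 ^ (m + 1))) {g u : Sz F m}
    (hg : g • szOInf F m = szOInf F m) (hu : u ∈ szU h) : g * u * g⁻¹ ∈ szU h := by
  obtain ⟨c, d, hcd⟩ := hu
  obtain ⟨c', d', t, hg'⟩ := Sz_one_point h g.2 (congrArg Subtype.val hg)
  change ∃ a b, (g * u * g⁻¹).1 = _
  rw [Subgroup.coe_mul, Subgroup.coe_mul, Subgroup.coe_inv, hcd, hg']
  have e1 : szT (2 ^ (m + 1)) c' d' * szD (2 ^ (m + 1)) t * szT (2 ^ (m + 1)) c d *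
      (szT (2 ^ (m + 1)) c' d' * szD (2 ^ (m + 1)) t)⁻¹ =
      szT (2 ^ (m + 1)) c' d' * (szD (2 ^ (m + 1)) t * szT (2 ^ (m + 1)) c d *
        (szD (2 ^ (m + 1)) t)⁻¹) * (szT (2 ^ (m + 1)) c' d')⁻¹ := by group
  rw [e1, szD_conj_szT h, szT_inv h, szT_mul h, szT_mul h]
  exact ⟨_, _, rfl⟩

theorem szU_trans (h : SzData F (2 ^ (m + 1))) {y z : suzukiOvoid F m}
    (hy : y ≠ szOInf F m) (hz : z ≠ szOInf F m) : ∃ u ∈ szU h, u • y = z := by
  have hpt : ∀ x : suzukiOvoid F m, x ≠ szOInf F m → ∃ x1 y1, x.1 = szP (2 ^ (m + 1)) x1 y1 := by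
    intro x hx
    rcases mem_suzukiOvoid_iff.1 x.2 with hh | hh
    · exact absurd (Subtype.ext hh) hx
    · exact hh
  obtain ⟨x1, y1, hx1⟩ := hpt y hy
  obtain ⟨x2, y2, hx2⟩ := hpt z hz
  refine ⟨⟨szT (2 ^ (m + 1)) (x1 + x2) (y1 + y2 + (x1 + x2) ^ (2 ^ (m + 1)) * x1),
    szT_mem h _ _⟩, ⟨_, _, rfl⟩, ?_⟩
  apply Subtype.ext
  change szT (2 ^ (m + 1)) (x1 + x2) (y1 + y2 + (x1 + x2) ^ (2 ^ (m + 1)) * x1) • y.1 = z.1
  rw [hx1, hx2, szT_smul_P h]
  congr 1
  · rw [← add_assoc, h.add_self, zero_add]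
  · linear_combination (y1 + (x1 + x2) ^ (2 ^ (m + 1)) * x1) * h.two

theorem Sz_sylow_coatom (hm : 1 ≤ m) (hF : Fintype.card F = 2 ^ (2 * m + 1))
    (P : Sylow 2 (Sz F m)) :
    IsCoatom (Subgroup.normalizer ((P : Subgroup (Sz F m)) : Set (Sz F m))) ∧
    ∀ M : Subgroup (Sz F m), IsCoatom M → (P : Subgroup (Sz F m)) ≤ M →
      M = Subgroup.normalizer ((P : Subgroup (Sz F m)) : Set (Sz F m)) := by
  have h := szData_of_card hm hF
  have hsimple := Sz_isSimpleGroup h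
  obtain ⟨x, hx⟩ := Sz_sylow_conj hm hF P
  obtain ⟨a, ha⟩ : ∃ a, a = x⁻¹ • szOInf F m := ⟨_, rfl⟩
  have hxa : x • a = szOInf F m := by rw [ha, smul_inv_smul]
  have hne_iff : ∀ y : suzukiOvoid F m, y ≠ a → x • y ≠ szOInf F m := by
    intro y hy hh
    apply hy
    rw [ha, eq_inv_smul_iff, hh]
  have hSa : (P : Subgroup (Sz F m)) ≤ MulAction.stabilizer (Sz F m) a := by
    intro g hg
    have := szU_fix h ((hx g).1 hg)
    rw [MulAction.mem_stabilizer_iff, ha, eq_inv_smul_iff, ← mul_smul, ← mul_smul]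
    exact this
  have hSn : ∀ g ∈ MulAction.stabilizer (Sz F m) a, ∀ u ∈ (P : Subgroup (Sz F m)),
      g * u * g⁻¹ ∈ (P : Subgroup (Sz F m)) := by
    intro g hg u hu
    have h1 : (x * g * x⁻¹) • szOInf F m = szOInf F m := by
      rw [mul_smul, mul_smul, ← ha, MulAction.mem_stabilizer_iff.1 hg, hxa]
    have := szU_norm h h1 ((hx u).1 hu)
    refine (hx _).2 ?_
    have e : x * (g * u * g⁻¹) * x⁻¹ = x * g * x⁻¹ * (x * u * x⁻¹) * (x * g * x⁻¹)⁻¹ := by group
    rw [e]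
    exact this
  have hreg : ∀ y z : suzukiOvoid F m, y ≠ a → z ≠ a →
      ∃ u : (P : Subgroup (Sz F m)), (u : Sz F m) • y = z := by
    intro y z hy hz
    obtain ⟨u, hu, huy⟩ := szU_trans h (hne_iff y hy) (hne_iff z hz)
    refine ⟨⟨x⁻¹ * u * x, (hx _).2 ?_⟩, ?_⟩
    · have e : x * (x⁻¹ * u * x) * x⁻¹ = u := by group
      rw [e]; exact hu
    · change (x⁻¹ * u * x) • y = z
      rw [mul_smul, mul_smul, huy, inv_smul_smul]
  have hp0 : (⟨_, szP_mem m 0 0⟩ : suzukiOvoid F m) ≠ szOInf F m :=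
    fun hh => szP_ne_inf _ _ _ (congrArg Subtype.val hh)
  have hp1 : (⟨_, szP_mem m 1 0⟩ : suzukiOvoid F m) ≠ szOInf F m :=
    fun hh => szP_ne_inf _ _ _ (congrArg Subtype.val hh)
  have hp01 : (⟨_, szP_mem m 0 0⟩ : suzukiOvoid F m) ≠ ⟨_, szP_mem m 1 0⟩ :=
    fun hh => zero_ne_one (szP_inj (congrArg Subtype.val hh)).1
  have hne : ∃ y z : suzukiOvoid F m, y ≠ a ∧ z ≠ a ∧ y ≠ z := by
    refine ⟨x⁻¹ • ⟨_, szP_mem m 0 0⟩, x⁻¹ • ⟨_, szP_mem m 1 0⟩, ?_, ?_, ?_⟩
    · rw [ha]; exact fun hh => hp0 (smul_left_cancel _ hh)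
    · rw [ha]; exact fun hh => hp1 (smul_left_cancel _ hh)
    · exact fun hh => hp01 (smul_left_cancel _ hh)
  have hN := normalizer_eq_stabilizer_of_regular a (P : Subgroup (Sz F m)) hSa hSn hreg hne
  have hP1 : (P : Subgroup (Sz F m)) ≠ ⊥ := by
    intro hh
    obtain ⟨y, z, hy, hz, hyz⟩ := hne
    obtain ⟨u, hu⟩ := hreg y z hy hz
    have : (u : Sz F m) = 1 := by
      have h5 : (u : Sz F m) ∈ (⊥ : Subgroup (Sz F m)) := hh ▸ u.2
      exact h5
    rw [this, one_smul] at hu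
    exact hyz hu
  have hmove : ∃ g : Sz F m, g • a ≠ a := by
    have htr : MulAction.IsPretransitive (Sz F m) (suzukiOvoid F m) := by
      have := Sz_two_pretransitive (F := F) (m := m) h
      exact MulAction.isPretransitive_of_is_two_pretransitive
    obtain ⟨y, z, hy, hz, hyz⟩ := hne
    obtain ⟨g, hg⟩ := htr.exists_smul_eq a y
    exact ⟨g, by rw [hg]; exact hy⟩
  rw [hN]
  exact coatom_package a (P : Subgroup (Sz F m)) hP1 hSa hSn hreg hmove

theorem SzData.no_trace_one {F : Type*} [Field F] {s : ℕ} (h : SzData F s) (c : F) :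
    c ^ s + c ≠ 1 := by
  intro hc
  have h1 : (c ^ s + c) ^ s = 1 := by rw [hc, one_pow]
  rw [h.add, h.ss] at h1
  have h2 : c ^ 2 = c := by linear_combination h1 - hc
  have h3 : c ^ s = c := by
    have : c * (c - 1) = 0 := by linear_combination h2
    rcases mul_eq_zero.1 this with h0 | h0
    · rw [h0, h.zero_pow_s]
    · rw [sub_eq_zero.1 h0, one_pow]
  rw [h3, h.add_self] at hc
  exact zero_ne_one hc

theorem szT_not_real (h : SzData F (2 ^ (m + 1))) {a b : F} (ha : a ≠ 0)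
    {c : SpecialLinearGroup (Fin 4) F} (hc : c ∈ Sz F m)
    (hconj : c * szT (2 ^ (m + 1)) a b * c⁻¹ = (szT (2 ^ (m + 1)) a b)⁻¹) : False := by
  -- `c` fixes the point at infinity
  have hfix : c • suzukiPointInfinity F = suzukiPointInfinity F := by
    have h1 : (szT (2 ^ (m + 1)) a b)⁻¹ • (c • suzukiPointInfinity F) =
        c • suzukiPointInfinity F := by
      rw [← hconj, mul_smul, mul_smul, inv_smul_smul, szT_smul_inf]
    rcases mem_suzukiOvoid_iff.1 (Sz_smul_mem hc (szInf_mem m)) with hh | ⟨x, y, hh⟩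
    · exact hh
    · exfalso
      rw [hh, inv_smul_eq_iff, szT_smul_P h] at h1
      have := (szP_inj h1).1
      apply ha
      linear_combination -this
  obtain ⟨c1, d1, t, rfl⟩ := Sz_one_point h hc hfix
  have e1 : szT (2 ^ (m + 1)) c1 d1 * szD (2 ^ (m + 1)) t * szT (2 ^ (m + 1)) a b *
      (szT (2 ^ (m + 1)) c1 d1 * szD (2 ^ (m + 1)) t)⁻¹ =
      szT (2 ^ (m + 1)) c1 d1 * (szD (2 ^ (m + 1)) t * szT (2 ^ (m + 1)) a b *
        (szD (2 ^ (m + 1)) t)⁻¹) * (szT (2 ^ (m + 1)) c1 d1)⁻¹ := by group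
  rw [e1, szD_conj_szT h, mul_inv_eq_iff_eq_mul, szT_inv h, szT_mul h, szT_mul h] at hconj
  obtain ⟨h1, h2⟩ := szT_inj hconj
  have hk : (t : F) ^ 2 = 1 := by
    apply mul_right_cancel₀ ha
    linear_combination h1
  rw [hk, one_pow, one_mul, one_mul] at h2
  apply h.no_trace_one (c1 / a)
  have has : a ^ (2 ^ (m + 1)) ≠ 0 := pow_ne_zero _ ha
  rw [div_pow]
  field_simp
  rw [pow_succ] at h2
  linear_combination h2 + (a ^ (2 ^ (m + 1)) * c1) * h.two

theorem Sz_real_iff (hm : 1 ≤ m) (hF : Fintype.card F = 2 ^ (2 * m + 1))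
    (P : Sylow 2 (Sz F m)) (g : Sz F m) (hg : g ∈ (P : Subgroup (Sz F m))) (h1 : g ≠ 1) :
    IsConj g g⁻¹ ↔ orderOf g = 2 := by
  have h := szData_of_card hm hF
  constructor
  · intro hc
    obtain ⟨c, hc⟩ := isConj_iff.1 hc
    obtain ⟨x, hx⟩ := Sz_sylow_conj hm hF P
    obtain ⟨a, b, hab⟩ := (hx g).1 hg
    have ha : a = 0 := by
      by_contra ha
      apply szT_not_real h ha (x * c * x⁻¹).2
      rw [← hab]
      have e : x * c * x⁻¹ * (x * g * x⁻¹) * (x * c * x⁻¹)⁻¹ = (x * g * x⁻¹)⁻¹ := by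
        have : x * c * x⁻¹ * (x * g * x⁻¹) * (x * c * x⁻¹)⁻¹ = x * (c * g * c⁻¹) * x⁻¹ := by group
        rw [this, hc]; group
      exact congrArg Subtype.val e
    subst ha
    have hsq : (x * g * x⁻¹) * (x * g * x⁻¹) = 1 := by
      apply Subtype.ext
      rw [Subgroup.coe_mul, hab, szT_central_mul h, h.add_self, szT_zero h]
      rfl
    have hg2 : g ^ 2 = 1 := by
      have : x * (g * g) * x⁻¹ = 1 := by rw [← hsq]; group
      rw [sq]
      have h3 := conj_eq_one_iff.1 this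
      exact h3
    exact orderOf_eq_prime hg2 h1
  · intro ho
    have : g ^ 2 = 1 := by rw [← ho]; exact pow_orderOf_eq_one g
    have hinv : g⁻¹ = g := by
      rw [inv_eq_iff_mul_eq_one, ← sq, this]
    rw [hinv]

end concrete

end Cfsg.Agent.Lib.Helper18
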