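import Mathlib
import Cfsg.Prelude.Def_LieExceptional
import Cfsg.Agent.Lib.Helper18.Sz12
import Cfsg.Agent.Lib.Helper18.Irr1

/-! Suzuki groups: subgroups of odd prime power order. -/

set_option autoImplicit false

namespace Cfsg.Agent.Lib.Helper18

open Cfsg Matrix

theorem sz_nt_aux {p q : ℕ} [hp : Fact p.Prime] (hp2 : p ≠ 2) (h : p ∣ q ^ 2 + 1) :
    p.gcd q = 1 ∧ ∀ d, 1 ≤ d → d ≤ 3 → ¬ (q ^ d ≡ 1 [MOD p]) := by
  have h2 : (2 : ZMod p) ≠ 0 := by
    intro hh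
    have : ((2 : ℕ) : ZMod p) = 0 := by exact_mod_cast hh
    rw [ZMod.natCast_eq_zero_iff] at this
    exact hp2 ((Nat.prime_dvd_prime_iff_eq hp.out Nat.prime_two).1 this)
  have hq2 : (q : ZMod p) ^ 2 = -1 := by
    have : ((q ^ 2 + 1 : ℕ) : ZMod p) = 0 := (ZMod.natCast_eq_zero_iff _ _).2 h
    push_cast at this
    linear_combination this
  have hne : (q : ZMod p) ^ 2 ≠ 1 := by
    intro hh
    apply h2
    linear_combination hq2 - hh
  constructor
  · rw [← Nat.coprime_iff_gcd_eq_one, Nat.Prime.coprime_iff_not_dvd hp.out]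
    intro hd
    have : (q : ZMod p) = 0 := (ZMod.natCast_eq_zero_iff _ _).2 hd
    rw [this] at hq2
    apply h2
    linear_combination (2 : ZMod p) * hq2
  · intro d hd1 hd3 hmod
    have hd : (q : ZMod p) ^ d = 1 := by
      have := (ZMod.natCast_eq_natCast_iff _ _ _).2 hmod
      push_cast at this
      exact this
    apply hne
    interval_cases d
    · rw [pow_one] at hd; rw [hd, one_pow]
    · exact hd
    · have h3 : (q : ZMod p) = -1 := by linear_combination (-1 : ZMod p) * hd + (q : ZMod p) * hq2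
      rw [h3]; ring

variable {F : Type*} [Field F] [Fintype F] {m : ℕ}

theorem Sz_pgroup_two_fixed {p : ℕ} [hp : Fact p.Prime] (hp2 : p ≠ 2)
    (hpq : Fintype.card F ≡ 1 [MOD p]) (Q : Subgroup (Sz F m)) (hQ : IsPGroup p Q) :
    ∃ a b : suzukiOvoid F m, a ≠ b ∧ (∀ g ∈ Q, g • a = a) ∧ (∀ g ∈ Q, g • b = b) := by
  have hfin : Finite (suzukiOvoid F m) := finite_suzukiOvoid.to_subtype
  have h1 := hQ.card_modEq_card_fixedPoints (suzukiOvoid F m)
  rw [card_suzukiOvoid] at h1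
  have h2 : Fintype.card F ^ 2 + 1 ≡ 2 [MOD p] := by
    have := (hpq.pow 2).add_right 1
    simpa using this
  have h3 : 2 ≡ Nat.card (MulAction.fixedPoints Q (suzukiOvoid F m)) [MOD p] := h2.symm.trans h1
  have h4 : 1 < Nat.card (MulAction.fixedPoints Q (suzukiOvoid F m)) := by
    by_contra hcon
    have hp3 : 3 ≤ p := by
      have := hp.out.two_le
      omega
    have h5 : Nat.card (MulAction.fixedPoints Q (suzukiOvoid F m)) ≤ 1 := by omega
    have h6 := (Nat.modEq_iff_dvd' (by omega)).1 h3.symm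
    have h7 := Nat.le_of_dvd (by omega) h6
    omega
  rw [Finite.one_lt_card_iff_nontrivial] at h4
  obtain ⟨a, b, hab⟩ := h4.exists_pair_ne
  exact ⟨a.1, b.1, fun hh => hab (Subtype.ext hh), fun g hg => a.2 ⟨g, hg⟩,
    fun g hg => b.2 ⟨g, hg⟩⟩

theorem Sz_two_group_fixed (hF2 : Even (Fintype.card F)) (Q : Subgroup (Sz F m))
    (hQ : IsPGroup 2 Q) : ∃ a : suzukiOvoid F m, ∀ g ∈ Q, g • a = a := by
  have : Fact (Nat.Prime 2) := ⟨Nat.prime_two⟩
  have hfin : Finite (suzukiOvoid F m) := finite_suzukiOvoid.to_subtype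
  have h1 := hQ.card_modEq_card_fixedPoints (suzukiOvoid F m)
  rw [card_suzukiOvoid] at h1
  have h4 : 0 < Nat.card (MulAction.fixedPoints Q (suzukiOvoid F m)) := by
    by_contra hcon
    have h5 : Nat.card (MulAction.fixedPoints Q (suzukiOvoid F m)) = 0 := by omega
    rw [h5] at h1
    have h6 : 2 ∣ Fintype.card F ^ 2 + 1 := (Nat.modEq_zero_iff_dvd).1 h1
    have h7 : 2 ∣ Fintype.card F ^ 2 := dvd_pow hF2.two_dvd (by norm_num)
    omega
  obtain ⟨a⟩ := (Nat.card_pos_iff.1 h4).1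
  exact ⟨a.1, fun g hg => a.2 ⟨g, hg⟩⟩

theorem Sz_conj_into_torus (h : SzData F (2 ^ (m + 1))) (Q : Subgroup (Sz F m))
    {a b : suzukiOvoid F m} (hab : a ≠ b) (ha : ∀ g ∈ Q, g • a = a) (hb : ∀ g ∈ Q, g • b = b) :
    ∃ x : Sz F m, ∀ g ∈ Q, ∃ t : Fˣ, (x * g * x⁻¹).1 = szD (2 ^ (m + 1)) t := by
  obtain ⟨x, hx, xa, xb⟩ := Sz_two_trans h a.2 b.2 (fun hh => hab (Subtype.ext hh))
  refine ⟨⟨x, hx⟩, fun g hg => ?_⟩
  apply Sz_two_point h (Subtype.coe_prop _)
  · change (x * g.1 * x⁻¹) • _ = _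
    rw [mul_smul, mul_smul, ← xa, inv_smul_smul]
    congr 1
    exact congrArg Subtype.val (ha g hg)
  · change (x * g.1 * x⁻¹) • _ = _
    rw [mul_smul, mul_smul, ← xb, inv_smul_smul]
    congr 1
    exact congrArg Subtype.val (hb g hg)

theorem Sz_torus_cyclic (h : SzData F (2 ^ (m + 1))) (Q : Subgroup (Sz F m)) (x : Sz F m)
    (hx : ∀ g ∈ Q, ∃ t : Fˣ, (x * g * x⁻¹).1 = szD (2 ^ (m + 1)) t) : IsCyclic Q := by
  let φ : Q →* F :=
    { toFun := fun g => (x * g.1 * x⁻¹).1.1 1 1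
      map_one' := by simp
      map_mul' := by
        intro g g'
        obtain ⟨t, ht⟩ := hx g.1 g.2
        obtain ⟨t', ht'⟩ := hx g'.1 g'.2
        have e : x * (g * g' : Q).1 * x⁻¹ = (x * g.1 * x⁻¹) * (x * g'.1 * x⁻¹) := by
          rw [Subgroup.coe_mul]; group
        rw [e, Subgroup.coe_mul, ht, ht', ← szD_mul]
        simp [szD, szDMat, mul_pow] }
  apply isCyclic_of_injective_ringHom φ
  intro g g' hgg
  obtain ⟨t, ht⟩ := hx g.1 g.2
  obtain ⟨t', ht'⟩ := hx g'.1 g'.2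
  have h1 : (x * g.1 * x⁻¹).1.1 1 1 = (x * g'.1 * x⁻¹).1.1 1 1 := hgg
  rw [ht, ht'] at h1
  simp [szD, szDMat] at h1
  have h2 : t = t' := Units.ext (h.s_inj h1)
  have h3 : x * g.1 * x⁻¹ = x * g'.1 * x⁻¹ := Subtype.ext (by rw [ht, ht', h2])
  apply Subtype.ext
  exact mul_left_cancel (mul_right_cancel h3)

theorem Sz_irr_cyclic (hm : 1 ≤ m) (hF : Fintype.card F = 2 ^ (2 * m + 1)) {p : ℕ}
    [hp : Fact p.Prime] (hp2 : p ≠ 2) (hpq : ¬ p ∣ 2 ^ (2 * m + 1) - 1) (z : Sz F m)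
    (hz : orderOf z = p) (Q : Subgroup (Sz F m)) (hQ : ∀ g ∈ Q, z * g = g * z) : IsCyclic Q := by
  have h := szData_of_card hm hF
  have hdvd : p ∣ Nat.card (Sz F m) := hz ▸ orderOf_dvd_natCard z
  rw [card_Sz h, Nat.card_eq_fintype_card, hF] at hdvd
  have hp2' : ¬ p ∣ (2 ^ (2 * m + 1)) ^ 2 := by
    intro hh
    have := hp.out.dvd_of_dvd_pow (hp.out.dvd_of_dvd_pow hh)
    exact hp2 ((Nat.prime_dvd_prime_iff_eq hp.out Nat.prime_two).1 this)
  have hq2 : p ∣ (2 ^ (2 * m + 1)) ^ 2 + 1 := by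
    rcases (Nat.Prime.dvd_mul hp.out).1 hdvd with h1 | h1
    · rcases (Nat.Prime.dvd_mul hp.out).1 h1 with h2 | h2
      · exact absurd h2 hp2'
      · exact h2
    · exact absurd h1 hpq
  obtain ⟨hcop, hq⟩ := sz_nt_aux hp2 hq2
  have hirr := irr_of_prime_order (F := F) (p := p)
    (by rw [Nat.card_eq_fintype_card, hF]; exact hcop)
    (by rw [Nat.card_eq_fintype_card, hF]; exact hq) z.1.1
    (by
      have : z ^ p = 1 := hz ▸ pow_orderOf_eq_one z
      have h2 := congrArg (fun y : Sz F m => y.1.1) this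
      simpa using h2)
    (by
      intro hh
      have : z = 1 := Subtype.ext (Subtype.ext hh)
      rw [this, orderOf_one] at hz
      exact hp.out.one_lt.ne hz)
  let f : Q →* Matrix (Fin 4) (Fin 4) F :=
    { toFun := fun g => g.1.1.1
      map_one' := rfl
      map_mul' := fun _ _ => rfl }
  exact irr_isCyclic z.1.1 hirr f
    (fun a b hab => Subtype.ext (Subtype.ext (Subtype.ext hab)))
    (fun g => congrArg (fun y : Sz F m => y.1.1) (hQ g.1 g.2))

end Cfsg.Agent.Lib.Helper18
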