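import Mathlib
import Cfsg.Prelude.Def_LieExceptional
import Cfsg.Agent.Lib.Helper18.Sz13

/-! Suzuki groups are CN-groups. -/

set_option autoImplicit false

namespace Cfsg.Agent.Lib.Helper18

open Cfsg Matrix

theorem isNilpotent_of_isCyclic' {G : Type*} [Group G] [IsCyclic G] : Group.IsNilpotent G := by
  let _ := IsCyclic.commGroup (α := G)
  exact CommGroup.isNilpotent

theorem isNilpotent_of_le' {G : Type*} [Group G] {H K : Subgroup G} (hle : H ≤ K)
    (hK : Group.IsNilpotent K) : Group.IsNilpotent H :=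
  Group.nilpotent_of_mulEquiv (Subgroup.subgroupOfEquivOfLe hle)

variable {F : Type*} [Field F] [Fintype F] {m : ℕ}

omit [Fintype F] in
theorem szUnit_eq_one_of_mul_self {s : ℕ} (h : SzData F s) {t : Fˣ} (ht : t * t = 1) : t = 1 := by
  apply Units.ext
  apply h.sq_inj
  have := congrArg Units.val ht
  simp only [Units.val_mul, Units.val_one] at this
  rw [sq, this]; simp

omit [Fintype F] in
theorem Sz_involution_form (h : SzData F (2 ^ (m + 1))) {a b : F} {t : Fˣ}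
    (hsq : (szT (2 ^ (m + 1)) a b * szD (2 ^ (m + 1)) t) *
      (szT (2 ^ (m + 1)) a b * szD (2 ^ (m + 1)) t) = 1) : t = 1 ∧ a = 0 := by
  have e1 : (szT (2 ^ (m + 1)) a b * szD (2 ^ (m + 1)) t) *
      (szT (2 ^ (m + 1)) a b * szD (2 ^ (m + 1)) t) =
      szT (2 ^ (m + 1)) a b * (szD (2 ^ (m + 1)) t * szT (2 ^ (m + 1)) a b *
        (szD (2 ^ (m + 1)) t)⁻¹) * szD (2 ^ (m + 1)) (t * t) := by
    rw [szD_mul]; group
  rw [e1, szD_conj_szT h, szT_mul h] at hsq
  have e2 : (1 : SpecialLinearGroup (Fin 4) F) =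
      szT (2 ^ (m + 1)) 0 0 * szD (2 ^ (m + 1)) 1 := by
    rw [szT_zero h, szD_one, one_mul]
  rw [e2] at hsq
  obtain ⟨-, h2, h3⟩ := Sz_TD_inj h hsq
  have ht : t = 1 := szUnit_eq_one_of_mul_self h h3
  refine ⟨ht, ?_⟩
  rw [ht] at h2
  simp only [Units.val_one, one_pow, one_mul] at h2
  rw [h.add_self, zero_add, ← pow_succ] at h2
  exact pow_eq_zero_iff (by omega) |>.1 h2

omit [Fintype F] in
theorem szT_pow_four (h : SzData F (2 ^ (m + 1))) (a b : F) : szT (2 ^ (m + 1)) a b ^ 4 = 1 := by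
  have h2 : szT (2 ^ (m + 1)) a b ^ 2 = szT (2 ^ (m + 1)) 0 (a ^ (2 ^ (m + 1) + 1)) := by
    rw [sq, szT_mul h, h.add_self, h.add_self, zero_add, ← pow_succ]
  have h4 : szT (2 ^ (m + 1)) a b ^ 4 = (szT (2 ^ (m + 1)) a b ^ 2) ^ 2 := by
    rw [← pow_mul]
  rw [h4, h2, sq, szT_central_mul h, h.add_self, szT_zero h]

/-- centraliser of an involution -/
theorem Sz_centralizer_involution (hm : 1 ≤ m) (hF : Fintype.card F = 2 ^ (2 * m + 1))
    (z : Sz F m) (hz : orderOf z = 2) :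
    IsPGroup 2 (Subgroup.centralizer ({z} : Set (Sz F m))) := by
  have h := szData_of_card hm hF
  have : Fact (Nat.Prime 2) := ⟨Nat.prime_two⟩
  have hQ : IsPGroup 2 (Subgroup.zpowers z) :=
    IsPGroup.of_card (n := 1) (by rw [Nat.card_zpowers, hz, pow_one])
  obtain ⟨a, ha⟩ := Sz_two_group_fixed (by rw [hF]; exact ⟨2 ^ (2 * m), by ring⟩) _ hQ
  have hza : z • a = a := ha z (Subgroup.mem_zpowers z)
  obtain ⟨x, hx, hxa⟩ := Sz_to_inf h a.2
  have hconjfix : ∀ c : SpecialLinearGroup (Fin 4) F, c • a.1 = a.1 →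
      (x * c * x⁻¹) • suzukiPointInfinity F = suzukiPointInfinity F := by
    intro c hc
    rw [mul_smul, mul_smul, ← hxa, inv_smul_smul, hc]
  obtain ⟨a1, b1, t, hz'⟩ := Sz_one_point h (g := x * z.1 * x⁻¹)
    ((Sz F m).mul_mem ((Sz F m).mul_mem hx z.2) ((Sz F m).inv_mem hx))
    (hconjfix z.1 (congrArg Subtype.val hza))
  have hz2 : z.1 * z.1 = 1 := by
    have : z ^ 2 = 1 := hz ▸ pow_orderOf_eq_one z
    rw [sq] at this
    exact congrArg Subtype.val this
  have hsq : (x * z.1 * x⁻¹) * (x * z.1 * x⁻¹) = 1 := by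
    have : (x * z.1 * x⁻¹) * (x * z.1 * x⁻¹) = x * (z.1 * z.1) * x⁻¹ := by group
    rw [this, hz2]; group
  rw [hz'] at hsq
  obtain ⟨rfl, rfl⟩ := Sz_involution_form h hsq
  rw [szD_one, mul_one] at hz'
  have hb1 : b1 ≠ 0 := by
    rintro rfl
    rw [szT_zero h] at hz'
    have h1 : z.1 = 1 := conj_eq_one_iff.1 hz'
    have h2 : z = 1 := Subtype.ext h1
    rw [h2, orderOf_one] at hz
    norm_num at hz
  intro c
  refine ⟨2, ?_⟩
  have hcz : z.1 * c.1.1 = c.1.1 * z.1 :=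
    congrArg Subtype.val (Subgroup.mem_centralizer_iff.1 c.2 z rfl)
  obtain ⟨c', hc'⟩ : ∃ c', c' = x * c.1.1 * x⁻¹ := ⟨_, rfl⟩
  have hc'mem : c' ∈ Sz F m := by
    rw [hc']
    exact (Sz F m).mul_mem ((Sz F m).mul_mem hx c.1.2) ((Sz F m).inv_mem hx)
  have hcomm : szT (2 ^ (m + 1)) 0 b1 * c' = c' * szT (2 ^ (m + 1)) 0 b1 := by
    rw [← hz', hc']
    calc x * z.1 * x⁻¹ * (x * c.1.1 * x⁻¹) = x * (z.1 * c.1.1) * x⁻¹ := by group
      _ = x * (c.1.1 * z.1) * x⁻¹ := by rw [hcz]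
      _ = _ := by group
  have hfix : c' • suzukiPointInfinity F = suzukiPointInfinity F := by
    have h1 : szT (2 ^ (m + 1)) 0 b1 • (c' • suzukiPointInfinity F) =
        c' • suzukiPointInfinity F := by
      rw [← mul_smul, hcomm, mul_smul, szT_smul_inf]
    rcases mem_suzukiOvoid_iff.1 (Sz_smul_mem hc'mem (szInf_mem m)) with hh | ⟨x1, y1, hh⟩
    · exact hh
    · exfalso
      rw [hh, szT_smul_P h] at h1
      have := (szP_inj h1).2
      apply hb1
      rw [h.zero_pow_s] at this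
      linear_combination this
  obtain ⟨c1, d1, u, hcu⟩ := Sz_one_point h hc'mem hfix
  have hu : u = 1 := by
    rw [hcu] at hcomm
    have e1 : szT (2 ^ (m + 1)) c1 d1 * szD (2 ^ (m + 1)) u * szT (2 ^ (m + 1)) 0 b1 =
        szT (2 ^ (m + 1)) c1 d1 * (szD (2 ^ (m + 1)) u * szT (2 ^ (m + 1)) 0 b1 *
          (szD (2 ^ (m + 1)) u)⁻¹) * szD (2 ^ (m + 1)) u := by group
    rw [e1, szD_conj_szT h, ← mul_assoc, szT_central_mul h, mul_zero, szT_mul_central h] at hcomm
    obtain ⟨-, h2, -⟩ := Sz_TD_inj h hcomm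
    have h3 : ((u : F) ^ 2) ^ (2 ^ (m + 1) + 1) = 1 := by
      apply mul_right_cancel₀ hb1
      linear_combination -h2
    have h4 := h.eq_one_of_pow_s_add_one h3
    apply Units.ext
    apply h.sq_inj
    rw [h4]; simp
  rw [hu, szD_one, mul_one] at hcu
  have h4 : c' ^ 4 = 1 := by rw [hcu, szT_pow_four h]
  have h5 : c.1.1 ^ 4 = 1 := by
    rw [hc', conj_pow] at h4
    exact conj_eq_one_iff.1 h4
  apply Subtype.ext
  apply Subtype.ext
  simpa using h5

/-- centraliser of an element of a split torus -/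
theorem Sz_centralizer_split (h : SzData F (2 ^ (m + 1))) (z x : Sz F m) {t : Fˣ} (ht : t ≠ 1)
    (hz : (x * z * x⁻¹).1 = szD (2 ^ (m + 1)) t) :
    IsCyclic (Subgroup.centralizer ({z} : Set (Sz F m))) := by
  apply Sz_torus_cyclic h _ x
  intro c hc
  have hcz : z * c = c * z := Subgroup.mem_centralizer_iff.1 hc z rfl
  obtain ⟨c', hc'⟩ : ∃ c', c' = (x * c * x⁻¹).1 := ⟨_, rfl⟩
  have hc'mem : c' ∈ Sz F m := hc' ▸ (x * c * x⁻¹).2
  rw [← hc']
  have hcomm : szD (2 ^ (m + 1)) t * c' = c' * szD (2 ^ (m + 1)) t := by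
    rw [← hz, hc', ← Subgroup.coe_mul, ← Subgroup.coe_mul]
    congr 1
    calc x * z * x⁻¹ * (x * c * x⁻¹) = x * (z * c) * x⁻¹ := by group
      _ = x * (c * z) * x⁻¹ := by rw [hcz]
      _ = _ := by group
  have hfixed : ∀ p : Projectivization F (Fin 4 → F), p ∈ suzukiOvoid F m →
      szD (2 ^ (m + 1)) t • p = p → p = suzukiPointInfinity F ∨ p = szP (2 ^ (m + 1)) 0 0 := by
    intro p hp hfix
    rcases mem_suzukiOvoid_iff.1 hp with hh | ⟨x1, y1, hh⟩
    · exact Or.inl hh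
    · right
      by_contra hne
      apply ht
      rw [hh] at hfix
      apply szD_fix_imp h _ hfix
      rintro ⟨rfl, rfl⟩
      exact hne hh
  have h1 : c' • suzukiPointInfinity F = suzukiPointInfinity F := by
    rcases hfixed _ (Sz_smul_mem hc'mem (szInf_mem m))
      (by rw [← mul_smul, hcomm, mul_smul, szD_smul_inf]) with hh | hh
    · exact hh
    · exact absurd (Sz_no_comm h hc'mem hh hcomm) ht
  have h2 : c' • szP (2 ^ (m + 1)) (0 : F) 0 = szP (2 ^ (m + 1)) 0 0 := by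
    rcases hfixed _ (Sz_smul_mem hc'mem (szP_mem m 0 0))
      (by rw [← mul_smul, hcomm, mul_smul, szD_smul_zero h]) with hh | hh
    · exfalso
      rw [← h1] at hh
      exact szP_ne_inf _ _ _ (smul_left_cancel _ hh)
    · exact hh
  exact Sz_two_point h hc'mem h1 h2

theorem Sz_isCNGroup (hm : 1 ≤ m) (hF : Fintype.card F = 2 ^ (2 * m + 1)) :
    IsCNGroup (Sz F m) := by
  have h := szData_of_card hm hF
  intro g hg
  have hn0 : orderOf g ≠ 0 := (orderOf_pos g).ne'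
  have hn1 : orderOf g ≠ 1 := fun hh => hg (orderOf_eq_one_iff.1 hh)
  obtain ⟨p, hp⟩ : ∃ p, p = (orderOf g).minFac := ⟨_, rfl⟩
  have hpp : Nat.Prime p := hp ▸ Nat.minFac_prime hn1
  have : Fact p.Prime := ⟨hpp⟩
  have hpd : p ∣ orderOf g := hp ▸ Nat.minFac_dvd _
  obtain ⟨z, hz⟩ : ∃ z, z = g ^ (orderOf g / p) := ⟨_, rfl⟩
  have hzo : orderOf z = p := hz ▸ orderOf_pow_orderOf_div hn0 hpd
  have hle : Subgroup.centralizer ({g} : Set (Sz F m)) ≤ Subgroup.centralizer {z} := by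
    intro c hc
    rw [Subgroup.mem_centralizer_iff] at hc ⊢
    intro y hy
    rw [Set.mem_singleton_iff.1 hy, hz]
    have : Commute g c := hc g rfl
    exact this.pow_left _
  apply isNilpotent_of_le' hle
  by_cases hp2 : p = 2
  · subst hp2
    exact (Sz_centralizer_involution hm hF z hzo).isNilpotent
  by_cases hpq : p ∣ 2 ^ (2 * m + 1) - 1
  · have hmod : Fintype.card F ≡ 1 [MOD p] := by
      rw [hF]
      exact ((Nat.modEq_iff_dvd' Nat.one_le_two_pow).2 hpq).symm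
    have hQ : IsPGroup p (Subgroup.zpowers z) :=
      IsPGroup.of_card (n := 1) (by rw [Nat.card_zpowers, hzo, pow_one])
    obtain ⟨a, b, hab, ha, hb⟩ := Sz_pgroup_two_fixed hp2 hmod _ hQ
    obtain ⟨x, hx⟩ := Sz_conj_into_torus h _ hab ha hb
    obtain ⟨t, ht⟩ := hx z (Subgroup.mem_zpowers z)
    have ht1 : t ≠ 1 := by
      rintro rfl
      rw [szD_one] at ht
      have h1 : x * z * x⁻¹ = 1 := Subtype.ext ht
      have h2 : z = 1 := conj_eq_one_iff.1 h1
      rw [h2, orderOf_one] at hzo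
      exact hpp.one_lt.ne hzo
    have := Sz_centralizer_split h z x ht1 ht
    exact isNilpotent_of_isCyclic'
  · have := Sz_irr_cyclic hm hF hp2 hpq z hzo (Subgroup.centralizer {z})
      (fun c hc => Subgroup.mem_centralizer_iff.1 hc z rfl)
    exact isNilpotent_of_isCyclic'

end Cfsg.Agent.Lib.Helper18
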