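import Mathlib
import Cfsg.Prelude.Def_LieExceptional
import Cfsg.Prelude.Def_Transfer
import Cfsg.Agent.Lib.Helper18.Sz14

/-! Suzuki groups: elementary abelian TI-subgroups correspond to subfields. -/

set_option autoImplicit false

namespace Cfsg.Agent.Lib.Helper18

open Cfsg Matrix

variable {F : Type*} [Field F] [Fintype F] {m : ℕ}

theorem Sz_conj_central (h : SzData F (2 ^ (m + 1))) {x : SpecialLinearGroup (Fin 4) F}
    (hx : x ∈ Sz F m) {b b' : F} (hb : b ≠ 0)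
    (hc : x * szT (2 ^ (m + 1)) 0 b * x⁻¹ = szT (2 ^ (m + 1)) 0 b') :
    ∃ l : F, l ≠ 0 ∧ ∀ β, x * szT (2 ^ (m + 1)) 0 β * x⁻¹ = szT (2 ^ (m + 1)) 0 (l * β) := by
  have hb' : b' ≠ 0 := by
    rintro rfl
    rw [szT_zero h] at hc
    have := conj_eq_one_iff.1 hc
    rw [← szT_zero h] at this
    exact hb (szT_inj this).2
  have hfix : x • suzukiPointInfinity F = suzukiPointInfinity F := by
    have h1 : szT (2 ^ (m + 1)) 0 b' • (x • suzukiPointInfinity F) = x • suzukiPointInfinity F := by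
      rw [← hc, mul_smul, mul_smul, inv_smul_smul, szT_smul_inf]
    rcases mem_suzukiOvoid_iff.1 (Sz_smul_mem hx (szInf_mem m)) with hh | ⟨x1, y1, hh⟩
    · exact hh
    · exfalso
      rw [hh, szT_smul_P h] at h1
      have := (szP_inj h1).2
      apply hb'
      rw [h.zero_pow_s] at this
      linear_combination this
  obtain ⟨c, d, t, rfl⟩ := Sz_one_point h hx hfix
  refine ⟨((t : F) ^ 2) ^ (2 ^ (m + 1) + 1), pow_ne_zero _ (pow_ne_zero _ t.ne_zero), fun β => ?_⟩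
  have e1 : szT (2 ^ (m + 1)) c d * szD (2 ^ (m + 1)) t * szT (2 ^ (m + 1)) 0 β *
      (szT (2 ^ (m + 1)) c d * szD (2 ^ (m + 1)) t)⁻¹ =
      szT (2 ^ (m + 1)) c d * (szD (2 ^ (m + 1)) t * szT (2 ^ (m + 1)) 0 β *
        (szD (2 ^ (m + 1)) t)⁻¹) * (szT (2 ^ (m + 1)) c d)⁻¹ := by group
  rw [e1, szD_conj_szT h, mul_zero, szT_mul_central h, ← szT_central_mul h, mul_inv_cancel_right]

/-- The central elements `T(0,b)` as elements of the Suzuki group. -/
def szZ (h : SzData F (2 ^ (m + 1))) (b : F) : Sz F m := ⟨szT (2 ^ (m + 1)) 0 b, szT_mem h 0 b⟩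

theorem szZ_mul (h : SzData F (2 ^ (m + 1))) (b b' : F) : szZ h b * szZ h b' = szZ h (b + b') :=
  Subtype.ext (szT_central_mul h b 0 b')

theorem szZ_zero (h : SzData F (2 ^ (m + 1))) : szZ h 0 = 1 := Subtype.ext (szT_zero h)

theorem szZ_inj (h : SzData F (2 ^ (m + 1))) {b b' : F} (hh : szZ h b = szZ h b') : b = b' :=
  (szT_inj (congrArg Subtype.val hh)).2

theorem szZ_inv (h : SzData F (2 ^ (m + 1))) (b : F) : (szZ h b)⁻¹ = szZ h b := by
  rw [inv_eq_iff_mul_eq_one, szZ_mul, h.add_self, szZ_zero]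

theorem szZ_conj (h : SzData F (2 ^ (m + 1))) (x : Sz F m) {b b' : F} (hb : b ≠ 0)
    (hc : x * szZ h b * x⁻¹ = szZ h b') :
    ∃ l : F, l ≠ 0 ∧ ∀ β, x * szZ h β * x⁻¹ = szZ h (l * β) := by
  obtain ⟨l, hl, hl'⟩ := Sz_conj_central h x.2 hb (congrArg Subtype.val hc)
  exact ⟨l, hl, fun β => Subtype.ext (hl' β)⟩

/-- The subgroup of central elements with parameter in an additive subgroup. -/
def szE (h : SzData F (2 ^ (m + 1))) (B : AddSubgroup F) : Subgroup (Sz F m) where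
  carrier := {g | ∃ b ∈ B, g = szZ h b}
  mul_mem' := by
    rintro _ _ ⟨b, hb, rfl⟩ ⟨b', hb', rfl⟩
    exact ⟨b + b', B.add_mem hb hb', szZ_mul h b b'⟩
  one_mem' := ⟨0, B.zero_mem, (szZ_zero h).symm⟩
  inv_mem' := by
    rintro _ ⟨b, hb, rfl⟩
    exact ⟨b, hb, szZ_inv h b⟩

theorem card_szE (h : SzData F (2 ^ (m + 1))) (B : AddSubgroup F) :
    Nat.card (szE h B) = Nat.card B := by
  have e : B ≃ szE h B := Equiv.ofBijective (fun b => ⟨szZ h b.1, b.1, b.2, rfl⟩) (by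
    constructor
    · intro b b' hb
      exact Subtype.ext (szZ_inj h (congrArg Subtype.val hb))
    · rintro ⟨_, b, hb, rfl⟩
      exact ⟨⟨b, hb⟩, rfl⟩)
  exact (Nat.card_congr e).symm

theorem szE_elementary (h : SzData F (2 ^ (m + 1))) (B : AddSubgroup F) :
    IsElementaryAbelian 2 (szE h B) := by
  constructor
  · refine ⟨⟨?_⟩⟩
    rintro ⟨_, b, hb, rfl⟩ ⟨_, b', hb', rfl⟩
    apply Subtype.ext
    change szZ h b * szZ h b' = szZ h b' * szZ h b
    rw [szZ_mul, szZ_mul, add_comm]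
  · rintro _ ⟨b, hb, rfl⟩
    rw [sq, szZ_mul, h.add_self, szZ_zero]

/-- The TI-property for the subgroup attached to the image of a field. -/
theorem szE_TI (h : SzData F (2 ^ (m + 1))) (B : AddSubgroup F)
    (hB : ∀ b ∈ B, ∀ b' ∈ B, ∀ b'' ∈ B, b ≠ 0 → b' / b * b'' ∈ B) (x : Sz F m)
    (hx : szE h B ⊓ (szE h B).map (MulAut.conj x).toMonoidHom ≠ ⊥) :
    x ∈ Subgroup.normalizer (szE h B : Set (Sz F m)) := by
  obtain ⟨⟨g, hg⟩, hg1⟩ := Subgroup.ne_bot_iff_exists_ne_one.1 hx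
  have hg1' : g ≠ 1 := fun hh => hg1 (Subtype.ext hh)
  obtain ⟨⟨b', hb', rfl⟩, ⟨_, ⟨b, hb, rfl⟩, hconj⟩⟩ := hg
  have hconj' : x * szZ h b * x⁻¹ = szZ h b' := hconj
  have hb0 : b ≠ 0 := by
    rintro rfl
    rw [szZ_zero, mul_one, mul_inv_cancel] at hconj'
    exact hg1' hconj'.symm
  have hb'0 : b' ≠ 0 := by
    rintro rfl
    exact hg1' (szZ_zero h)
  obtain ⟨l, hl, hl'⟩ := szZ_conj h x hb0 hconj'
  have hlb : l * b = b' := szZ_inj h ((hl' b).symm.trans hconj')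
  have hl2 : l = b' / b := by rw [← hlb]; field_simp
  rw [Subgroup.mem_normalizer_iff]
  intro y
  constructor
  · rintro ⟨β, hβ, rfl⟩
    exact ⟨l * β, by rw [hl2]; exact hB b hb b' hb' β hβ hb0, hl' β⟩
  · rintro ⟨β, hβ, hy⟩
    refine ⟨l⁻¹ * β, ?_, ?_⟩
    · have : l⁻¹ = b / b' := by rw [hl2]; field_simp
      rw [this]
      exact hB b' hb' b hb β hβ hb'0
    · have h2 := hl' (l⁻¹ * β)
      rw [mul_inv_cancel_left₀ hl, ← hy] at h2
      exact (mul_left_cancel (mul_right_cancel h2)).symm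

end Cfsg.Agent.Lib.Helper18
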