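import Mathlib
import Cfsg.Prelude.Def_LieExceptional
import Cfsg.Prelude.Def_Transfer
import Cfsg.Agent.Lib.Helper18.Sz15
import Cfsg.Agent.Lib.Helper18.Sz11

/-! Suzuki groups: elementary abelian TI-subgroups correspond to subfields (main statements). -/

set_option autoImplicit false

namespace Cfsg.Agent.Lib.Helper18

open Cfsg Matrix

variable {F : Type*} [Field F] [Fintype F] {m : ℕ}

theorem exists_subfield_addSubgroup (hF : Fintype.card F = 2 ^ (2 * m + 1)) (h2 : (2 : F) = 0)
    {n : ℕ} (hn : n ≠ 0) (hdvd : n ∣ 2 * m + 1) :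
    ∃ B : AddSubgroup F, Nat.card B = 2 ^ n ∧
      ∀ b ∈ B, ∀ b' ∈ B, ∀ b'' ∈ B, b ≠ 0 → b' / b * b'' ∈ B := by
  have : CharP F 2 := CharTwo.of_one_ne_zero_of_two_eq_zero one_ne_zero h2
  have : Fact (Nat.Prime 2) := ⟨Nat.prime_two⟩
  let _ : Algebra (ZMod 2) F := ZMod.algebra F 2
  have hfr : Module.finrank (ZMod 2) F = 2 * m + 1 := by
    have := FiniteField.pow_finrank_eq_card 2 F
    rw [hF] at this
    exact Nat.pow_right_injective (le_refl 2) this
  obtain ⟨φ⟩ := FiniteField.nonempty_algHom_of_finrank_dvd (F := ZMod 2) (K := GaloisField 2 n)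
    (L := F) (by rw [GaloisField.finrank 2 hn, hfr]; exact hdvd)
  refine ⟨φ.toRingHom.toAddMonoidHom.range, ?_, ?_⟩
  · have e : GaloisField 2 n ≃ φ.toRingHom.toAddMonoidHom.range :=
      Equiv.ofBijective (fun u => ⟨φ u, u, rfl⟩) (by
        constructor
        · intro u v huv
          exact φ.toRingHom.injective (congrArg Subtype.val huv)
        · rintro ⟨_, u, rfl⟩
          exact ⟨u, rfl⟩)
    rw [← Nat.card_congr e, GaloisField.card 2 n hn]
  · rintro _ ⟨u, rfl⟩ _ ⟨u', rfl⟩ _ ⟨u'', rfl⟩ _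
    refine ⟨u' / u * u'', ?_⟩
    change φ (u' / u * u'') = φ u' / φ u * φ u''
    rw [map_mul, map_div₀]

/-- An additive subgroup of a finite field that is stable under every multiplier which moves one
of its non-zero elements into it is a translate of a subfield. -/
theorem dvd_of_TI_addSubgroup (hF : Fintype.card F = 2 ^ (2 * m + 1)) {n : ℕ} (B : AddSubgroup F)
    (hcard : Nat.card B = 2 ^ n) (hn : n ≠ 0)
    (hB : ∀ l : F, l ≠ 0 → (∃ b ∈ B, b ≠ 0 ∧ l * b ∈ B) → ∀ b ∈ B, l * b ∈ B) :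
    n ∣ 2 * m + 1 := by
  have hnt : Nontrivial B := by
    rw [← Finite.one_lt_card_iff_nontrivial, hcard]
    exact Nat.one_lt_two_pow hn
  obtain ⟨⟨b0, hb0⟩, hb00⟩ := exists_ne (0 : B)
  have hb0' : b0 ≠ 0 := fun hh => hb00 (Subtype.ext hh)
  have hmul : ∀ c : F, c ≠ 0 → c * b0 ∈ B → ∀ b ∈ B, c * b ∈ B :=
    fun c hc hcb => hB c hc ⟨b0, hb0, hb0', hcb⟩
  let K : Subfield F :=
    { carrier := {c | c * b0 ∈ B}
      mul_mem' := by
        intro c c' hc hc'
        by_cases hc0 : c = 0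
        · change c * c' * b0 ∈ B
          rw [hc0, zero_mul, zero_mul]; exact B.zero_mem
        · change c * c' * b0 ∈ B
          rw [mul_assoc]
          exact hmul c hc0 hc _ hc'
      one_mem' := by
        change 1 * b0 ∈ B
        rw [one_mul]; exact hb0
      add_mem' := by
        intro c c' hc hc'
        change (c + c') * b0 ∈ B
        rw [add_mul]; exact B.add_mem hc hc'
      zero_mem' := by
        change 0 * b0 ∈ B
        rw [zero_mul]; exact B.zero_mem
      neg_mem' := by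
        intro c hc
        change -c * b0 ∈ B
        rw [neg_mul]; exact B.neg_mem hc
      inv_mem' := by
        intro c hc
        by_cases hc0 : c = 0
        · change c⁻¹ * b0 ∈ B
          rw [hc0, _root_.inv_zero, zero_mul]; exact B.zero_mem
        · change c⁻¹ * b0 ∈ B
          let f : B → B := fun b => ⟨c * b.1, hmul c hc0 hc b.1 b.2⟩
          have hinj : Function.Injective f := by
            intro b b' hbb
            exact Subtype.ext (mul_left_cancel₀ hc0 (congrArg Subtype.val hbb))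
          obtain ⟨b, hb⟩ := (Finite.injective_iff_surjective.1 hinj) ⟨b0, hb0⟩
          have h1 : c * b.1 = b0 := congrArg Subtype.val hb
          have h2 : c⁻¹ * b0 = b.1 := by rw [← h1, inv_mul_cancel_left₀ hc0]
          rw [h2]; exact b.2 }
  have hcardK : Nat.card K = 2 ^ n := by
    rw [← hcard]
    have e : K ≃ B :=
      { toFun := fun c => ⟨c.1 * b0, c.2⟩
        invFun := fun b => ⟨b.1 * b0⁻¹, by
          change b.1 * b0⁻¹ * b0 ∈ B
          rw [inv_mul_cancel_right₀ hb0']; exact b.2⟩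
        left_inv := fun c => Subtype.ext (by simp [hb0'])
        right_inv := fun b => Subtype.ext (by simp [hb0']) }
    exact Nat.card_congr e
  have h3 : Nat.card F = Nat.card K ^ Module.finrank K F := Module.natCard_eq_pow_finrank
  rw [Nat.card_eq_fintype_card, hF, hcardK, ← pow_mul] at h3
  have h4 := Nat.pow_right_injective (le_refl 2) h3
  exact ⟨_, h4⟩

theorem Sz_TI_iff (hm : 1 ≤ m) (hF : Fintype.card F = 2 ^ (2 * m + 1)) (n : ℕ) (hn : 2 ≤ n) :
    (∃ E : Subgroup (Sz F m), IsElementaryAbelian 2 E ∧ Nat.card E = 2 ^ n ∧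
      ∀ x : Sz F m, E ⊓ E.map (MulAut.conj x).toMonoidHom ≠ ⊥ →
        x ∈ Subgroup.normalizer (E : Set (Sz F m))) ↔ n ∣ 2 * m + 1 := by
  have h := szData_of_card hm hF
  constructor
  · rintro ⟨E, hE, hcard, hTI⟩
    have hE2 : IsPGroup 2 E := fun g => ⟨1, by
      apply Subtype.ext
      rw [pow_one]
      exact hE.2 g.1 g.2⟩
    obtain ⟨a, ha⟩ := Sz_two_group_fixed (by rw [hF]; exact ⟨2 ^ (2 * m), by ring⟩) E hE2
    obtain ⟨y0, hy0, hya⟩ := Sz_to_inf h a.2
    obtain ⟨y, hy⟩ : ∃ y : Sz F m, y.1 = y0 := ⟨⟨y0, hy0⟩, rfl⟩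
    have hform : ∀ g ∈ E, ∃ b, y * g * y⁻¹ = szZ h b := by
      intro g hg
      have hfix : (y * g * y⁻¹).1 • suzukiPointInfinity F = suzukiPointInfinity F := by
        rw [Subgroup.coe_mul, Subgroup.coe_mul, Subgroup.coe_inv, hy, mul_smul, mul_smul, ← hya,
          inv_smul_smul]
        congr 1
        exact congrArg Subtype.val (ha g hg)
      obtain ⟨a1, b1, t, hab⟩ := Sz_one_point h (y * g * y⁻¹).2 hfix
      have hsq : (y * g * y⁻¹) * (y * g * y⁻¹) = 1 := by
        have h1 : g * g = 1 := by rw [← sq]; exact hE.2 g hg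
        have : (y * g * y⁻¹) * (y * g * y⁻¹) = y * (g * g) * y⁻¹ := by group
        rw [this, h1]; group
      have hsq' := congrArg Subtype.val hsq
      rw [Subgroup.coe_mul, hab] at hsq'
      obtain ⟨rfl, rfl⟩ := Sz_involution_form h hsq'
      rw [szD_one, mul_one] at hab
      exact ⟨b1, Subtype.ext hab⟩
    let B : AddSubgroup F :=
      { carrier := {b | y⁻¹ * szZ h b * y ∈ E}
        add_mem' := by
          intro b b' hb hb'
          change y⁻¹ * szZ h (b + b') * y ∈ E
          have : y⁻¹ * szZ h (b + b') * y = (y⁻¹ * szZ h b * y) * (y⁻¹ * szZ h b' * y) := by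
            rw [← szZ_mul]; group
          rw [this]
          exact E.mul_mem hb hb'
        zero_mem' := by
          change y⁻¹ * szZ h 0 * y ∈ E
          rw [szZ_zero, mul_one, inv_mul_cancel]
          exact E.one_mem
        neg_mem' := by
          intro b hb
          change y⁻¹ * szZ h (-b) * y ∈ E
          rw [h.neg_eq]
          exact hb }
    have hcardB : Nat.card B = 2 ^ n := by
      rw [← hcard]
      have e : B ≃ E := Equiv.ofBijective (fun b => ⟨y⁻¹ * szZ h b.1 * y, b.2⟩) (by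
        constructor
        · intro b b' hbb
          have h1 : y⁻¹ * szZ h b.1 * y = y⁻¹ * szZ h b'.1 * y := congrArg Subtype.val hbb
          exact Subtype.ext (szZ_inj h (mul_left_cancel (mul_right_cancel h1)))
        · rintro ⟨g, hg⟩
          obtain ⟨b, hb⟩ := hform g hg
          have h1 : y⁻¹ * szZ h b * y = g := by rw [← hb]; group
          exact ⟨⟨b, by change y⁻¹ * szZ h b * y ∈ E; rw [h1]; exact hg⟩, Subtype.ext h1⟩)
      exact Nat.card_congr e
    apply dvd_of_TI_addSubgroup hF B hcardB (by omega)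
    rintro l hl ⟨b, hb, hb0, hlb⟩ β hβ
    obtain ⟨k, hk⟩ := h.exists_pow_s_add_one l
    have hk0 : k ≠ 0 := by
      rintro rfl
      rw [zero_pow (by omega)] at hk
      exact hl hk.symm
    obtain ⟨t, ht⟩ := h.exists_unit_sq hk0
    obtain ⟨d, hd⟩ : ∃ d : Sz F m, d.1 = szD (2 ^ (m + 1)) t := ⟨⟨_, szD_mem h t⟩, rfl⟩
    have hdz : ∀ γ, d * szZ h γ * d⁻¹ = szZ h (l * γ) := by
      intro γ
      apply Subtype.ext
      rw [Subgroup.coe_mul, Subgroup.coe_mul, Subgroup.coe_inv, hd]
      change szD (2 ^ (m + 1)) t * szT (2 ^ (m + 1)) 0 γ * _ = szT (2 ^ (m + 1)) 0 (l * γ)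
      rw [szD_conj_szT h, ht, hk, mul_zero]
    have hxz : ∀ γ, (y⁻¹ * d * y) * (y⁻¹ * szZ h γ * y) * (y⁻¹ * d * y)⁻¹ =
        y⁻¹ * szZ h (l * γ) * y := by
      intro γ
      rw [← hdz]; group
    have hx := hTI (y⁻¹ * d * y) (by
      intro hbot
      have hmem : y⁻¹ * szZ h (l * b) * y ∈
          E ⊓ E.map (MulAut.conj (y⁻¹ * d * y)).toMonoidHom :=
        ⟨hlb, ⟨y⁻¹ * szZ h b * y, hb, hxz b⟩⟩
      rw [hbot, Subgroup.mem_bot] at hmem
      have h1 : szZ h (l * b) = 1 := by
        have : y⁻¹ * szZ h (l * b) * (y⁻¹)⁻¹ = 1 := by rw [inv_inv]; exact hmem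
        exact conj_eq_one_iff.1 this
      rw [← szZ_zero h] at h1
      exact mul_ne_zero hl hb0 (szZ_inj h h1))
    have := (Subgroup.mem_normalizer_iff.1 hx _).1 hβ
    rw [hxz] at this
    exact this
  · intro hdvd
    obtain ⟨B, hcard, hB⟩ := exists_subfield_addSubgroup hF h.two (by omega : n ≠ 0) hdvd
    exact ⟨szE h B, szE_elementary h B, by rw [card_szE, hcard], fun x hx => szE_TI h B hB x hx⟩

end Cfsg.Agent.Lib.Helper18
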