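import Mathlib
import Cfsg.Prelude.Def_LieExceptional
import Cfsg.Agent.Lib.Helper18.Sz16

/-! Subfield subgroups of Suzuki groups: preliminaries. -/

set_option autoImplicit false

namespace Cfsg.Agent.Lib.Helper18

open Cfsg Matrix

section rel

variable {F : Type*} [Field F] {s : ℕ}

theorem szTD_mul (h : SzData F s) (a b c d : F) (t u : Fˣ) :
    szT s a b * szD s t * (szT s c d * szD s u) =
      szT s (a + (t : F) ^ 2 * c) (b + ((t : F) ^ 2) ^ (s + 1) * d + a ^ s * ((t : F) ^ 2 * c)) *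
        szD s (t * u) := by
  have e1 : szT s a b * szD s t * (szT s c d * szD s u) =
      szT s a b * (szD s t * szT s c d * (szD s t)⁻¹) * (szD s t * szD s u) := by group
  rw [e1, szD_conj_szT h, szT_mul h, szD_mul]

theorem szTD_eq_one (h : SzData F s) {a b : F} {t : Fˣ} (hh : szT s a b * szD s t = 1) :
    a = 0 ∧ b = 0 ∧ t = 1 := by
  have h1 := congrFun (congrFun (congrArg Subtype.val hh) 1) 1
  have h2 := congrFun (congrFun (congrArg Subtype.val hh) 2) 3
  have h3 := congrFun (congrFun (congrArg Subtype.val hh) 1) 3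
  change (szTMat s a b * szDMat s t) 1 1 = (1 : Matrix (Fin 4) (Fin 4) F) 1 1 at h1
  change (szTMat s a b * szDMat s t) 2 3 = (1 : Matrix (Fin 4) (Fin 4) F) 2 3 at h2
  change (szTMat s a b * szDMat s t) 1 3 = (1 : Matrix (Fin 4) (Fin 4) F) 1 3 at h3
  simp [szTMat, szDMat, Matrix.mul_diagonal] at h1 h2 h3
  refine ⟨h2, h3, ?_⟩
  apply Units.ext
  apply h.s_inj
  rw [h1]; simp

theorem szTD_pow_four (h : SzData F s) {a b : F} {t : Fˣ}
    (hh : (szT s a b * szD s t) ^ 4 = 1) : t = 1 := by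
  have e : (szT s a b * szD s t) ^ 4 =
      (szT s a b * szD s t * (szT s a b * szD s t)) *
        (szT s a b * szD s t * (szT s a b * szD s t)) := by
    rw [← sq, ← sq, ← pow_mul]
  rw [e, szTD_mul h, szTD_mul h] at hh
  have h3 := (szTD_eq_one h hh).2.2
  exact szUnit_eq_one_of_mul_self h (szUnit_eq_one_of_mul_self h h3)

theorem szT_fix_imp (h : SzData F s) {a b x y : F}
    (hfix : szT s a b • szP s x y = szP s x y) : a = 0 ∧ b = 0 := by
  rw [szT_smul_P h] at hfix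
  obtain ⟨h1, h2⟩ := szP_inj hfix
  have ha : a = 0 := by linear_combination h1
  subst ha
  rw [h.zero_pow_s] at h2
  exact ⟨rfl, by linear_combination h2⟩

theorem szT_ne_one (h : SzData F s) {a b : F} (hab : ¬ (a = 0 ∧ b = 0)) : szT s a b ≠ 1 := by
  intro hh
  rw [← szT_zero h] at hh
  exact hab (szT_inj hh)

/-- An element `T(c,d) D(t)` with `t ≠ 1` fixes an affine point. -/
theorem szTD_exists_fixed (h : SzData F s) (c d : F) {t : Fˣ} (ht : t ≠ 1) :
    ∃ x y : F, (szT s c d * szD s t) • szP s x y = szP s x y := by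
  have hk1 : (t : F) ^ 2 + 1 ≠ 0 := by
    intro hh
    apply ht
    apply Units.ext
    apply h.sq_inj
    rw [h.eq_of_add_eq_zero hh]; simp
  have hk2 : ((t : F) ^ 2) ^ (s + 1) + 1 ≠ 0 := by
    intro hh
    apply hk1
    rw [h.eq_one_of_pow_s_add_one (h.eq_of_add_eq_zero hh)]
    exact h.add_self 1
  obtain ⟨κ, hκ⟩ : ∃ κ : F, κ = (t : F) ^ 2 := ⟨_, rfl⟩
  rw [← hκ] at hk1 hk2
  refine ⟨c / (κ + 1), (d + c ^ s * (κ * (c / (κ + 1)))) / (κ ^ (s + 1) + 1), ?_⟩
  rw [mul_smul, szD_smul_P h, szT_smul_P h, ← hκ]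
  congr 1
  · field_simp
    linear_combination (c * κ) * h.two
  · obtain ⟨e, he⟩ : ∃ e, e = d + c ^ s * (κ * (c / (κ + 1))) := ⟨_, rfl⟩
    rw [← he]
    have : κ ^ (s + 1) * (e / (κ ^ (s + 1) + 1)) + d + c ^ s * (κ * (c / (κ + 1))) =
        κ ^ (s + 1) * (e / (κ ^ (s + 1) + 1)) + e := by rw [he]; ring
    rw [this]
    field_simp
    linear_combination (e * κ * κ ^ s) * h.two

end rel

section G

variable {F : Type*} [Field F] [Finite F] {m : ℕ}

/-- `T(a,b)` as an element of the Suzuki group. -/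
def szTG (h : SzData F (2 ^ (m + 1))) (a b : F) : Sz F m := ⟨szT (2 ^ (m + 1)) a b, szT_mem h a b⟩

/-- `D(t)` as an element of the Suzuki group. -/
def szDG (h : SzData F (2 ^ (m + 1))) (t : Fˣ) : Sz F m := ⟨szD (2 ^ (m + 1)) t, szD_mem h t⟩

/-- `w` as an element of the Suzuki group. -/
def szWG (h : SzData F (2 ^ (m + 1))) : Sz F m := ⟨szW, szW_mem h⟩

variable (h : SzData F (2 ^ (m + 1)))

theorem szTG_mul (a b c d : F) :
    szTG h a b * szTG h c d = szTG h (a + c) (b + d + a ^ (2 ^ (m + 1)) * c) :=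
  Subtype.ext (szT_mul h a b c d)

theorem szTG_zero : szTG h 0 0 = 1 := Subtype.ext (szT_zero h)

theorem szTG_inj {a b c d : F} (hh : szTG h a b = szTG h c d) : a = c ∧ b = d :=
  szT_inj (congrArg Subtype.val hh)

theorem szTG_inv (a b : F) : (szTG h a b)⁻¹ = szTG h a (b + a ^ (2 ^ (m + 1) + 1)) :=
  Subtype.ext (szT_inv h a b)

theorem szTG_pow_four (a b : F) : szTG h a b ^ 4 = 1 :=
  Subtype.ext (by
    rw [Subgroup.coe_pow]
    exact szT_pow_four h a b)

theorem szDG_mul (t u : Fˣ) : szDG h (t * u) = szDG h t * szDG h u := Subtype.ext (szD_mul t u)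

theorem szDG_one : szDG h 1 = 1 := Subtype.ext szD_one

theorem szDG_inv (t : Fˣ) : (szDG h t)⁻¹ = szDG h t⁻¹ := Subtype.ext (szD_inv t)

theorem szDG_inj {t u : Fˣ} (hh : szDG h t = szDG h u) : t = u :=
  szD_inj h (congrArg Subtype.val hh)

/-- the torus as a homomorphism into the Suzuki group -/
def szDGHom : Fˣ →* Sz F m where
  toFun := szDG h
  map_one' := szDG_one h
  map_mul' := szDG_mul h

theorem szDG_conj_szTG (t : Fˣ) (a b : F) :
    szDG h t * szTG h a b * (szDG h t)⁻¹ =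
      szTG h ((t : F) ^ 2 * a) (((t : F) ^ 2) ^ (2 ^ (m + 1) + 1) * b) :=
  Subtype.ext (szD_conj_szT h t a b)

theorem szWG_mul_self : szWG h * szWG h = 1 := Subtype.ext szW_mul_self

theorem szWG_inv : (szWG h)⁻¹ = szWG h := inv_eq_of_mul_eq_one_left (szWG_mul_self h)

theorem szWG_conj_szDG (t : Fˣ) : szWG h * szDG h t * szWG h = szDG h t⁻¹ :=
  Subtype.ext (szW_conj_szD t)

theorem szG_bruhat (g : Sz F m) :
    (∃ (a b : F) (t : Fˣ), g = szTG h a b * szDG h t) ∨
    ∃ (a b c d : F) (t : Fˣ), g = szTG h a b * szWG h * (szTG h c d * szDG h t) := by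
  rcases Sz_bruhat h g.2 with ⟨a, b, t, hg⟩ | ⟨a, b, c, d, t, hg⟩
  · exact Or.inl ⟨a, b, t, Subtype.ext hg⟩
  · exact Or.inr ⟨a, b, c, d, t, Subtype.ext hg⟩

end G

end Cfsg.Agent.Lib.Helper18
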