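import Mathlib
import Cfsg.Prelude.Def_LieExceptional
import Cfsg.Agent.Lib.Helper18.SzSub1

/-! Subfield subgroups of Suzuki groups: normal form of an embedding `Sz K k →* Sz F m`. -/

set_option autoImplicit false

namespace Cfsg.Agent.Lib.Helper18

open Cfsg Matrix

section pts

variable {F : Type*} [Field F] [Finite F] {m : ℕ} (h : SzData F (2 ^ (m + 1)))

theorem szG_one_point {g : Sz F m}
    (hg : g.1 • suzukiPointInfinity F = suzukiPointInfinity F) :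
    ∃ a b t, g = szTG h a b * szDG h t := by
  obtain ⟨a, b, t, e⟩ := Sz_one_point h g.2 hg
  exact ⟨a, b, t, Subtype.ext e⟩

theorem szG_two_point {g : Sz F m}
    (hg : g.1 • suzukiPointInfinity F = suzukiPointInfinity F)
    (hg0 : g.1 • szP (2 ^ (m + 1)) (0 : F) 0 = szP (2 ^ (m + 1)) 0 0) :
    ∃ t, g = szDG h t := by
  obtain ⟨t, e⟩ := Sz_two_point h g.2 hg hg0
  exact ⟨t, Subtype.ext e⟩

theorem szG_unipotent {g : Sz F m}
    (hg : g.1 • suzukiPointInfinity F = suzukiPointInfinity F) (h4 : g ^ 4 = 1) :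
    ∃ a b, g = szTG h a b := by
  obtain ⟨a, b, t, e⟩ := szG_one_point h hg
  have ht : t = 1 := by
    apply szTD_pow_four h (a := a) (b := b)
    have h5 := congrArg Subtype.val h4
    rw [e, Subgroup.coe_pow] at h5
    exact h5
  subst ht
  exact ⟨a, b, by rw [e, szDG_one, mul_one]⟩

end pts

section emb

variable {F : Type*} [Field F] [Fintype F] {m : ℕ} (h : SzData F (2 ^ (m + 1)))
variable {K : Type*} [Field K] [Fintype K] {k : ℕ} (h0 : SzData K (2 ^ (k + 1)))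

theorem szEmb_A (hF2 : Even (Fintype.card F)) (Ψ : Sz K k →* Sz F m) :
    ∃ g : Sz F m, ∀ a b, ∃ α β, g * Ψ (szTG h0 a b) * g⁻¹ = szTG h α β := by
  have hQ : IsPGroup 2 ((szU h0).map Ψ) := by
    apply IsPGroup.map
    rintro ⟨u, a, b, e⟩
    refine ⟨2, ?_⟩
    have hu : u = szTG h0 a b := Subtype.ext e
    subst hu
    apply Subtype.ext
    exact szTG_pow_four h0 a b
  obtain ⟨p, hp⟩ := Sz_two_group_fixed hF2 _ hQ
  obtain ⟨g, hg, hgp⟩ := Sz_to_inf h p.2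
  refine ⟨⟨g, hg⟩, fun a b => ?_⟩
  apply szG_unipotent h
  · change (g * (Ψ (szTG h0 a b)).1 * g⁻¹) • _ = _
    rw [mul_smul, mul_smul, ← hgp, inv_smul_smul]
    congr 1
    exact congrArg Subtype.val (hp _ ⟨szTG h0 a b, ⟨a, b, rfl⟩, rfl⟩)
  · rw [conj_pow, ← map_pow, szTG_pow_four, map_one]
    group

theorem szEmb_B (Ψ : Sz K k →* Sz F m) (hΨ : Function.Injective Ψ)
    (P1 : ∀ a b, ∃ α β, Ψ (szTG h0 a b) = szTG h α β) :
    ∃ g : Sz F m, (∀ a b, ∃ α β, g * Ψ (szTG h0 a b) * g⁻¹ = szTG h α β) ∧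
      ∀ t0, ∃ t, g * Ψ (szDG h0 t0) * g⁻¹ = szDG h t := by
  obtain ⟨ζ, hζ⟩ := IsCyclic.exists_generator (α := Kˣ)
  obtain ⟨d, hd⟩ : ∃ d, d = Ψ (szDG h0 ζ) := ⟨_, rfl⟩
  obtain ⟨α, β, hαβ⟩ := P1 1 0
  have hne : ¬ (α = 0 ∧ β = 0) := by
    rintro ⟨rfl, rfl⟩
    rw [szTG_zero, ← map_one Ψ] at hαβ
    have h1 := hΨ hαβ
    rw [← szTG_zero h0] at h1
    exact one_ne_zero (szTG_inj h0 h1).1
  obtain ⟨α', β', hαβ'⟩ := P1 ((ζ : K) ^ 2 * 1) (((ζ : K) ^ 2) ^ (2 ^ (k + 1) + 1) * 0)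
  have hconj : d * szTG h α β * d⁻¹ = szTG h α' β' := by
    rw [hd, ← hαβ, ← hαβ', ← map_inv, ← map_mul, ← map_mul, szDG_conj_szTG]
  have hfix : d.1 • suzukiPointInfinity F = suzukiPointInfinity F := by
    have h1 : szT (2 ^ (m + 1)) α β • (d.1⁻¹ • suzukiPointInfinity F) =
        d.1⁻¹ • suzukiPointInfinity F := by
      have e : szT (2 ^ (m + 1)) α β = d.1⁻¹ * szT (2 ^ (m + 1)) α' β' * d.1 := by
        have h2 := congrArg Subtype.val hconj
        change d.1 * szT _ α β * d.1⁻¹ = szT _ α' β' at h2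
        rw [← h2]; group
      rw [e, mul_smul, mul_smul, smul_inv_smul, szT_smul_inf]
    have hmem : d.1⁻¹ • suzukiPointInfinity F ∈ suzukiOvoid F m :=
      Sz_smul_mem (inv_mem d.2) (szInf_mem m)
    rcases mem_suzukiOvoid_iff.1 hmem with e | ⟨x, y, e⟩
    · rw [inv_smul_eq_iff] at e; exact e.symm
    · rw [e] at h1; exact absurd (szT_fix_imp h h1) hne
  obtain ⟨c, e, t, hcet⟩ := szG_one_point h hfix
  have ht : t ≠ 1 := by
    rintro rfl
    rw [szDG_one, mul_one] at hcet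
    have h4 : d ^ 4 = 1 := by rw [hcet, szTG_pow_four]
    rw [hd, ← map_pow, ← map_one Ψ] at h4
    have h5 := hΨ h4
    have h6 : szDG h0 (ζ ^ 4) = szDG h0 1 := by
      rw [szDG_one, ← h5]; exact map_pow (szDGHom h0) ζ 4
    have h7 := szDG_inj h0 h6
    have h8 : ζ = 1 := by
      apply szUnit_eq_one_of_mul_self h0
      apply szUnit_eq_one_of_mul_self h0
      rw [← h7, pow_succ, pow_succ, pow_succ, pow_one]
      simp only [mul_assoc]
    obtain ⟨c, hc0, hc1⟩ := h0.exists_ne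
    have h9 := hζ (Units.mk0 c hc0)
    rw [h8, Subgroup.zpowers_one_eq_bot, Subgroup.mem_bot] at h9
    exact hc1 (by simpa using congrArg Units.val h9)
  obtain ⟨x, y, hxy⟩ := szTD_exists_fixed h c e ht
  refine ⟨(szTG h x y)⁻¹, ?_, ?_⟩
  · intro a b
    obtain ⟨α, β, e⟩ := P1 a b
    rw [e, inv_inv, szTG_inv, szTG_mul, szTG_mul]
    exact ⟨_, _, rfl⟩
  · have hd' : ∃ t', (szTG h x y)⁻¹ * d * (szTG h x y)⁻¹⁻¹ = szDG h t' := by
      apply szG_two_point h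
      · change ((szT _ x y)⁻¹ * d.1 * (szT _ x y)⁻¹⁻¹) • _ = _
        rw [inv_inv, mul_smul, mul_smul, szT_smul_inf, hfix, inv_smul_eq_iff, szT_smul_inf]
      · change ((szT _ x y)⁻¹ * d.1 * (szT _ x y)⁻¹⁻¹) • _ = _
        rw [inv_inv, mul_smul, mul_smul, szT_smul_zero h, inv_smul_eq_iff, szT_smul_zero h]
        rw [hcet]; exact hxy
    obtain ⟨t', ht'⟩ := hd'
    intro t0
    obtain ⟨n, rfl⟩ := Subgroup.mem_zpowers_iff.1 (hζ t0)
    refine ⟨t' ^ n, ?_⟩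
    have e1 : szDG h0 (ζ ^ n) = szDG h0 ζ ^ n := map_zpow (szDGHom h0) ζ n
    have e2 : szDG h (t' ^ n) = szDG h t' ^ n := map_zpow (szDGHom h) t' n
    rw [e1, e2, map_zpow, ← hd, ← ht', conj_zpow]

theorem szEmb_C (Ψ : Sz K k →* Sz F m) (hΨ : Function.Injective Ψ)
    (P1 : ∀ a b, ∃ α β, Ψ (szTG h0 a b) = szTG h α β)
    (P2 : ∀ t0, ∃ t, Ψ (szDG h0 t0) = szDG h t) :
    ∃ g : Sz F m, (∀ a b, ∃ α β, g * Ψ (szTG h0 a b) * g⁻¹ = szTG h α β) ∧
      (∀ t0, ∃ t, g * Ψ (szDG h0 t0) * g⁻¹ = szDG h t) ∧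
      g * Ψ (szWG h0) * g⁻¹ = szWG h := by
  obtain ⟨c, hc0, hc1⟩ := h0.exists_ne
  obtain ⟨t, ht⟩ := P2 (Units.mk0 c hc0)
  have ht1 : t ≠ 1 := by
    rintro rfl
    rw [szDG_one, ← map_one Ψ] at ht
    have h1 := hΨ ht
    rw [← szDG_one h0] at h1
    have h2 := szDG_inj h0 h1
    exact hc1 (by simpa using congrArg Units.val h2)
  obtain ⟨ω, hω⟩ : ∃ ω, ω = Ψ (szWG h0) := ⟨_, rfl⟩
  have hωω : ω * ω = 1 := by rw [hω, ← map_mul, szWG_mul_self, map_one]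
  have hinv : ω * szDG h t * ω = szDG h t⁻¹ := by
    rw [hω, ← ht, ← map_mul, ← map_mul, szWG_conj_szDG, ← szDG_inv, ← szDG_inv, map_inv, ht]
  have hωω' : ω.1 * ω.1 = 1 := congrArg Subtype.val hωω
  have hinv' : ω.1 * szD (2 ^ (m + 1)) t * ω.1 = szD (2 ^ (m + 1)) t⁻¹ :=
    congrArg Subtype.val hinv
  have key : ∀ p : Projectivization F (Fin 4 → F), szD (2 ^ (m + 1)) t⁻¹ • p = p →
      szD (2 ^ (m + 1)) t • (ω.1 • p) = ω.1 • p := by
    intro p hp
    have e : szD (2 ^ (m + 1)) t * ω.1 = ω.1 * szD (2 ^ (m + 1)) t⁻¹ := by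
      rw [← hinv', ← mul_assoc, ← mul_assoc, hωω', one_mul]
    rw [← mul_smul, e, mul_smul, hp]
  have two : ∀ p ∈ suzukiOvoid F m, szD (2 ^ (m + 1)) t • p = p →
      p = suzukiPointInfinity F ∨ p = szP (2 ^ (m + 1)) 0 0 := by
    intro p hp hfix
    rcases mem_suzukiOvoid_iff.1 hp with e | ⟨x, y, e⟩
    · exact Or.inl e
    · right
      by_contra hne
      rw [e] at hfix
      apply ht1
      apply szD_fix_imp h _ hfix
      rintro ⟨rfl, rfl⟩; exact hne e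
  have hinf : ω.1 • suzukiPointInfinity F = szP (2 ^ (m + 1)) 0 0 := by
    rcases two _ (Sz_smul_mem ω.2 (szInf_mem m)) (key _ (szD_smul_inf _)) with e | e
    · exfalso
      obtain ⟨a, b, hab⟩ := szG_unipotent h e
        (by rw [pow_succ, pow_succ, pow_succ, pow_one, hωω, one_mul, hωω])
      rw [hab] at hinv
      have e2 : szT (2 ^ (m + 1)) a b * szD (2 ^ (m + 1)) t *
          (szT (2 ^ (m + 1)) a b * szD (2 ^ (m + 1)) t) = 1 := by
        have h3 := congrArg Subtype.val hinv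
        change szT _ a b * szD _ t * szT _ a b = szD _ t⁻¹ at h3
        rw [← mul_assoc, h3, ← szD_mul]; simp [szD_one]
      rw [szTD_mul h] at e2
      exact ht1 (szUnit_eq_one_of_mul_self h (szTD_eq_one h e2).2.2)
    · exact e
  have hzero : ω.1 • szP (2 ^ (m + 1)) 0 0 = suzukiPointInfinity F := by
    rw [← hinf, ← mul_smul, hωω', one_smul]
  obtain ⟨u, hu⟩ : ∃ u, szWG h * ω = szDG h u := by
    apply szG_two_point h
    · change (szW * ω.1) • _ = _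
      rw [mul_smul, hinf, szW_smul_zero h.s_ne]
    · change (szW * ω.1) • _ = _
      rw [mul_smul, hzero, szW_smul_inf h.s_ne]
  have hω2 : ω = szWG h * szDG h u := by rw [← hu, ← mul_assoc, szWG_mul_self, one_mul]
  obtain ⟨r, hr⟩ := h.exists_unit_sq (k := (u : F)) u.ne_zero
  have hr' : r * r = u := Units.ext (by rw [← hr]; simp [sq])
  refine ⟨szDG h r, ?_, ?_, ?_⟩
  · intro a b
    obtain ⟨α, β, e⟩ := P1 a b
    rw [e, szDG_conj_szTG]; exact ⟨_, _, rfl⟩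
  · intro t0
    obtain ⟨t, e⟩ := P2 t0
    rw [e, szDG_inv, ← szDG_mul, ← szDG_mul]; exact ⟨_, rfl⟩
  · rw [← hω, hω2]
    have e1 : szDG h r * szWG h = szWG h * szDG h r⁻¹ := by
      rw [← szWG_conj_szDG, ← mul_assoc, ← mul_assoc, szWG_mul_self, one_mul]
    rw [← mul_assoc, e1, szDG_inv, mul_assoc, mul_assoc, ← szDG_mul, ← szDG_mul, ← hr']
    have e3 : r⁻¹ * (r * r * r⁻¹) = 1 := by group
    rw [e3, szDG_one, mul_one]

end emb

end Cfsg.Agent.Lib.Helper18
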