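import Mathlib
import Cfsg.Prelude.Def_LieExceptional
import Cfsg.Agent.Lib.Helper18.SzSub2
import Cfsg.Agent.Lib.Helper18.SzL2

/-! Suzuki groups have no nilpotent minimal cover. -/

set_option autoImplicit false

namespace Cfsg.Agent.Lib.Helper18

open Cfsg Matrix

section abs

theorem exists_central_of_nilpotent {G : Type*} [Group G] (A : Subgroup G)
    (hA : Group.IsNilpotent A) {x : G} (hx : x ∈ A) (hx1 : x ≠ 1) :
    ∃ z ∈ A, z ≠ 1 ∧ ∀ a ∈ A, a * z = z * a := by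
  have hnt : Nontrivial A := ⟨⟨⟨x, hx⟩, 1, fun hh => hx1 (congrArg Subtype.val hh)⟩⟩
  have hc := Group.IsNilpotent.center_ne_bot (G := A)
  obtain ⟨⟨z, hz⟩, hz1⟩ := (Subgroup.ne_bot_iff_exists_ne_one).1 hc
  refine ⟨z.1, z.2, fun hh => hz1 (Subtype.ext (Subtype.ext hh)), fun a ha => ?_⟩
  exact congrArg Subtype.val ((Subgroup.mem_center_iff.1 hz) ⟨a, ha⟩)

theorem no_nilpotent_minimal_cover {G Ω : Type*} [Group G] [Fintype Ω]
    (B : Ω → Subgroup G) (hB : ∀ p, B p ≠ ⊤) (u : Ω → G) (d : G) (p0 : Ω)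
    (hu1 : ∀ p, u p ≠ 1) (hd1 : d ≠ 1)
    (h1 : ∀ p z, z ≠ 1 → z * u p = u p * z → ∀ a, a * z = z * a → a ∈ B p ∧ a ≠ d)
    (h2 : ∀ p p', u p ∈ B p' → p' = p)
    (h3 : ∀ z, z ≠ 1 → z * d = d * z → ∀ a, a * z = z * a → a ∈ B p0) :
    ¬ ∃ 𝓐 : Finset (Subgroup G), ((∀ A ∈ 𝓐, A ≠ ⊤) ∧ (∀ g : G, ∃ A ∈ 𝓐, g ∈ A)) ∧
      (∀ 𝓑 : Finset (Subgroup G), (∀ A ∈ 𝓑, A ≠ ⊤) ∧ (∀ g : G, ∃ A ∈ 𝓑, g ∈ A) →
        𝓐.card ≤ 𝓑.card) ∧ (∀ A ∈ 𝓐, Group.IsNilpotent ↥A) := by
  classical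
  rintro ⟨𝓐, ⟨hA1, hA2⟩, hmin, hnil⟩
  choose c hc hc' using hA2
  have hU : ∀ p, c (u p) ≤ B p ∧ d ∉ c (u p) := by
    intro p
    obtain ⟨z, hz, hz1, hzc⟩ := exists_central_of_nilpotent _ (hnil _ (hc (u p))) (hc' (u p)) (hu1 p)
    have hzu : z * u p = u p * z := (hzc _ (hc' (u p))).symm
    exact ⟨fun a ha => (h1 p z hz1 hzu a (hzc a ha)).1,
      fun hd => (h1 p z hz1 hzu d (hzc d hd)).2 rfl⟩
  have hD : c d ≤ B p0 := by
    obtain ⟨z, hz, hz1, hzc⟩ := exists_central_of_nilpotent _ (hnil _ (hc d)) (hc' d) hd1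
    exact fun a ha => h3 z hz1 (hzc _ (hc' d)).symm a (hzc a ha)
  obtain ⟨𝓒, h𝓒⟩ : ∃ 𝓒, 𝓒 = 𝓐.filter (fun A => ∃ p, A ≤ B p) := ⟨_, rfl⟩
  obtain ⟨𝓢, h𝓢⟩ : ∃ 𝓢, 𝓢 = Finset.univ.image B := ⟨_, rfl⟩
  have hcov : (∀ A ∈ (𝓐 \ 𝓒) ∪ 𝓢, A ≠ ⊤) ∧ (∀ g : G, ∃ A ∈ (𝓐 \ 𝓒) ∪ 𝓢, g ∈ A) := by
    constructor
    · intro A hA
      rcases Finset.mem_union.1 hA with hA | hA
      · exact hA1 A (Finset.mem_sdiff.1 hA).1
      · rw [h𝓢] at hA
        obtain ⟨p, _, rfl⟩ := Finset.mem_image.1 hA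
        exact hB p
    · intro g
      by_cases hg : c g ∈ 𝓒
      · rw [h𝓒] at hg
        obtain ⟨p, hp⟩ := (Finset.mem_filter.1 hg).2
        exact ⟨B p, Finset.mem_union_right _ (by rw [h𝓢]; exact Finset.mem_image_of_mem _ (Finset.mem_univ p)),
          hp (hc' g)⟩
      · exact ⟨c g, Finset.mem_union_left _ (Finset.mem_sdiff.2 ⟨hc g, hg⟩), hc' g⟩
  have hle := hmin _ hcov
  have hS : 𝓢.card ≤ Fintype.card Ω := by
    rw [h𝓢]; exact Finset.card_image_le
  have hC : Fintype.card Ω + 1 ≤ 𝓒.card := by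
    let f : Option Ω → Subgroup G := fun o => o.elim (c d) (fun p => c (u p))
    have hf : Function.Injective f := by
      intro a b hab
      rcases a with _ | a <;> rcases b with _ | b
      · rfl
      · exfalso
        change c d = c (u b) at hab
        exact (hU b).2 (hab ▸ hc' d)
      · exfalso
        change c (u a) = c d at hab
        exact (hU a).2 (hab ▸ hc' d)
      · change c (u a) = c (u b) at hab
        congr 1
        apply h2 b a
        apply (hU a).1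
        rw [hab]; exact hc' _
    have hsub : Finset.univ.image f ⊆ 𝓒 := by
      intro A hA
      obtain ⟨o, _, rfl⟩ := Finset.mem_image.1 hA
      rw [h𝓒, Finset.mem_filter]
      rcases o with _ | p
      · exact ⟨hc d, p0, hD⟩
      · exact ⟨hc _, p, (hU p).1⟩
    have := Finset.card_le_card hsub
    rw [Finset.card_image_of_injective _ hf, Finset.card_univ, Fintype.card_option] at this
    exact this
  have hCA : 𝓒 ⊆ 𝓐 := by rw [h𝓒]; exact Finset.filter_subset _ _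
  have h4 : ((𝓐 \ 𝓒) ∪ 𝓢).card ≤ (𝓐 \ 𝓒).card + 𝓢.card := Finset.card_union_le _ _
  have h5 : (𝓐 \ 𝓒).card = 𝓐.card - 𝓒.card := Finset.card_sdiff_of_subset hCA
  have h6 := Finset.card_le_card hCA
  omega

end abs

section conc

variable {F : Type*} [Field F] [Fintype F] {m : ℕ} (h : SzData F (2 ^ (m + 1)))

theorem szG_comm_T {x : Sz F m} {a b : F} (hab : ¬ (a = 0 ∧ b = 0))
    (hx : x * szTG h a b = szTG h a b * x) : ∃ c d, x = szTG h c d := by
  have hx' : x.1 * szT (2 ^ (m + 1)) a b = szT (2 ^ (m + 1)) a b * x.1 := congrArg Subtype.val hx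
  have hinf : x.1 • suzukiPointInfinity F = suzukiPointInfinity F := by
    have e : szT (2 ^ (m + 1)) a b • (x.1 • suzukiPointInfinity F) =
        x.1 • suzukiPointInfinity F := by
      rw [← mul_smul, ← hx', mul_smul, szT_smul_inf]
    rcases mem_suzukiOvoid_iff.1 (Sz_smul_mem x.2 (szInf_mem m)) with e1 | ⟨x', y', e1⟩
    · exact e1
    · rw [e1] at e; exact absurd (szT_fix_imp h e) hab
  obtain ⟨c, d, t, hcdt⟩ := szG_one_point h hinf
  have e1 : szTG h c d * szDG h t * szTG h a b =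
      szTG h c d * (szDG h t * szTG h a b * (szDG h t)⁻¹) * szDG h t := by group
  rw [hcdt, e1, szDG_conj_szTG, szTG_mul, ← mul_assoc (szTG h a b), szTG_mul] at hx
  have e2 := szTG_inj h (mul_right_cancel hx)
  have ht : t = 1 := by
    obtain ⟨κ, hκ⟩ : ∃ κ : F, κ = (t : F) ^ 2 := ⟨_, rfl⟩
    rw [← hκ] at e2
    have hκ1 : κ = 1 := by
      by_cases ha : a = 0
      · subst ha
        have hb : b ≠ 0 := fun hb => hab ⟨rfl, hb⟩
        have e3 := e2.2
        rw [h.zero_pow_s] at e3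
        have e4 : (κ ^ (2 ^ (m + 1) + 1) - 1) * b = 0 := by linear_combination e3
        rcases mul_eq_zero.1 e4 with h1 | h1
        · exact h.eq_one_of_pow_s_add_one (by linear_combination h1)
        · exact absurd h1 hb
      · have e3 := e2.1
        have e4 : (κ - 1) * a = 0 := by linear_combination e3
        rcases mul_eq_zero.1 e4 with h1 | h1
        · linear_combination h1
        · exact absurd h1 ha
    apply Units.ext
    apply h.sq_inj
    rw [← hκ, hκ1]; simp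
  exact ⟨c, d, by rw [hcdt, ht, szDG_one, mul_one]⟩

theorem szG_comm_D {x : Sz F m} {t : Fˣ} (ht : t ≠ 1)
    (hx : x * szDG h t = szDG h t * x) : ∃ t', x = szDG h t' := by
  have hx' : x.1 * szD (2 ^ (m + 1)) t = szD (2 ^ (m + 1)) t * x.1 := congrArg Subtype.val hx
  have two : ∀ p ∈ suzukiOvoid F m, szD (2 ^ (m + 1)) t • p = p →
      p = suzukiPointInfinity F ∨ p = szP (2 ^ (m + 1)) 0 0 := by
    intro p hp hfix
    rcases mem_suzukiOvoid_iff.1 hp with e | ⟨x, y, e⟩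
    · exact Or.inl e
    · right
      by_contra hne
      rw [e] at hfix
      apply ht
      apply szD_fix_imp h _ hfix
      rintro ⟨rfl, rfl⟩; exact hne e
  have hinf : x.1 • suzukiPointInfinity F = suzukiPointInfinity F := by
    rcases two _ (Sz_smul_mem x.2 (szInf_mem m))
      (by rw [← mul_smul, ← hx', mul_smul, szD_smul_inf]) with e | e
    · exact e
    · exact absurd (Sz_no_comm h x.2 e hx'.symm) ht
  have hzero : x.1 • szP (2 ^ (m + 1)) (0 : F) 0 = szP (2 ^ (m + 1)) 0 0 := by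
    rcases two _ (Sz_smul_mem x.2 (szP_mem (m := m) (0 : F) 0))
      (by rw [← mul_smul, ← hx', mul_smul, szD_smul_zero h]) with e | e
    · exfalso
      rw [← hinf] at e
      exact szP_ne_inf _ _ _ (smul_left_cancel _ e)
    · exact e
  exact szG_two_point h hinf hzero

include h in
theorem Sz_cover_data :
    ∃ (B : suzukiOvoid F m → Subgroup (Sz F m)) (u : suzukiOvoid F m → Sz F m) (d : Sz F m)
      (p0 : suzukiOvoid F m), (∀ p, B p ≠ ⊤) ∧ (∀ p, u p ≠ 1) ∧ d ≠ 1 ∧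
      (∀ p z, z ≠ 1 → z * u p = u p * z → ∀ a, a * z = z * a → a ∈ B p ∧ a ≠ d) ∧
      (∀ p p', u p ∈ B p' → p' = p) ∧
      (∀ z, z ≠ 1 → z * d = d * z → ∀ a, a * z = z * a → a ∈ B p0) := by
  have hγ : ∀ p : suzukiOvoid F m, ∃ g : Sz F m, g.1 • p.1 = suzukiPointInfinity F := by
    intro p
    obtain ⟨g, hg, e⟩ := Sz_to_inf h p.2
    exact ⟨⟨g, hg⟩, e⟩
  choose γ hγ using hγ
  obtain ⟨c, hc0, hc1⟩ := h.exists_ne
  obtain ⟨t0, ht0⟩ : ∃ t0 : Fˣ, t0 = Units.mk0 c hc0 := ⟨_, rfl⟩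
  have ht01 : t0 ≠ 1 := by
    intro hh
    rw [hh] at ht0
    exact hc1 (by simpa using (congrArg Units.val ht0).symm)
  have h01 : ¬ ((0 : F) = 0 ∧ (1 : F) = 0) := fun hh => one_ne_zero hh.2
  have h2 : ∀ p p' : suzukiOvoid F m,
      ((γ p)⁻¹ * szTG h 0 1 * γ p) ∈ MulAction.stabilizer (Sz F m) p'.1 → p' = p := by
    intro p p' hmem
    have e : ((γ p).1⁻¹ * szT (2 ^ (m + 1)) 0 1 * (γ p).1) • p'.1 = p'.1 := hmem
    rw [mul_smul, mul_smul, inv_smul_eq_iff] at e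
    apply Subtype.ext
    rcases mem_suzukiOvoid_iff.1 (Sz_smul_mem (γ p).2 p'.2) with e1 | ⟨x, y, e1⟩
    · rw [← hγ p] at e1
      exact smul_left_cancel _ e1
    · rw [e1] at e
      exact absurd (szT_fix_imp h e) h01
  refine ⟨fun p => MulAction.stabilizer (Sz F m) p.1, fun p => (γ p)⁻¹ * szTG h 0 1 * γ p,
    szDG h t0, szOInf F m, ?_, ?_, ?_, ?_, h2, ?_⟩
  · intro p hp
    dsimp only at hp
    have e1 := h2 (szOInf F m) p (by rw [hp]; trivial)
    have e2 := h2 ⟨szP (2 ^ (m + 1)) 0 0, szP_mem (m := m) (0 : F) 0⟩ p (by rw [hp]; trivial)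
    rw [e1] at e2
    exact szP_ne_inf _ _ _ (congrArg Subtype.val e2).symm
  · intro p hp
    dsimp only at hp
    have e : szTG h 0 1 = 1 := by
      have : szTG h 0 1 = γ p * ((γ p)⁻¹ * szTG h 0 1 * γ p) * (γ p)⁻¹ := by group
      rw [this, hp]; group
    rw [← szTG_zero h] at e
    exact one_ne_zero (szTG_inj h e).2
  · intro hh
    rw [← szDG_one h] at hh
    exact ht01 (szDG_inj h hh)
  · intro p z hz hzu a haz
    dsimp only at hzu ⊢
    obtain ⟨g, hg⟩ : ∃ g, g = γ p := ⟨_, rfl⟩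
    rw [← hg] at hzu
    have e1 : g * z * g⁻¹ * szTG h 0 1 = szTG h 0 1 * (g * z * g⁻¹) := by
      calc g * z * g⁻¹ * szTG h 0 1 = g * (z * (g⁻¹ * szTG h 0 1 * g)) * g⁻¹ := by group
        _ = g * ((g⁻¹ * szTG h 0 1 * g) * z) * g⁻¹ := by rw [hzu]
        _ = _ := by group
    obtain ⟨c1, d1, hz'⟩ := szG_comm_T h h01 e1
    have hcd : ¬ (c1 = 0 ∧ d1 = 0) := by
      rintro ⟨rfl, rfl⟩
      rw [szTG_zero] at hz'
      apply hz
      have : z = g⁻¹ * (g * z * g⁻¹) * g := by group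
      rw [this, hz']; group
    have e2 : g * a * g⁻¹ * szTG h c1 d1 = szTG h c1 d1 * (g * a * g⁻¹) := by
      rw [← hz']
      calc g * a * g⁻¹ * (g * z * g⁻¹) = g * (a * z) * g⁻¹ := by group
        _ = g * (z * a) * g⁻¹ := by rw [haz]
        _ = _ := by group
    obtain ⟨c2, d2, ha'⟩ := szG_comm_T h hcd e2
    have ha : a = g⁻¹ * szTG h c2 d2 * g := by
      rw [← ha']; group
    constructor
    · change a.1 • p.1 = p.1
      rw [ha]
      change (g.1⁻¹ * szT (2 ^ (m + 1)) c2 d2 * g.1) • p.1 = p.1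
      rw [mul_smul, mul_smul, hg, hγ p, szT_smul_inf, inv_smul_eq_iff, hγ p]
    · intro had
      have e4 : a ^ 4 = 1 := by
        have : a = g⁻¹ * szTG h c2 d2 * g⁻¹⁻¹ := by rw [inv_inv]; exact ha
        rw [this, conj_pow, szTG_pow_four]; group
      rw [had] at e4
      have e5 : szDG h (t0 ^ 4) = szDG h 1 := by
        rw [szDG_one, ← e4]; exact map_pow (szDGHom h) t0 4
      have e6 := szDG_inj h e5
      apply ht01
      apply szUnit_eq_one_of_mul_self h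
      apply szUnit_eq_one_of_mul_self h
      rw [← e6, pow_succ, pow_succ, pow_succ, pow_one]
      simp only [mul_assoc]
  · intro z hz hzd a haz
    obtain ⟨t1, hz'⟩ := szG_comm_D h ht01 hzd
    have ht1 : t1 ≠ 1 := by
      rintro rfl
      rw [szDG_one] at hz'
      exact hz hz'
    rw [hz'] at haz
    obtain ⟨t2, ha'⟩ := szG_comm_D h ht1 haz
    change a.1 • suzukiPointInfinity F = suzukiPointInfinity F
    rw [ha']
    exact szD_smul_inf _

include h in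
theorem Sz_no_nilpotent_minimal_cover {G : Type*} [Group G] (e : G ≃* Sz F m) :
    ¬ ∃ 𝓐 : Finset (Subgroup G), ((∀ A ∈ 𝓐, A ≠ ⊤) ∧ (∀ g : G, ∃ A ∈ 𝓐, g ∈ A)) ∧
      (∀ 𝓑 : Finset (Subgroup G), (∀ A ∈ 𝓑, A ≠ ⊤) ∧ (∀ g : G, ∃ A ∈ 𝓑, g ∈ A) →
        𝓐.card ≤ 𝓑.card) ∧ (∀ A ∈ 𝓐, Group.IsNilpotent ↥A) := by
  obtain ⟨B, u, d, p0, hB, hu1, hd1, h1, h2, h3⟩ := Sz_cover_data h
  have hfin : Finite (suzukiOvoid F m) := finite_suzukiOvoid.to_subtype
  have := Fintype.ofFinite (suzukiOvoid F m)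
  apply no_nilpotent_minimal_cover (Ω := suzukiOvoid F m)
    (fun p => (B p).comap e.toMonoidHom) ?_ (fun p => e.symm (u p)) (e.symm d) p0
  · intro p hp
    apply hu1 p
    rw [← e.apply_symm_apply (u p), hp, map_one]
  · intro hp
    apply hd1
    rw [← e.apply_symm_apply d, hp, map_one]
  · intro p z hz hzu a haz
    have hz' : e z ≠ 1 := fun hh => hz (e.injective (by rw [hh, map_one]))
    have e1 := congrArg e hzu
    rw [map_mul, map_mul, e.apply_symm_apply] at e1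
    have e2 := congrArg e haz
    rw [map_mul, map_mul] at e2
    obtain ⟨r1, r2⟩ := h1 p (e z) hz' e1 (e a) e2
    exact ⟨r1, fun hh => r2 (by rw [hh, e.apply_symm_apply])⟩
  · intro p p' hmem
    apply h2 p p'
    have : e (e.symm (u p)) ∈ B p' := hmem
    rwa [e.apply_symm_apply] at this
  · intro z hz hzd a haz
    have hz' : e z ≠ 1 := fun hh => hz (e.injective (by rw [hh, map_one]))
    have e1 := congrArg e hzd
    rw [map_mul, map_mul, e.apply_symm_apply] at e1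
    have e2 := congrArg e haz
    rw [map_mul, map_mul] at e2
    exact h3 (e z) hz' e1 (e a) e2
  · intro p hp
    apply hB p
    rw [eq_top_iff]
    intro x _
    have : e.symm x ∈ (B p).comap e.toMonoidHom := by rw [hp]; trivial
    have h5 : e (e.symm x) ∈ B p := this
    rwa [e.apply_symm_apply] at h5

end conc

end Cfsg.Agent.Lib.Helper18
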