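import Mathlib
import Cfsg.Agent.Lib.Helper18.NilCov1
import Cfsg.Agent.Lib.Helper18.SzCov1

/-! Nilpotent minimal covers: the two-element criterion, and cycles in symmetric groups. -/

set_option autoImplicit false

namespace Cfsg.Agent.Lib.Helper18

theorem no_nilp_min_cover_two {G : Type*} [Group G] (B : Subgroup G) (hB : B ≠ ⊤) (y1 y2 : G)
    (hin1 : ∀ A : Subgroup G, Group.IsNilpotent A → y1 ∈ A → A ≤ B)
    (hin2 : ∀ A : Subgroup G, Group.IsNilpotent A → y2 ∈ A → A ≤ B)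
    (hsep : ∀ A : Subgroup G, Group.IsNilpotent A → y1 ∈ A → y2 ∈ A → False) :
    ¬ ∃ 𝓐 : Finset (Subgroup G), ((∀ A ∈ 𝓐, A ≠ ⊤) ∧ (∀ g : G, ∃ A ∈ 𝓐, g ∈ A)) ∧
      (∀ 𝓑 : Finset (Subgroup G), (∀ A ∈ 𝓑, A ≠ ⊤) ∧ (∀ g : G, ∃ A ∈ 𝓑, g ∈ A) →
        𝓐.card ≤ 𝓑.card) ∧ (∀ A ∈ 𝓐, Group.IsNilpotent ↥A) := by
  apply no_nilp_min_cover_T0 (Ω := Unit) (I := Bool) (fun _ => B) (fun _ => hB)
    (fun b => cond b y1 y2)
  · simp
  · intro i A hA hi a ha
    cases i
    · exact ⟨(), hin2 A hA hi ha⟩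
    · exact ⟨(), hin1 A hA hi ha⟩
  · intro i j A hA hi hj
    cases i <;> cases j
    · rfl
    · exact (hsep A hA hj hi).elim
    · exact (hsep A hA hi hj).elim
    · rfl

theorem no_nilp_min_cover_sub {G : Type*} [Group G] (H B : Subgroup G)
    (hB : ∃ h ∈ H, h ∉ B) (y1 y2 : G) (h1 : y1 ∈ H) (h2 : y2 ∈ H)
    (hin1 : ∀ A : Subgroup G, A ≤ H → Group.IsNilpotent A → y1 ∈ A → A ≤ B)
    (hin2 : ∀ A : Subgroup G, A ≤ H → Group.IsNilpotent A → y2 ∈ A → A ≤ B)
    (hsep : ∀ A : Subgroup G, A ≤ H → Group.IsNilpotent A → y1 ∈ A → y2 ∈ A → False) :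
    ¬ ∃ 𝓐 : Finset (Subgroup H), ((∀ A ∈ 𝓐, A ≠ ⊤) ∧ (∀ g : H, ∃ A ∈ 𝓐, g ∈ A)) ∧
      (∀ 𝓑 : Finset (Subgroup H), (∀ A ∈ 𝓑, A ≠ ⊤) ∧ (∀ g : H, ∃ A ∈ 𝓑, g ∈ A) →
        𝓐.card ≤ 𝓑.card) ∧ (∀ A ∈ 𝓐, Group.IsNilpotent ↥A) := by
  have hn : ∀ A : Subgroup H, Group.IsNilpotent A → Group.IsNilpotent (A.map H.subtype) :=
    fun A hA => Group.nilpotent_of_mulEquiv (A.equivMapOfInjective H.subtype H.subtype_injective)
  apply no_nilp_min_cover_two (B.subgroupOf H) ?_ ⟨y1, h1⟩ ⟨y2, h2⟩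
  · intro A hA hy a ha
    rw [Subgroup.mem_subgroupOf]
    exact hin1 _ (Subgroup.map_subtype_le A) (hn A hA) ⟨_, hy, rfl⟩ ⟨a, ha, rfl⟩
  · intro A hA hy a ha
    rw [Subgroup.mem_subgroupOf]
    exact hin2 _ (Subgroup.map_subtype_le A) (hn A hA) ⟨_, hy, rfl⟩ ⟨a, ha, rfl⟩
  · intro A hA hy hy'
    exact hsep _ (Subgroup.map_subtype_le A) (hn A hA) ⟨_, hy, rfl⟩ ⟨_, hy', rfl⟩
  · intro hh
    obtain ⟨h, hH, hhB⟩ := hB
    apply hhB
    have : (⟨h, hH⟩ : H) ∈ B.subgroupOf H := by rw [hh]; trivial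
    exact Subgroup.mem_subgroupOf.1 this

open Equiv Equiv.Perm Pointwise

/-- A nilpotent group containing a long cycle stabilises the fixed-point set of that cycle. -/
theorem nilpotent_le_stabilizer_of_cycle {α : Type*} [Fintype α] [DecidableEq α]
    (c : Perm α) (hc : c.IsCycle) (F : Finset α) (hF : ∀ x, x ∈ F ↔ c x = x)
    (hcard : F.card < c.support.card)
    (A : Subgroup (Perm α)) (hA : Group.IsNilpotent A) (hcA : c ∈ A) :
    A ≤ MulAction.stabilizer (Perm α) (F : Set α) := by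
  apply nilpotent_le_of_selfnorm A _ hA hcA
  · rw [MulAction.mem_stabilizer_set' F.finite_toSet]
    intro b hb
    have hb' : c b = b := (hF b).1 hb
    change c b ∈ (F : Set α)
    rw [hb']; exact hb
  · intro g hg
    rw [MulAction.mem_stabilizer_set' F.finite_toSet]
    intro x hx
    change g x ∈ (F : Set α)
    by_contra hgx
    have hgx' : c (g x) ≠ g x := fun h => hgx ((hF _).2 h)
    have hsub : c.support ⊆ F.image g := by
      intro t ht
      obtain ⟨k, hk⟩ := hc.exists_zpow_eq hgx' (Equiv.Perm.mem_support.1 ht)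
      have h1 : (g⁻¹ * c * g) ^ k ∈ MulAction.stabilizer (Perm α) (F : Set α) := zpow_mem hg k
      have h2 := (MulAction.mem_stabilizer_set.1 h1 x).2 hx
      have h3 : (g⁻¹ * c * g) ^ k = g⁻¹ * c ^ k * g := by
        have := conj_zpow (a := g⁻¹) (b := c) (i := k)
        rw [inv_inv] at this
        exact this
      rw [Finset.mem_image]
      refine ⟨((g⁻¹ * c * g) ^ k) x, h2, ?_⟩
      rw [h3, ← hk]
      simp
    have := Finset.card_le_card hsub
    have h4 := Finset.card_image_le (s := F) (f := g)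
    omega

/-- A permutation commuting with a cycle `c` of length at least 4 and with its conjugate under
the transposition `(a, c a)` fixes the support of `c` pointwise. -/
theorem fix_support_of_commute_cycle_conj {α : Type*} [Fintype α] [DecidableEq α]
    (c : Perm α) (hc : c.IsCycle) (a0 : α) (h1 : c a0 ≠ a0) (h2 : c (c a0) ≠ a0)
    (h3 : c (c (c a0)) ≠ a0) (z : Perm α) (hz : z * c = c * z)
    (hz' : z * (swap a0 (c a0) * c * (swap a0 (c a0))⁻¹) =
      (swap a0 (c a0) * c * (swap a0 (c a0))⁻¹) * z) :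
    ∀ x, c x ≠ x → z x = x := by
  have hz1 : ∀ x, z (c x) = c (z x) := fun x => by
    have := congrArg (fun f : Perm α => f x) hz
    simpa using this
  have hz2 : ∀ x, z (swap a0 (c a0) (c (swap a0 (c a0) x))) =
      swap a0 (c a0) (c (swap a0 (c a0) (z x))) := fun x => by
    have := congrArg (fun f : Perm α => f x) hz'
    simpa using this
  have h21 : c (c a0) ≠ c a0 := fun h => h1 (c.injective h)
  have e1 := hz2 a0
  rw [swap_apply_left, swap_apply_of_ne_of_ne h2 h21, hz1, hz1] at e1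
  have e2 := hz2 (c a0)
  rw [swap_apply_right, swap_apply_right, hz1] at e2
  have hw : z a0 = a0 := by
    by_cases c1 : z a0 = a0
    · exact c1
    by_cases c2 : z a0 = c a0
    · rw [c2, swap_apply_right, swap_apply_right] at e1
      exact (h3 e1).elim
    by_cases c3 : c (z a0) = a0
    · rw [c3, swap_apply_left, swap_apply_of_ne_of_ne h2 h21] at e2
      rw [e2] at c3
      exact (h3 c3).elim
    · have c4 : c (z a0) ≠ c a0 := fun h => c1 (c.injective h)
      rw [swap_apply_of_ne_of_ne c1 c2, swap_apply_of_ne_of_ne c3 c4] at e1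
      have e3 : c (z a0) = z a0 := c.injective e1
      rw [← hz1] at e3
      exact (h1 (z.injective e3)).elim
  intro x hx
  obtain ⟨k, hk⟩ := hc.exists_zpow_eq h1 hx
  have hcom : Commute z (c ^ k) := Commute.zpow_right hz k
  have := congrArg (fun f : Perm α => f a0) hcom.eq
  simp only [Perm.mul_apply] at this
  rw [hk, hw, hk] at this
  exact this

end Cfsg.Agent.Lib.Helper18
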