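import Mathlib
import Cfsg.Agent.Lib.Helper18.NilCov9

/-! Symmetric and alternating groups have no nilpotent minimal cover (generic part). -/

set_option autoImplicit false

namespace Cfsg.Agent.Lib.Helper18

open Equiv Equiv.Perm Pointwise

section
variable {α : Type*} [Fintype α] [DecidableEq α]

theorem conj_swap_fix_iff (c : Perm α) (a0 : α) (h1 : c a0 ≠ a0) (x : α) :
    (swap a0 (c a0) * c * (swap a0 (c a0))⁻¹) x = x ↔ c x = x := by
  have h21 : c (c a0) ≠ c a0 := fun h => h1 (c.injective h)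
  have e : (swap a0 (c a0) * c * (swap a0 (c a0))⁻¹) x = x ↔
      c (swap a0 (c a0) x) = swap a0 (c a0) x := by
    simp only [Perm.mul_apply, swap_inv]
    constructor
    · intro h
      have := congrArg (swap a0 (c a0)) h
      rwa [swap_apply_self] at this
    · intro h
      rw [h, swap_apply_self]
  rw [e]
  by_cases c1 : x = a0
  · subst c1
    rw [swap_apply_left]
    exact ⟨fun h => (h21 h).elim, fun h => (h1 h).elim⟩
  by_cases c2 : x = c a0
  · rw [c2, swap_apply_right]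
    exact ⟨fun h => (h1 h).elim, fun h => (h21 h).elim⟩
  rw [swap_apply_of_ne_of_ne c1 c2]

/-- common data for the two final statements -/
theorem cycle_pair_data (c : Perm α) (hc : c.IsCycle) (a0 : α) (h1 : c a0 ≠ a0)
    (h2 : c (c a0) ≠ a0) (h3 : c (c (c a0)) ≠ a0) (p : α) (hp : c p = p)
    (F : Finset α) (hF : ∀ x, x ∈ F ↔ c x = x) (hcard : F.card < c.support.card) :
    (∀ A : Subgroup (Perm α), Group.IsNilpotent A → c ∈ A →
      A ≤ MulAction.stabilizer (Perm α) (F : Set α)) ∧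
    (∀ A : Subgroup (Perm α), Group.IsNilpotent A →
      (swap a0 (c a0) * c * (swap a0 (c a0))⁻¹) ∈ A →
      A ≤ MulAction.stabilizer (Perm α) (F : Set α)) ∧
    (∀ A : Subgroup (Perm α), Group.IsNilpotent A → c ∈ A →
      (swap a0 (c a0) * c * (swap a0 (c a0))⁻¹) ∈ A →
      ∃ z ∈ A, z ≠ 1 ∧ z.support ⊆ F) ∧
    (swap p a0 * swap a0 (c a0) ∉ MulAction.stabilizer (Perm α) (F : Set α)) := by
  refine ⟨fun A hA hcA => nilpotent_le_stabilizer_of_cycle c hc F hF hcard A hA hcA,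
    fun A hA hcA => nilpotent_le_stabilizer_of_cycle _ hc.conj F
      (fun x => by rw [hF, conj_swap_fix_iff c a0 h1]) (by rw [card_support_conj]; exact hcard)
      A hA hcA, ?_, ?_⟩
  · intro A hA hcA hcA'
    have hc1 : c ≠ 1 := fun h => h1 (by rw [h]; rfl)
    obtain ⟨z, hzA, hz1, hz⟩ := exists_central_of_nilpotent A hA hcA hc1
    refine ⟨z, hzA, hz1, ?_⟩
    have hfix := fix_support_of_commute_cycle_conj c hc a0 h1 h2 h3 z (hz c hcA).symm
      (hz _ hcA').symm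
    intro x hx
    rw [hF]
    by_contra hcx
    exact (Equiv.Perm.mem_support.1 hx) (hfix x hcx)
  · intro hmem
    have h := (MulAction.mem_stabilizer_set.1 hmem (c a0)).1
    have e : (swap p a0 * swap a0 (c a0)) • (c a0) = p := by
      change (swap p a0 * swap a0 (c a0)) (c a0) = p
      rw [Perm.mul_apply, swap_apply_right, swap_apply_right]
    rw [e] at h
    have h5 : c a0 ∈ F := h ((hF p).2 hp)
    exact h1 (c.injective ((hF _).1 h5))

theorem perm_no_nilp_min_cover_of_cycle (c : Perm α) (hc : c.IsCycle) (a0 : α) (h1 : c a0 ≠ a0)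
    (h2 : c (c a0) ≠ a0) (h3 : c (c (c a0)) ≠ a0) (p : α) (hp : c p = p)
    (F : Finset α) (hF : ∀ x, x ∈ F ↔ c x = x) (hcard : F.card < c.support.card)
    (hF1 : F.card ≤ 1) :
    ¬ ∃ 𝓐 : Finset (Subgroup (Perm α)), ((∀ A ∈ 𝓐, A ≠ ⊤) ∧ (∀ g : Perm α, ∃ A ∈ 𝓐, g ∈ A)) ∧
      (∀ 𝓑 : Finset (Subgroup (Perm α)), (∀ A ∈ 𝓑, A ≠ ⊤) ∧ (∀ g : Perm α, ∃ A ∈ 𝓑, g ∈ A) →
        𝓐.card ≤ 𝓑.card) ∧ (∀ A ∈ 𝓐, Group.IsNilpotent ↥A) := by
  obtain ⟨d1, d2, d3, d4⟩ := cycle_pair_data c hc a0 h1 h2 h3 p hp F hF hcard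
  apply no_nilp_min_cover_two (MulAction.stabilizer (Perm α) (F : Set α)) ?_ c
    (swap a0 (c a0) * c * (swap a0 (c a0))⁻¹) d1 d2
  · intro A hA hcA hcA'
    obtain ⟨z, _, hz1, hz⟩ := d3 A hA hcA hcA'
    exact hz1 (card_support_le_one.1 ((Finset.card_le_card hz).trans hF1))
  · intro hh
    apply d4
    rw [hh]; trivial

theorem alt_no_nilp_min_cover_of_cycle (c : Perm α) (hc : c.IsCycle) (a0 : α) (h1 : c a0 ≠ a0)
    (h2 : c (c a0) ≠ a0) (h3 : c (c (c a0)) ≠ a0) (p : α) (hp : c p = p)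
    (F : Finset α) (hF : ∀ x, x ∈ F ↔ c x = x) (hcard : F.card < c.support.card)
    (hF2 : F.card ≤ 2) (hs : sign c = 1) :
    ¬ ∃ 𝓐 : Finset (Subgroup (alternatingGroup α)),
      ((∀ A ∈ 𝓐, A ≠ ⊤) ∧ (∀ g : alternatingGroup α, ∃ A ∈ 𝓐, g ∈ A)) ∧
      (∀ 𝓑 : Finset (Subgroup (alternatingGroup α)),
        (∀ A ∈ 𝓑, A ≠ ⊤) ∧ (∀ g : alternatingGroup α, ∃ A ∈ 𝓑, g ∈ A) →
        𝓐.card ≤ 𝓑.card) ∧ (∀ A ∈ 𝓐, Group.IsNilpotent ↥A) := by
  obtain ⟨d1, d2, d3, d4⟩ := cycle_pair_data c hc a0 h1 h2 h3 p hp F hF hcard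
  have hpa : p ≠ a0 := fun h => h1 (by rw [← h]; exact hp)
  apply no_nilp_min_cover_sub (alternatingGroup α) (MulAction.stabilizer (Perm α) (F : Set α))
    ⟨_, ?_, d4⟩ c (swap a0 (c a0) * c * (swap a0 (c a0))⁻¹) ?_ ?_
    (fun A _ => d1 A) (fun A _ => d2 A)
  · intro A hAH hA hcA hcA'
    obtain ⟨z, hzA, hz1, hz⟩ := d3 A hA hcA hcA'
    have hzs : sign z = 1 := Equiv.Perm.mem_alternatingGroup.1 (hAH hzA)
    have h5 := (Finset.card_le_card hz).trans hF2
    rcases Nat.lt_or_ge z.support.card 2 with h6 | h6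
    · exact hz1 (card_support_le_one.1 (by omega))
    · have h7 := (card_support_eq_two.1 (le_antisymm h5 h6)).sign_eq
      rw [hzs] at h7
      exact absurd h7 (by decide)
  · rw [Equiv.Perm.mem_alternatingGroup, Perm.sign_mul, sign_swap hpa, sign_swap (Ne.symm h1)]
    decide
  · exact Equiv.Perm.mem_alternatingGroup.2 hs
  · rw [Equiv.Perm.mem_alternatingGroup, Perm.sign_mul, Perm.sign_mul, sign_inv, sign_swap (Ne.symm h1), hs]
    decide

end

end Cfsg.Agent.Lib.Helper18
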