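import Mathlib
import Cfsg.Agent.Lib.Helper18.NilCov10

/-! Symmetric and alternating groups have no nilpotent minimal cover (concrete part). -/

set_option autoImplicit false

namespace Cfsg.Agent.Lib.Helper18

open Equiv Equiv.Perm Pointwise

theorem cycleRange_data (n i : ℕ) (hi3 : 3 ≤ i) (hin : i + 1 < n) :
    ∃ (c : Perm (Fin n)) (a0 p : Fin n) (F : Finset (Fin n)), c.IsCycle ∧ c a0 ≠ a0 ∧
      c (c a0) ≠ a0 ∧ c (c (c a0)) ≠ a0 ∧ c p = p ∧ (∀ x, x ∈ F ↔ c x = x) ∧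
      F.card = n - (i + 1) ∧ c.support.card = i + 1 ∧ sign c = (-1) ^ i := by
  have hn : NeZero n := ⟨by omega⟩
  obtain ⟨j, hj⟩ : ∃ j : Fin n, j = ⟨i, by omega⟩ := ⟨_, rfl⟩
  have hjv : j.val = i := by rw [hj]
  have hj0 : j ≠ 0 := by
    intro h
    have := congrArg Fin.val h
    rw [hjv] at this
    simp at this
    omega
  obtain ⟨a0, ha0⟩ : ∃ a : Fin n, a = ⟨0, by omega⟩ := ⟨_, rfl⟩
  have hav : a0.val = 0 := by rw [ha0]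
  have e1 : (Fin.cycleRange j a0).val = 1 := by
    rw [Fin.coe_cycleRange_of_lt (Fin.lt_def.2 (by omega)), hav]
  have e2 : (Fin.cycleRange j (Fin.cycleRange j a0)).val = 2 := by
    rw [Fin.coe_cycleRange_of_lt (Fin.lt_def.2 (by omega)), e1]
  have e3 : (Fin.cycleRange j (Fin.cycleRange j (Fin.cycleRange j a0))).val = 3 := by
    rw [Fin.coe_cycleRange_of_lt (Fin.lt_def.2 (by omega)), e2]
  have hsupp : (Fin.cycleRange j).support.card = i + 1 := by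
    rw [← sum_cycleType, Fin.cycleType_cycleRange hj0, hjv]
    simp
  refine ⟨Fin.cycleRange j, a0, ⟨n - 1, by omega⟩, (Fin.cycleRange j).supportᶜ,
    Fin.isCycle_cycleRange hj0, ?_, ?_, ?_, ?_, ?_, ?_, hsupp, ?_⟩
  · intro h; have := congrArg Fin.val h; omega
  · intro h; have := congrArg Fin.val h; omega
  · intro h; have := congrArg Fin.val h; omega
  · apply Fin.cycleRange_of_gt
    rw [Fin.lt_def]
    change j.val < n - 1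
    omega
  · intro x
    simp
  · rw [Finset.card_compl, hsupp, Fintype.card_fin]
  · rw [Fin.sign_cycleRange, hjv]

theorem perm_fin_no_nilp_min_cover (n : ℕ) (hn : 5 ≤ n) :
    ¬ ∃ 𝓐 : Finset (Subgroup (Perm (Fin n))),
      ((∀ A ∈ 𝓐, A ≠ ⊤) ∧ (∀ g : Perm (Fin n), ∃ A ∈ 𝓐, g ∈ A)) ∧
      (∀ 𝓑 : Finset (Subgroup (Perm (Fin n))),
        (∀ A ∈ 𝓑, A ≠ ⊤) ∧ (∀ g : Perm (Fin n), ∃ A ∈ 𝓑, g ∈ A) →
        𝓐.card ≤ 𝓑.card) ∧ (∀ A ∈ 𝓐, Group.IsNilpotent ↥A) := by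
  obtain ⟨c, a0, p, F, hc, h1, h2, h3, hp, hF, hFc, hs, _⟩ :=
    cycleRange_data n (n - 2) (by omega) (by omega)
  exact perm_no_nilp_min_cover_of_cycle c hc a0 h1 h2 h3 p hp F hF (by omega) (by omega)

theorem alt_fin_no_nilp_min_cover (n : ℕ) (hn : 6 ≤ n) :
    ¬ ∃ 𝓐 : Finset (Subgroup (alternatingGroup (Fin n))),
      ((∀ A ∈ 𝓐, A ≠ ⊤) ∧ (∀ g : alternatingGroup (Fin n), ∃ A ∈ 𝓐, g ∈ A)) ∧
      (∀ 𝓑 : Finset (Subgroup (alternatingGroup (Fin n))),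
        (∀ A ∈ 𝓑, A ≠ ⊤) ∧ (∀ g : alternatingGroup (Fin n), ∃ A ∈ 𝓑, g ∈ A) →
        𝓐.card ≤ 𝓑.card) ∧ (∀ A ∈ 𝓐, Group.IsNilpotent ↥A) := by
  obtain ⟨c, a0, p, F, hc, h1, h2, h3, hp, hF, hFc, hs, hsg⟩ :=
    cycleRange_data n (2 * ((n - 2) / 2)) (by omega) (by omega)
  exact alt_no_nilp_min_cover_of_cycle c hc a0 h1 h2 h3 p hp F hF (by omega) (by omega)
    (by rw [hsg, pow_mul]; simp)

/-- criterion through double centralisers -/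
theorem no_nilp_min_cover_sub_central {G : Type*} [Group G] (H B : Subgroup G)
    (hB : ∃ h ∈ H, h ∉ B) (y1 y2 : G) (h1 : y1 ∈ H) (h2 : y2 ∈ H) (hy1 : y1 ≠ 1) (hy2 : y2 ≠ 1)
    (hin1 : ∀ z ∈ H, z ≠ 1 → z * y1 = y1 * z → ∀ a ∈ H, a * z = z * a → a ∈ B)
    (hin2 : ∀ z ∈ H, z ≠ 1 → z * y2 = y2 * z → ∀ a ∈ H, a * z = z * a → a ∈ B)
    (hsep : ∀ z ∈ H, z ≠ 1 → z * y1 = y1 * z → z * y2 = y2 * z → False) :
    ¬ ∃ 𝓐 : Finset (Subgroup H), ((∀ A ∈ 𝓐, A ≠ ⊤) ∧ (∀ g : H, ∃ A ∈ 𝓐, g ∈ A)) ∧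
      (∀ 𝓑 : Finset (Subgroup H), (∀ A ∈ 𝓑, A ≠ ⊤) ∧ (∀ g : H, ∃ A ∈ 𝓑, g ∈ A) →
        𝓐.card ≤ 𝓑.card) ∧ (∀ A ∈ 𝓐, Group.IsNilpotent ↥A) := by
  apply no_nilp_min_cover_sub H B hB y1 y2 h1 h2
  · intro A hAH hA hy a ha
    obtain ⟨z, hzA, hz1, hz⟩ := exists_central_of_nilpotent A hA hy hy1
    exact hin1 z (hAH hzA) hz1 (hz _ hy).symm a (hAH ha) (hz a ha)
  · intro A hAH hA hy a ha
    obtain ⟨z, hzA, hz1, hz⟩ := exists_central_of_nilpotent A hA hy hy2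
    exact hin2 z (hAH hzA) hz1 (hz _ hy).symm a (hAH ha) (hz a ha)
  · intro A hAH hA hy hy'
    obtain ⟨z, hzA, hz1, hz⟩ := exists_central_of_nilpotent A hA hy hy1
    exact hsep z (hAH hzA) hz1 (hz _ hy).symm (hz _ hy').symm

theorem no_nilp_min_cover_central {G : Type*} [Group G] (B : Subgroup G)
    (hB : ∃ h, h ∉ B) (y1 y2 : G) (hy1 : y1 ≠ 1) (hy2 : y2 ≠ 1)
    (hin1 : ∀ z, z ≠ 1 → z * y1 = y1 * z → ∀ a, a * z = z * a → a ∈ B)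
    (hin2 : ∀ z, z ≠ 1 → z * y2 = y2 * z → ∀ a, a * z = z * a → a ∈ B)
    (hsep : ∀ z, z ≠ 1 → z * y1 = y1 * z → z * y2 = y2 * z → False) :
    ¬ ∃ 𝓐 : Finset (Subgroup G), ((∀ A ∈ 𝓐, A ≠ ⊤) ∧ (∀ g : G, ∃ A ∈ 𝓐, g ∈ A)) ∧
      (∀ 𝓑 : Finset (Subgroup G), (∀ A ∈ 𝓑, A ≠ ⊤) ∧ (∀ g : G, ∃ A ∈ 𝓑, g ∈ A) →
        𝓐.card ≤ 𝓑.card) ∧ (∀ A ∈ 𝓐, Group.IsNilpotent ↥A) := by
  apply no_nilp_min_cover_two B ?_ y1 y2
  · intro A hA hy a ha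
    obtain ⟨z, hzA, hz1, hz⟩ := exists_central_of_nilpotent A hA hy hy1
    exact hin1 z hz1 (hz _ hy).symm a (hz a ha)
  · intro A hA hy a ha
    obtain ⟨z, hzA, hz1, hz⟩ := exists_central_of_nilpotent A hA hy hy2
    exact hin2 z hz1 (hz _ hy).symm a (hz a ha)
  · intro A hA hy hy'
    obtain ⟨z, hzA, hz1, hz⟩ := exists_central_of_nilpotent A hA hy hy1
    exact hsep z hz1 (hz _ hy).symm (hz _ hy').symm
  · intro hh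
    obtain ⟨h, hhB⟩ := hB
    apply hhB
    rw [hh]; trivial

set_option maxRecDepth 100000 in
theorem perm_four_no_nilp_min_cover :
    ¬ ∃ 𝓐 : Finset (Subgroup (Perm (Fin 4))),
      ((∀ A ∈ 𝓐, A ≠ ⊤) ∧ (∀ g : Perm (Fin 4), ∃ A ∈ 𝓐, g ∈ A)) ∧
      (∀ 𝓑 : Finset (Subgroup (Perm (Fin 4))),
        (∀ A ∈ 𝓑, A ≠ ⊤) ∧ (∀ g : Perm (Fin 4), ∃ A ∈ 𝓑, g ∈ A) →
        𝓐.card ≤ 𝓑.card) ∧ (∀ A ∈ 𝓐, Group.IsNilpotent ↥A) := by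
  apply no_nilp_min_cover_central (alternatingGroup (Fin 4)) ⟨swap 0 1, ?_⟩
    (swap 0 1 * swap 1 2) (swap 0 1 * swap 1 3)
  · decide
  · decide
  · simp only [Equiv.Perm.mem_alternatingGroup]
    decide
  · simp only [Equiv.Perm.mem_alternatingGroup]
    decide
  · decide
  · rw [Equiv.Perm.mem_alternatingGroup]
    decide

end Cfsg.Agent.Lib.Helper18
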