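import Mathlib
import Cfsg.Agent.Lib.Helper18.NilCov11

/-! `A_5` has no nilpotent minimal cover. -/

set_option autoImplicit false

namespace Cfsg.Agent.Lib.Helper18

open Equiv Equiv.Perm

set_option maxRecDepth 1000000 in
theorem alt_five_aux1 : ∀ z : Perm (Fin 5), (sign z = 1 ∧ z ≠ 1 ∧
    z * (swap 0 1 * swap 1 2) = (swap 0 1 * swap 1 2) * z) →
    ∀ a : Perm (Fin 5), (sign a = 1 ∧ a * z = z * a) → a 4 = 4 := by
  decide

set_option maxRecDepth 1000000 in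
theorem alt_five_aux2 : ∀ z : Perm (Fin 5), (sign z = 1 ∧ z ≠ 1 ∧
    z * (swap 0 1 * swap 1 3) = (swap 0 1 * swap 1 3) * z) →
    ∀ a : Perm (Fin 5), (sign a = 1 ∧ a * z = z * a) → a 4 = 4 := by
  decide

set_option maxRecDepth 1000000 in
theorem alt_five_aux3 : ∀ z : Perm (Fin 5), sign z = 1 → z ≠ 1 →
    z * (swap 0 1 * swap 1 2) = (swap 0 1 * swap 1 2) * z →
    z * (swap 0 1 * swap 1 3) = (swap 0 1 * swap 1 3) * z → False := by
  decide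

theorem alt_five_no_nilp_min_cover :
    ¬ ∃ 𝓐 : Finset (Subgroup (alternatingGroup (Fin 5))),
      ((∀ A ∈ 𝓐, A ≠ ⊤) ∧ (∀ g : alternatingGroup (Fin 5), ∃ A ∈ 𝓐, g ∈ A)) ∧
      (∀ 𝓑 : Finset (Subgroup (alternatingGroup (Fin 5))),
        (∀ A ∈ 𝓑, A ≠ ⊤) ∧ (∀ g : alternatingGroup (Fin 5), ∃ A ∈ 𝓑, g ∈ A) →
        𝓐.card ≤ 𝓑.card) ∧ (∀ A ∈ 𝓐, Group.IsNilpotent ↥A) := by
  apply no_nilp_min_cover_sub_central (alternatingGroup (Fin 5))
    (MulAction.stabilizer (Perm (Fin 5)) (4 : Fin 5)) ⟨swap 0 1 * swap 1 4, ?_, ?_⟩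
    (swap 0 1 * swap 1 2) (swap 0 1 * swap 1 3)
  · rw [Equiv.Perm.mem_alternatingGroup]; decide
  · rw [Equiv.Perm.mem_alternatingGroup]; decide
  · decide
  · decide
  · intro z hz hz1 hzy a ha haz
    rw [MulAction.mem_stabilizer_iff]
    exact alt_five_aux1 z ⟨Equiv.Perm.mem_alternatingGroup.1 hz, hz1, hzy⟩ a
      ⟨Equiv.Perm.mem_alternatingGroup.1 ha, haz⟩
  · intro z hz hz1 hzy a ha haz
    rw [MulAction.mem_stabilizer_iff]
    exact alt_five_aux2 z ⟨Equiv.Perm.mem_alternatingGroup.1 hz, hz1, hzy⟩ a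
      ⟨Equiv.Perm.mem_alternatingGroup.1 ha, haz⟩
  · intro z hz hz1 hzy hzy'
    exact alt_five_aux3 z (Equiv.Perm.mem_alternatingGroup.1 hz) hz1 hzy hzy'
  · rw [Equiv.Perm.mem_alternatingGroup]; decide
  · rw [MulAction.mem_stabilizer_iff]
    decide

end Cfsg.Agent.Lib.Helper18
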