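import Mathlib
import Cfsg.Agent.Lib.Helper18.NilCov1

/-! Nilpotent minimal covers: the criterion for a conjugacy class of self-normalising subgroups. -/

set_option autoImplicit false

namespace Cfsg.Agent.Lib.Helper18

section

variable {L : Type*} [Group L]

/-- `x ∈ S`, and `x` lies in no other conjugate of `S` (and `S` is self-normalising). -/
def SelfNorm (x : L) (S : Subgroup L) : Prop := x ∈ S ∧ ∀ g : L, g⁻¹ * x * g ∈ S → g ∈ S

/-- the conjugate `k S k⁻¹` -/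
def conjS (k : L) (S : Subgroup L) : Subgroup L := S.comap (MulAut.conj k⁻¹).toMonoidHom

theorem mem_conjS {k y : L} {S : Subgroup L} : y ∈ conjS k S ↔ k⁻¹ * y * k ∈ S := by
  simp [conjS, Subgroup.mem_comap]

theorem conjS_of_mem {k : L} {S : Subgroup L} (hk : k ∈ S) : conjS k S = S := by
  ext y
  rw [mem_conjS]
  constructor
  · intro h
    have : y = k * (k⁻¹ * y * k) * k⁻¹ := by group
    rw [this]
    exact mul_mem (mul_mem hk h) (inv_mem hk)
  · intro h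
    exact mul_mem (mul_mem (inv_mem hk) h) hk

theorem SelfNorm.conj {x : L} {S : Subgroup L} (h : SelfNorm x S) (k : L) :
    SelfNorm (k * x * k⁻¹) (conjS k S) := by
  constructor
  · rw [mem_conjS]
    have : k⁻¹ * (k * x * k⁻¹) * k = x := by group
    rw [this]; exact h.1
  · intro g hg
    rw [mem_conjS] at hg ⊢
    apply h.2
    have : (k⁻¹ * g * k)⁻¹ * x * (k⁻¹ * g * k) = k⁻¹ * (g⁻¹ * (k * x * k⁻¹) * g) * k := by group
    rw [this]; exact hg

theorem SelfNorm.le {x : L} {S : Subgroup L} (h : SelfNorm x S) (A : Subgroup L)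
    (hA : Group.IsNilpotent A) (hx : x ∈ A) : A ≤ S :=
  nilpotent_le_of_selfnorm A S hA hx h.1 h.2

theorem SelfNorm.mem_of_conj_mem {x : L} {S : Subgroup L} (h : SelfNorm x S) {k : L}
    (hk : k * x * k⁻¹ ∈ S) : k ∈ S := by
  have : k⁻¹ ∈ S := h.2 k⁻¹ (by rw [inv_inv]; exact hk)
  simpa using inv_mem this

theorem SelfNorm.comap_of_inv {x : L} {S : Subgroup L} (h : SelfNorm x S) (δ : L →* L)
    (hδ : δ x = x⁻¹) : SelfNorm x (S.comap δ) := by
  constructor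
  · rw [Subgroup.mem_comap, hδ]; exact inv_mem h.1
  · intro g hg
    rw [Subgroup.mem_comap] at hg ⊢
    apply h.2
    have h1 := inv_mem hg
    have : ((δ (g⁻¹ * x * g))⁻¹ : L) = (δ g)⁻¹ * x * δ g := by
      rw [map_mul, map_mul, map_inv, hδ]; group
    rw [this] at h1; exact h1

theorem no_nilp_min_cover_conj [Finite L] (G : Subgroup (L ⧸ Subgroup.center L))
    (S0 : Subgroup L) (hZ : Subgroup.center L ≤ S0) (u : L) (hu : SelfNorm u S0)
    (huG : ∀ k : L, ((k * u * k⁻¹ : L) : L ⧸ Subgroup.center L) ∈ G)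
    (w : L) (hw : w ∉ S0) (x' : L → L)
    (hx'G : ∀ k0 ∈ S0, ((x' k0 : L) : L ⧸ Subgroup.center L) ∈ G)
    (hin : ∀ k0 ∈ S0, ∀ A : Subgroup L, Group.IsNilpotent A →
      (∀ a ∈ A, (a : L ⧸ Subgroup.center L) ∈ G) → x' k0 ∈ A → ∀ a ∈ A, ∃ k, a ∈ conjS k S0)
    (hsep : ∀ k0 ∈ S0, ∀ A : Subgroup L, Group.IsNilpotent A → x' k0 ∈ A →
      ∀ k, k * u * k⁻¹ ∈ A → (k = k0 ∨ conjS k S0 ≠ S0) → False) :
    ¬ ∃ 𝓐 : Finset (Subgroup G), ((∀ A ∈ 𝓐, A ≠ ⊤) ∧ (∀ g : G, ∃ A ∈ 𝓐, g ∈ A)) ∧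
      (∀ 𝓑 : Finset (Subgroup G), (∀ A ∈ 𝓑, A ≠ ⊤) ∧ (∀ g : G, ∃ A ∈ 𝓑, g ∈ A) →
        𝓐.card ≤ 𝓑.card) ∧ (∀ A ∈ 𝓐, Group.IsNilpotent ↥A) := by
  classical
  have := Fintype.ofFinite {S : Subgroup L // ∃ k, S = conjS k S0}
  have hk : ∀ p : {S : Subgroup L // ∃ k, S = conjS k S0}, ∃ k, p.1 = conjS k S0 := fun p => p.2
  choose κ hκ using hk
  obtain ⟨p0, hp0⟩ : ∃ p0 : {S : Subgroup L // ∃ k, S = conjS k S0}, p0.1 = S0 :=
    ⟨⟨S0, 1, (conjS_of_mem (one_mem _)).symm⟩, rfl⟩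
  have hκ0 : κ p0 ∈ S0 := by
    apply hu.mem_of_conj_mem
    have h1 := (hu.conj (κ p0)).1
    rw [← hκ p0, hp0] at h1
    exact h1
  have huniq : ∀ p p' : {S : Subgroup L // ∃ k, S = conjS k S0},
      κ p * u * (κ p)⁻¹ ∈ p'.1 → p' = p := by
    intro p p' hmem
    rw [hκ p', mem_conjS] at hmem
    have h1 : (κ p)⁻¹ * κ p' ∈ S0 := by
      apply hu.2
      have : ((κ p)⁻¹ * κ p')⁻¹ * u * ((κ p)⁻¹ * κ p') =
          (κ p')⁻¹ * (κ p * u * (κ p)⁻¹) * κ p' := by group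
      rw [this]; exact hmem
    apply Subtype.ext
    rw [hκ p, hκ p']
    ext y
    rw [mem_conjS, mem_conjS]
    constructor
    · intro h
      have : (κ p)⁻¹ * y * κ p =
          ((κ p)⁻¹ * κ p') * ((κ p')⁻¹ * y * κ p') * ((κ p)⁻¹ * κ p')⁻¹ := by group
      rw [this]
      exact mul_mem (mul_mem h1 h) (inv_mem h1)
    · intro h
      have : (κ p')⁻¹ * y * κ p' =
          ((κ p)⁻¹ * κ p')⁻¹ * ((κ p)⁻¹ * y * κ p) * ((κ p)⁻¹ * κ p') := by group
      rw [this]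
      exact mul_mem (mul_mem (inv_mem h1) h) h1
  have hle : ∀ (p : {S : Subgroup L // ∃ k, S = conjS k S0}) (A : Subgroup L),
      Group.IsNilpotent A → κ p * u * (κ p)⁻¹ ∈ A → A ≤ p.1 := by
    intro p A hA hx
    rw [hκ p]
    exact (hu.conj (κ p)).le A hA hx
  apply no_nilp_min_cover_T G (Ω := {S : Subgroup L // ∃ k, S = conjS k S0})
    (I := Option {S : Subgroup L // ∃ k, S = conjS k S0}) (fun p => p.1) ?_ ?_
    (fun o => o.elim (x' (κ p0)) (fun p => κ p * u * (κ p)⁻¹)) ?_ (by simp)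
  · -- hin
    rintro (_ | p) A hA hAG hx a ha
    · obtain ⟨k, hk⟩ := hin (κ p0) hκ0 A hA hAG hx a ha
      exact ⟨⟨_, k, rfl⟩, hk⟩
    · exact ⟨p, hle p A hA hx ha⟩
  · -- hsep
    rintro (_ | p) (_ | p') A hA hx hx'
    · rfl
    · exfalso
      apply hsep (κ p0) hκ0 A hA hx (κ p') hx'
      by_cases hpp : p' = p0
      · left; rw [hpp]
      · right
        intro hh
        apply hpp
        apply Subtype.ext
        rw [hκ p', hh, hp0]
    · exfalso
      apply hsep (κ p0) hκ0 A hA hx' (κ p) hx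
      by_cases hpp : p = p0
      · left; rw [hpp]
      · right
        intro hh
        apply hpp
        apply Subtype.ext
        rw [hκ p, hh, hp0]
    · congr 1
      exact (huniq p p' (hle p' A hA hx' hx)).symm
  · -- center
    intro p z hz
    rw [hκ p, mem_conjS]
    have : (κ p)⁻¹ * z * κ p = z := by
      rw [mul_assoc, ← Subgroup.mem_center_iff.1 hz (κ p), ← mul_assoc, inv_mul_cancel, one_mul]
    rw [this]; exact hZ hz
  · -- proper
    intro p
    obtain ⟨p1, hp1⟩ : ∃ p1 : {S : Subgroup L // ∃ k, S = conjS k S0}, p1.1 = conjS w S0 :=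
      ⟨⟨_, w, rfl⟩, rfl⟩
    have hne : p1 ≠ p0 := by
      intro hh
      apply hw
      apply hu.mem_of_conj_mem
      have h1 := (hu.conj w).1
      rw [← hp1, hh, hp0] at h1
      exact h1
    by_cases hpp : p = p0
    · refine ⟨_, huG (κ p1), fun hmem => hne ?_⟩
      rw [← hpp]
      exact (huniq p1 p hmem).symm
    · exact ⟨_, huG (κ p0), fun hmem => hpp (huniq p0 p hmem)⟩
  · -- membership in G
    rintro (_ | p)
    · exact hx'G _ hκ0
    · exact huG _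

end

end Cfsg.Agent.Lib.Helper18
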