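import Mathlib
import Cfsg.Agent.Lib.Helper18.NilCov2
import Cfsg.Agent.Lib.Helper18.GLPar

/-! Nilpotent minimal covers: line stabilisers and regular unipotent elements of `GL_n`. -/

set_option autoImplicit false

namespace Cfsg.Agent.Lib.Helper18

open Matrix

section

variable {F : Type*} [Field F] {n : ℕ}

theorem gl_inv_mulVec (g : GL (Fin n) F) (v : Fin n → F) : (g⁻¹).1 *ᵥ (g.1 *ᵥ v) = v := by
  rw [Matrix.mulVec_mulVec, ← Units.val_mul, inv_mul_cancel, Units.val_one, Matrix.one_mulVec]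

theorem gl_mulVec_inv (g : GL (Fin n) F) (v : Fin n → F) : g.1 *ᵥ ((g⁻¹).1 *ᵥ v) = v := by
  rw [Matrix.mulVec_mulVec, ← Units.val_mul, mul_inv_cancel, Units.val_one, Matrix.one_mulVec]

/-- The stabiliser of the line spanned by `v`. -/
def eigStab (v : Fin n → F) : Subgroup (GL (Fin n) F) where
  carrier := {g | ∃ c : Fˣ, g.1 *ᵥ v = (c : F) • v}
  mul_mem' := by
    rintro a b ⟨c, hc⟩ ⟨d, hd⟩
    refine ⟨c * d, ?_⟩
    rw [Units.val_mul, ← Matrix.mulVec_mulVec, hd, Matrix.mulVec_smul, hc, smul_smul, mul_comm,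
      Units.val_mul]
  one_mem' := ⟨1, by simp⟩
  inv_mem' := by
    rintro a ⟨c, hc⟩
    refine ⟨c⁻¹, ?_⟩
    have h1 := congrArg (fun w => ((c⁻¹ : Fˣ) : F) • ((a⁻¹).1 *ᵥ w)) hc
    simp only [gl_inv_mulVec, Matrix.mulVec_smul, smul_smul] at h1
    rw [← Units.val_mul, inv_mul_cancel, Units.val_one, one_smul] at h1
    exact h1.symm

theorem mem_eigStab_iff {v : Fin n → F} {g : GL (Fin n) F} :
    g ∈ eigStab v ↔ ∃ c : Fˣ, g.1 *ᵥ v = (c : F) • v := Iff.rfl

theorem mem_eigStab_of {v : Fin n → F} (hv : v ≠ 0) {g : GL (Fin n) F} {c : F}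
    (h : g.1 *ᵥ v = c • v) : g ∈ eigStab v := by
  have hc : c ≠ 0 := by
    rintro rfl
    rw [zero_smul] at h
    apply hv
    rw [← gl_inv_mulVec g v, h, Matrix.mulVec_zero]
  exact ⟨Units.mk0 c hc, h⟩

theorem gl_mulVec_ne_zero (g : GL (Fin n) F) {v : Fin n → F} (hv : v ≠ 0) : g.1 *ᵥ v ≠ 0 := by
  intro h
  apply hv
  rw [← gl_inv_mulVec g v, h, Matrix.mulVec_zero]

theorem center_le_eigStab (v : Fin n → F) : Subgroup.center (GL (Fin n) F) ≤ eigStab v := by
  intro z hz
  obtain ⟨c, hc⟩ := Matrix.GeneralLinearGroup.center_eq_range_scalar (n := Fin n) (R := F) ▸ hz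
  refine ⟨c, ?_⟩
  rw [← hc]
  ext i
  simp [Matrix.GeneralLinearGroup.scalar, Matrix.mulVec_diagonal]

theorem gl_det_conj (k x : GL (Fin n) F) : (k * x * k⁻¹).1.det = x.1.det := by
  rw [Units.val_mul, Units.val_mul, Matrix.det_mul, Matrix.det_mul, mul_right_comm,
    ← Matrix.det_mul, ← Units.val_mul, mul_inv_cancel, Units.val_one, Matrix.det_one, one_mul]

theorem mem_range_toGL {g : GL (Fin n) F} (h : g.1.det = 1) :
    g ∈ (Matrix.SpecialLinearGroup.toGL :
      Matrix.SpecialLinearGroup (Fin n) F →* GL (Fin n) F).range :=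
  ⟨⟨g.1, h⟩, Units.ext rfl⟩

/-- The regular unipotent matrix. -/
def regUMat (F : Type*) [Field F] (n : ℕ) : Matrix (Fin n) (Fin n) F :=
  fun i j => if i = j then 1 else if (i : ℕ) + 1 = j then 1 else 0

theorem regUMat_det : (regUMat F n).det = 1 := by
  rw [Matrix.det_of_isUpperTriangular]
  · simp [regUMat]
  · intro i j hij
    have h1 : i ≠ j := fun h => by subst h; exact lt_irrefl _ hij
    have h2 : ¬ ((i : ℕ) + 1 = j) := by
      have : (j : ℕ) < i := hij
      omega
    simp [regUMat, h1, h2]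

theorem regUMat_mulVec (v : Fin n → F) (i : Fin n) :
    (regUMat F n *ᵥ v) i = v i + (if h : (i : ℕ) + 1 < n then v ⟨i + 1, h⟩ else 0) := by
  have e : ∀ j, regUMat F n i j * v j =
      (if i = j then v j else 0) + (if (i : ℕ) + 1 = j then v j else 0) := by
    intro j
    unfold regUMat
    by_cases h1 : i = j
    · subst h1; simp
    · by_cases h2 : (i : ℕ) + 1 = j <;> simp [h1, h2]
  simp only [Matrix.mulVec, dotProduct, e, Finset.sum_add_distrib, Finset.sum_ite_eq,
    Finset.mem_univ, if_true]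
  congr 1
  split_ifs with h
  · rw [Finset.sum_eq_single ⟨i + 1, h⟩]
    · simp
    · intro b _ hb
      rw [if_neg]
      intro hh
      apply hb
      ext
      exact hh.symm
    · simp
  · apply Finset.sum_eq_zero
    intro j _
    rw [if_neg]
    intro hh
    have := j.2
    omega

theorem regU_eig {v : Fin n → F} {c : F} (hv : v ≠ 0) (h : regUMat F n *ᵥ v = c • v) :
    ∀ j : Fin n, (j : ℕ) ≠ 0 → v j = 0 := by
  classical
  have hi : ∃ i, v i ≠ 0 := by
    by_contra hcon
    apply hv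
    funext i
    by_contra hne
    exact hcon ⟨i, hne⟩
  obtain ⟨i, hi⟩ := hi
  obtain ⟨i0, hi0, hmax⟩ := Finset.exists_max_image (Finset.univ.filter (fun i => v i ≠ 0))
    (fun i => (i : ℕ)) ⟨i, by simp [hi]⟩
  have hi0' : v i0 ≠ 0 := (Finset.mem_filter.1 hi0).2
  have hnext : ∀ i : Fin n, v i + (if h : (i : ℕ) + 1 < n then v ⟨i + 1, h⟩ else 0) = c * v i := by
    intro i
    rw [← regUMat_mulVec, h]; rfl
  have hc : c = 1 := by
    have h1 := hnext i0
    have h2 : (if h : (i0 : ℕ) + 1 < n then v ⟨i0 + 1, h⟩ else 0) = 0 := by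
      split_ifs with hh
      · by_contra hne
        have := hmax ⟨i0 + 1, hh⟩ (by simp [hne])
        simp at this
      · rfl
    rw [h2, add_zero] at h1
    have h3 : (c - 1) * v i0 = 0 := by linear_combination -h1
    rcases mul_eq_zero.1 h3 with h4 | h4
    · linear_combination h4
    · exact absurd h4 hi0'
  intro j hj
  have hj' : (j : ℕ) - 1 < n := by have := j.2; omega
  have h1 := hnext ⟨(j : ℕ) - 1, hj'⟩
  have hlt : ((⟨(j : ℕ) - 1, hj'⟩ : Fin n) : ℕ) + 1 < n := by
    have := j.2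
    simp only
    omega
  rw [dif_pos hlt, hc, one_mul] at h1
  have h2 : (⟨((⟨(j : ℕ) - 1, hj'⟩ : Fin n) : ℕ) + 1, hlt⟩ : Fin n) = j := by
    ext
    simp only
    omega
  rw [h2] at h1
  linear_combination h1

/-- The regular unipotent element of `GL_n`. -/
noncomputable def regU (F : Type*) [Field F] (n : ℕ) : GL (Fin n) F :=
  Matrix.GeneralLinearGroup.mkOfDetNeZero (regUMat F n) (by rw [regUMat_det]; exact one_ne_zero)

theorem regU_val : (regU F n).1 = regUMat F n := rfl

theorem regU_selfNorm [NeZero n] : SelfNorm (regU F n) (eigStab (Pi.single 0 1)) := by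
  have he0 : (Pi.single 0 1 : Fin n → F) ≠ 0 := by
    intro h
    have := congrFun h 0
    simp at this
  constructor
  · apply mem_eigStab_of he0 (c := 1)
    rw [one_smul, regU_val]
    ext i
    rw [regUMat_mulVec]
    split_ifs with h
    · rw [Pi.single_apply, Pi.single_apply]
      have : (⟨(i : ℕ) + 1, h⟩ : Fin n) ≠ 0 := by
        intro hh
        have := congrArg Fin.val hh
        simp at this
      rw [if_neg this, add_zero]
    · rw [add_zero]
  · rintro g ⟨c, hc⟩
    have h1 : regUMat F n *ᵥ (g.1 *ᵥ Pi.single 0 1) = (c : F) • (g.1 *ᵥ Pi.single 0 1) := by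
      have h2 := congrArg (fun w => g.1 *ᵥ w) hc
      simp only [Units.val_mul, ← Matrix.mulVec_mulVec, gl_mulVec_inv, Matrix.mulVec_smul] at h2
      exact h2
    have h3 := regU_eig (gl_mulVec_ne_zero g he0) h1
    apply mem_eigStab_of he0 (c := (g.1 *ᵥ Pi.single 0 1) 0)
    ext j
    by_cases hj : j = 0
    · subst hj; simp
    · rw [h3 j (fun hh => hj (Fin.ext (by simpa using hh)))]
      simp [hj]

/-- the duality automorphism as a homomorphism -/
def glDualHom : GL (Fin n) F →* GL (Fin n) F := MonoidHom.mk' glDual glDual_mul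

theorem revT_regUMat : revT (regUMat F n) = regUMat F n := by
  ext i j
  rw [revT_apply]
  unfold regUMat
  have h1 : (j.rev = i.rev) ↔ (i = j) := by
    rw [Fin.rev_inj]; exact eq_comm
  have h2 : ((j.rev : ℕ) + 1 = i.rev) ↔ ((i : ℕ) + 1 = j) := by
    rw [Fin.val_rev, Fin.val_rev]
    have := i.2
    have := j.2
    omega
  simp only [h1, h2]

theorem glDualHom_regU : glDualHom (regU F n) = (regU F n)⁻¹ := by
  rw [← _root_.inv_inj, inv_inv]
  apply Units.ext
  change revT (regU F n).1 = (regU F n).1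
  rw [regU_val, revT_regUMat]

end

end Cfsg.Agent.Lib.Helper18
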