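import Mathlib
import Cfsg.Agent.Lib.Helper18.NilCov3

/-! Nilpotent minimal covers: groups between `PSL_n` and `PGL_n`, `n ≥ 3`. -/

set_option autoImplicit false

namespace Cfsg.Agent.Lib.Helper18

open Matrix

theorem regU_conj_mem {F : Type*} [Field F] {n : ℕ}
    (G : Subgroup (GL (Fin n) F ⧸ Subgroup.center (GL (Fin n) F)))
    (hG : ((Matrix.SpecialLinearGroup.toGL :
      Matrix.SpecialLinearGroup (Fin n) F →* GL (Fin n) F).range).map
      (QuotientGroup.mk' (Subgroup.center (GL (Fin n) F))) ≤ G) (k : GL (Fin n) F) :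
    ((k * regU F n * k⁻¹ : GL (Fin n) F) : GL (Fin n) F ⧸ Subgroup.center (GL (Fin n) F)) ∈ G :=
  hG ⟨_, mem_range_toGL (by rw [gl_det_conj, regU_val, regUMat_det]), rfl⟩

theorem tGL_not_mem_eigStab {F : Type*} [Field F] {n : ℕ} [NeZero n] (b : Fin n) (hb : b ≠ 0) :
    tGL b 0 hb (1 : F) ∉ eigStab (Pi.single 0 1) := by
  rintro ⟨c, hc⟩
  rw [tGL_mulVec] at hc
  have h1 := congrFun hc b
  simp [hb] at h1

theorem no_cover_ge_three {F : Type*} [Field F] [Fintype F] {n : ℕ} (hn : 3 ≤ n)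
    (G : Subgroup (GL (Fin n) F ⧸ Subgroup.center (GL (Fin n) F)))
    (hG : ((Matrix.SpecialLinearGroup.toGL :
      Matrix.SpecialLinearGroup (Fin n) F →* GL (Fin n) F).range).map
      (QuotientGroup.mk' (Subgroup.center (GL (Fin n) F))) ≤ G) :
    ¬ ∃ 𝓐 : Finset (Subgroup G), ((∀ A ∈ 𝓐, A ≠ ⊤) ∧ (∀ g : G, ∃ A ∈ 𝓐, g ∈ A)) ∧
      (∀ 𝓑 : Finset (Subgroup G), (∀ A ∈ 𝓑, A ≠ ⊤) ∧ (∀ g : G, ∃ A ∈ 𝓑, g ∈ A) →
        𝓐.card ≤ 𝓑.card) ∧ (∀ A ∈ 𝓐, Group.IsNilpotent ↥A) := by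
  haveI : NeZero n := ⟨by omega⟩
  have huG := regU_conj_mem G hG
  obtain ⟨a, ha⟩ : ∃ a : Fin n, (a : ℕ) = n - 1 := ⟨⟨n - 1, by omega⟩, rfl⟩
  obtain ⟨b, hb⟩ : ∃ b : Fin n, (b : ℕ) = 1 := ⟨⟨1, by omega⟩, rfl⟩
  have hab : a ≠ b := by
    intro h
    have := congrArg Fin.val h
    omega
  have hb0 : b ≠ 0 := by
    intro h
    have := congrArg Fin.val h
    rw [hb] at this
    simp at this
  obtain ⟨h, hh⟩ : ∃ h, h = tGL a b hab (1 : F) := ⟨_, rfl⟩
  have hh0 : h ∈ eigStab (Pi.single 0 1) := by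
    refine ⟨1, ?_⟩
    rw [hh, tGL_mulVec]
    simp [hb0]
  have hS' : SelfNorm (regU F n) ((eigStab (Pi.single 0 1)).comap glDualHom) :=
    regU_selfNorm.comap_of_inv glDualHom glDualHom_regU
  have hh' : h ∉ (eigStab (Pi.single 0 1)).comap glDualHom := by
    intro hmem
    obtain ⟨c, hc⟩ := inv_mem (Subgroup.mem_comap.1 hmem)
    change revT h.1 *ᵥ Pi.single 0 1 = _ at hc
    have h1 := congrFun hc b.rev
    rw [Matrix.mulVec_single_one] at h1
    change revT h.1 b.rev 0 = _ at h1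
    rw [revT_apply, Fin.rev_rev, hh] at h1
    have ha' : (0 : Fin n).rev = a := by
      ext
      rw [Fin.val_rev, ha]
      simp
    have hbr : b.rev ≠ 0 := by
      intro h2
      have := congrArg Fin.val h2
      rw [Fin.val_rev, hb] at this
      simp at this
      omega
    rw [ha'] at h1
    change Matrix.transvection a b (1 : F) a b = _ at h1
    simp [Matrix.transvection, hab, hbr] at h1
  apply no_nilp_min_cover_conj G (eigStab (Pi.single 0 1)) (center_le_eigStab _) (regU F n)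
    regU_selfNorm huG (tGL b 0 hb0 1) (tGL_not_mem_eigStab b hb0)
    (fun k0 => (k0 * h) * regU F n * (k0 * h)⁻¹)
  · intro k0 _
    exact huG _
  · intro k0 _ A hA _ hx a ha
    exact ⟨k0 * h, (regU_selfNorm.conj (k0 * h)).le A hA hx ha⟩
  · intro k0 hk0 A hA hx k hk hcase
    have hA0 : A ≤ eigStab (Pi.single 0 1) := by
      have h1 := (regU_selfNorm.conj (k0 * h)).le A hA hx
      rwa [conjS_of_mem (mul_mem hk0 hh0)] at h1
    rcases hcase with rfl | hne
    · have h1 := (hS'.conj k).le A hA hk hx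
      rw [mem_conjS] at h1
      have h2 : k⁻¹ * (k * h * regU F n * (k * h)⁻¹) * k = h * regU F n * h⁻¹ := by group
      rw [h2] at h1
      exact hh' (hS'.mem_of_conj_mem h1)
    · apply hne
      exact conjS_of_mem (regU_selfNorm.mem_of_conj_mem (hA0 hk))

end Cfsg.Agent.Lib.Helper18
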