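import Mathlib
import Cfsg.Agent.Lib.Helper18.NilCov4

/-! Nilpotent minimal covers: nilpotent subgroups of `GL_2`. -/

set_option autoImplicit false

namespace Cfsg.Agent.Lib.Helper18

open Matrix

section abs

variable {L : Type*} [Group L]

theorem exists_central_of_nilpotent₂ (A : Subgroup L)
    (hA : Group.IsNilpotent A) {x : L} (hx : x ∈ A) (hx1 : x ≠ 1) :
    ∃ z ∈ A, z ≠ 1 ∧ ∀ a ∈ A, a * z = z * a := by
  have hnt : Nontrivial A := ⟨⟨⟨x, hx⟩, 1, fun hh => hx1 (congrArg Subtype.val hh)⟩⟩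
  have hc := Group.IsNilpotent.center_ne_bot (G := A)
  obtain ⟨⟨z, hz⟩, hz1⟩ := (Subgroup.ne_bot_iff_exists_ne_one).1 hc
  refine ⟨z.1, z.2, fun hh => hz1 (Subtype.ext (Subtype.ext hh)), fun a ha => ?_⟩
  exact congrArg Subtype.val ((Subgroup.mem_center_iff.1 hz) ⟨a, ha⟩)

theorem exists_central_mod_center (A : Subgroup L) (hA : Group.IsNilpotent A) {x : L}
    (hx : x ∈ A) (hxZ : x ∉ Subgroup.center L) :
    ∃ z ∈ A, z ∉ Subgroup.center L ∧ ∀ a ∈ A, ∃ ζ ∈ Subgroup.center L, a * z = z * a * ζ := by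
  have hAbar : Group.IsNilpotent (A.map (QuotientGroup.mk' (Subgroup.center L))) :=
    Group.nilpotent_of_surjective ((QuotientGroup.mk' (Subgroup.center L)).subgroupMap A)
      (MonoidHom.subgroupMap_surjective _ _)
  have hxbar : (x : L ⧸ Subgroup.center L) ∈ A.map (QuotientGroup.mk' (Subgroup.center L)) :=
    ⟨x, hx, rfl⟩
  have hx1 : (x : L ⧸ Subgroup.center L) ≠ 1 := fun h => hxZ ((QuotientGroup.eq_one_iff x).1 h)
  obtain ⟨zb, hzb, hzb1, hcomm⟩ := exists_central_of_nilpotent₂ _ hAbar hxbar hx1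
  obtain ⟨z, hz, rfl⟩ := hzb
  refine ⟨z, hz, fun h => hzb1 ((QuotientGroup.eq_one_iff z).2 h), fun a ha => ?_⟩
  have h1 := hcomm (a : L ⧸ Subgroup.center L) ⟨a, ha, rfl⟩
  refine ⟨(z * a)⁻¹ * (a * z), ?_, by group⟩
  exact QuotientGroup.eq.1 h1.symm

theorem conjS_nilpotent (k : L) (A : Subgroup L) (hA : Group.IsNilpotent A) :
    Group.IsNilpotent (conjS k A) := by
  have e : conjS k A = A.map (MulAut.conj k).toMonoidHom := by
    ext y
    rw [mem_conjS]
    constructor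
    · intro h
      refine ⟨_, h, ?_⟩
      change k * (k⁻¹ * y * k) * k⁻¹ = y
      group
    · rintro ⟨a, ha, rfl⟩
      change k⁻¹ * (k * a * k⁻¹) * k ∈ A
      have : k⁻¹ * (k * a * k⁻¹) * k = a := by group
      rw [this]; exact ha
  rw [e]
  exact Group.nilpotent_of_mulEquiv
    (A.equivMapOfInjective _ (MulAut.conj k).injective)

end abs

section gl

variable {F : Type*} [Field F] {n : ℕ}

theorem gl_central_form (A : Subgroup (GL (Fin n) F)) (hA : Group.IsNilpotent A)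
    {x : GL (Fin n) F} (hx : x ∈ A) (hxZ : x ∉ Subgroup.center (GL (Fin n) F)) :
    ∃ z ∈ A, z ∉ Subgroup.center (GL (Fin n) F) ∧
      ∀ a ∈ A, ∃ μ : F, a.1 * z.1 = μ • (z.1 * a.1) := by
  obtain ⟨z, hz, hzZ, hcomm⟩ := exists_central_mod_center A hA hx hxZ
  refine ⟨z, hz, hzZ, fun a ha => ?_⟩
  obtain ⟨ζ, hζ, e⟩ := hcomm a ha
  obtain ⟨μ, hμ⟩ := Matrix.GeneralLinearGroup.mem_center_iff_val_mem_range_scalar.1 hζ
  refine ⟨μ, ?_⟩
  have e1 := congrArg Units.val e
  rw [Units.val_mul, Units.val_mul, Units.val_mul, ← hμ, Matrix.scalar_apply,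
    ← Matrix.smul_one_eq_diagonal, mul_smul_comm, mul_one] at e1
  exact e1

end gl

section two

variable {F : Type*} [Field F]

theorem gl2_det_ne (a : GL (Fin 2) F) : a.1 0 0 * a.1 1 1 - a.1 0 1 * a.1 1 0 ≠ 0 := by
  rw [← Matrix.det_fin_two]
  exact gl_det_ne_zero a

theorem gl2_mem_center {z : GL (Fin 2) F} (h01 : z.1 0 1 = 0) (h10 : z.1 1 0 = 0)
    (h : z.1 0 0 = z.1 1 1) : z ∈ Subgroup.center (GL (Fin 2) F) := by
  rw [Matrix.GeneralLinearGroup.mem_center_iff_val_mem_range_scalar]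
  refine ⟨z.1 0 0, ?_⟩
  ext i j
  fin_cases i <;> fin_cases j <;> simp [h01, h10, h]

theorem gl2_mem_eigStab_iff {a : GL (Fin 2) F} :
    a ∈ eigStab (Pi.single 0 1) ↔ a.1 1 0 = 0 := by
  constructor
  · rintro ⟨c, hc⟩
    have h1 := congrFun hc 1
    simpa [Matrix.mulVec, dotProduct, Fin.sum_univ_two] using h1
  · intro h
    have he0 : (Pi.single 0 1 : Fin 2 → F) ≠ 0 := by
      intro h
      have := congrFun h 0
      simp at this
    apply mem_eigStab_of he0 (c := a.1 0 0)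
    ext i
    fin_cases i <;> simp [Matrix.mulVec, dotProduct, Fin.sum_univ_two, h]

theorem regU2_entries : (regU F 2).1 = !![1, 1; 0, 1] := by
  ext i j
  fin_cases i <;> fin_cases j <;> simp [regU_val, regUMat]

theorem regU2_not_center : regU F 2 ∉ Subgroup.center (GL (Fin 2) F) := by
  intro h
  obtain ⟨c, hc⟩ := Matrix.GeneralLinearGroup.mem_center_iff_val_mem_range_scalar.1 h
  have h1 := congrFun (congrFun hc 0) 1
  rw [regU2_entries] at h1
  simp at h1

/-- A nilpotent subgroup of `GL_2` containing the standard transvection consists of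
scalar multiples of unipotent upper triangular matrices. -/
theorem gl2_nilpotent_over_regU (A : Subgroup (GL (Fin 2) F)) (hA : Group.IsNilpotent A)
    (hu : regU F 2 ∈ A) : ∀ a ∈ A, a.1 1 0 = 0 ∧ a.1 0 0 = a.1 1 1 := by
  have hle : A ≤ eigStab (Pi.single 0 1) := regU_selfNorm.le A hA hu
  obtain ⟨z, hz, hzZ, hcomm⟩ := gl_central_form A hA hu regU2_not_center
  have hz10 : z.1 1 0 = 0 := gl2_mem_eigStab_iff.1 (hle hz)
  have hzdet := gl2_det_ne z
  rw [hz10, mul_zero, sub_zero] at hzdet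
  have hz00 : z.1 0 0 ≠ 0 := left_ne_zero_of_mul hzdet
  have hz11 : z.1 1 1 ≠ 0 := right_ne_zero_of_mul hzdet
  obtain ⟨μ, hμ⟩ := hcomm _ hu
  rw [regU2_entries] at hμ
  have e11 := congrFun (congrFun hμ 1) 1
  have e01 := congrFun (congrFun hμ 0) 1
  simp [Matrix.mul_apply, Fin.sum_univ_two, hz10] at e11 e01
  have hμ1 : μ = 1 := by
    have : (μ - 1) * z.1 1 1 = 0 := by linear_combination -e11
    rcases mul_eq_zero.1 this with h | h
    · linear_combination h
    · exact absurd h hz11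
  rw [hμ1] at e01
  have hzd : z.1 0 0 = z.1 1 1 := by linear_combination -e01
  have hz01 : z.1 0 1 ≠ 0 := fun h => hzZ (gl2_mem_center h hz10 hzd)
  intro a ha
  have ha10 : a.1 1 0 = 0 := gl2_mem_eigStab_iff.1 (hle ha)
  refine ⟨ha10, ?_⟩
  have hadet := gl2_det_ne a
  rw [ha10, mul_zero, sub_zero] at hadet
  have ha00 : a.1 0 0 ≠ 0 := left_ne_zero_of_mul hadet
  obtain ⟨ν, hν⟩ := hcomm a ha
  have f00 := congrFun (congrFun hν 0) 0
  have f01 := congrFun (congrFun hν 0) 1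
  simp [Matrix.mul_apply, Fin.sum_univ_two, hz10, ha10] at f00 f01
  have hν1 : ν = 1 := by
    have : (ν - 1) * (z.1 0 0 * a.1 0 0) = 0 := by linear_combination -f00
    rcases mul_eq_zero.1 this with h | h
    · linear_combination h
    · exact absurd h (mul_ne_zero hz00 ha00)
  rw [hν1] at f01
  have : z.1 0 1 * (a.1 0 0 - a.1 1 1) = 0 := by linear_combination f01 + a.1 0 1 * hzd
  rcases mul_eq_zero.1 this with h | h
  · exact absurd h hz01
  · linear_combination h

end two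

end Cfsg.Agent.Lib.Helper18
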