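import Mathlib
import Cfsg.Agent.Lib.Helper18.NilCov5

/-! Nilpotent minimal covers: groups between `PSL_2` and `PGL_2`. -/

set_option autoImplicit false

namespace Cfsg.Agent.Lib.Helper18

open Matrix

section two

variable {F : Type*} [Field F]

theorem gl2_nilpotent_over_conj (A : Subgroup (GL (Fin 2) F)) (hA : Group.IsNilpotent A)
    (k : GL (Fin 2) F) (hu : k * regU F 2 * k⁻¹ ∈ A) :
    ∀ a ∈ A, (k⁻¹ * a * k).1 1 0 = 0 ∧ (k⁻¹ * a * k).1 0 0 = (k⁻¹ * a * k).1 1 1 := by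
  intro a ha
  apply gl2_nilpotent_over_regU (conjS k⁻¹ A) (conjS_nilpotent _ _ hA)
  · rw [mem_conjS, inv_inv]; exact hu
  · rw [mem_conjS, inv_inv]
    have : k * (k⁻¹ * a * k) * k⁻¹ = a := by group
    rw [this]; exact ha

theorem gl_det_conj' {n : ℕ} (k x : GL (Fin n) F) : (k⁻¹ * x * k).1.det = x.1.det := by
  have := gl_det_conj k⁻¹ x
  rwa [inv_inv] at this

theorem gl_trace_conj' {n : ℕ} (k x : GL (Fin n) F) : (k⁻¹ * x * k).1.trace = x.1.trace := by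
  rw [Units.val_mul, Units.val_mul, Matrix.trace_mul_cycle, ← Units.val_mul, mul_inv_cancel,
    Units.val_one, one_mul]

theorem gl2_sq_det_over_conj (A : Subgroup (GL (Fin 2) F)) (hA : Group.IsNilpotent A)
    (k : GL (Fin 2) F) (hu : k * regU F 2 * k⁻¹ ∈ A) : ∀ a ∈ A, ∃ r : F, r ^ 2 = a.1.det := by
  intro a ha
  obtain ⟨h1, h2⟩ := gl2_nilpotent_over_conj A hA k hu a ha
  refine ⟨(k⁻¹ * a * k).1 0 0, ?_⟩
  rw [← gl_det_conj' k a, Matrix.det_fin_two, h1, ← h2]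
  ring

/-- The diagonal element `diag(t, t⁻¹)`. -/
noncomputable def diagD (t : Fˣ) : GL (Fin 2) F :=
  Matrix.GeneralLinearGroup.mkOfDetNeZero !![(t : F), 0; 0, ((t⁻¹ : Fˣ) : F)]
    (by simp [Matrix.det_fin_two])

theorem diagD_val (t : Fˣ) : (diagD t).1 = !![(t : F), 0; 0, ((t⁻¹ : Fˣ) : F)] := rfl

theorem diagD_det (t : Fˣ) : (diagD t).1.det = 1 := by
  simp [diagD_val, Matrix.det_fin_two]

theorem diagD_not_center {t : Fˣ} (ht : (t : F) ^ 2 ≠ 1) :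
    diagD t ∉ Subgroup.center (GL (Fin 2) F) := by
  intro h
  obtain ⟨c, hc⟩ := Matrix.GeneralLinearGroup.mem_center_iff_val_mem_range_scalar.1 h
  have h0 := congrFun (congrFun hc 0) 0
  have h1 := congrFun (congrFun hc 1) 1
  rw [diagD_val] at h0 h1
  simp at h0 h1
  apply ht
  have h2 : (t : F) * (t : F)⁻¹ = 1 := mul_inv_cancel₀ t.ne_zero
  rw [← h1, h0] at h2
  rw [sq]; exact h2

theorem diagD_not_with_regU (A : Subgroup (GL (Fin 2) F)) (hA : Group.IsNilpotent A)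
    {t : Fˣ} (ht : (t : F) ^ 2 ≠ 1) (hd : diagD t ∈ A) (k : GL (Fin 2) F)
    (hu : k * regU F 2 * k⁻¹ ∈ A) : False := by
  obtain ⟨h1, h2⟩ := gl2_nilpotent_over_conj A hA k hu _ hd
  have hdet := gl_det_conj' k (diagD t)
  have htr := gl_trace_conj' k (diagD t)
  obtain ⟨M, hM⟩ : ∃ M : GL (Fin 2) F, M = k⁻¹ * diagD t * k := ⟨_, rfl⟩
  rw [← hM] at h1 h2 hdet htr
  rw [diagD_det, Matrix.det_fin_two, h1, ← h2] at hdet
  rw [Matrix.trace_fin_two, ← h2, diagD_val] at htr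
  simp at htr
  obtain ⟨b, hb⟩ : ∃ b, b = M.1 0 0 := ⟨_, rfl⟩
  rw [← hb] at hdet htr
  obtain ⟨t', ht'⟩ : ∃ t' : F, t' = (t : F)⁻¹ := ⟨_, rfl⟩
  rw [← ht'] at htr
  have htt : (t : F) * t' = 1 := by rw [ht']; exact mul_inv_cancel₀ t.ne_zero
  have h3 : ((t : F) - t') ^ 2 = 0 := by
    linear_combination (-(t : F) - t' - 2 * b) * htr + 4 * hdet - 4 * htt
  have h4 : (t : F) = t' := by
    have := pow_eq_zero_iff (two_ne_zero) |>.1 h3
    linear_combination this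
  apply ht
  rw [sq]
  nth_rewrite 2 [h4]
  exact htt

theorem gl2_exists_eigvec (a : GL (Fin 2) F) (ρ : F)
    (h : ρ ^ 2 - (a.1 0 0 + a.1 1 1) * ρ + (a.1 0 0 * a.1 1 1 - a.1 0 1 * a.1 1 0) = 0) :
    ∃ v : Fin 2 → F, v ≠ 0 ∧ ∃ c : F, a.1 *ᵥ v = c • v := by
  by_cases h01 : a.1 0 1 = 0
  · refine ⟨![0, 1], ?_, a.1 1 1, ?_⟩
    · intro hh
      have := congrFun hh 1
      simp at this
    · ext i
      fin_cases i <;> simp [Matrix.mulVec, dotProduct, Fin.sum_univ_two, h01]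
  · refine ⟨![a.1 0 1, ρ - a.1 0 0], ?_, ρ, ?_⟩
    · intro hh
      have := congrFun hh 0
      simp at this
      exact h01 this
    · ext i
      fin_cases i
      · simp [Matrix.mulVec, dotProduct, Fin.sum_univ_two]
        ring
      · simp [Matrix.mulVec, dotProduct, Fin.sum_univ_two]
        linear_combination -h

theorem gl2_exists_map_e0 {v : Fin 2 → F} (hv : v ≠ 0) :
    ∃ k : GL (Fin 2) F, k.1 *ᵥ Pi.single 0 1 = v := by
  by_cases h0 : v 0 = 0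
  · have h1 : v 1 ≠ 0 := by
      intro h1
      apply hv
      ext i
      fin_cases i
      · exact h0
      · exact h1
    refine ⟨Matrix.GeneralLinearGroup.mkOfDetNeZero !![0, 1; v 1, 0]
      (by simp [Matrix.det_fin_two, h1]), ?_⟩
    change !![0, 1; v 1, 0] *ᵥ Pi.single 0 1 = v
    ext i
    fin_cases i <;> simp [Matrix.mulVec, dotProduct, Fin.sum_univ_two, h0]
  · refine ⟨Matrix.GeneralLinearGroup.mkOfDetNeZero !![v 0, 0; v 1, 1]
      (by simp [Matrix.det_fin_two, h0]), ?_⟩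
    change !![v 0, 0; v 1, 1] *ᵥ Pi.single 0 1 = v
    ext i
    fin_cases i <;> simp [Matrix.mulVec, dotProduct, Fin.sum_univ_two]

theorem gl2_mem_conj_of_eigvec {a : GL (Fin 2) F} {v : Fin 2 → F} (hv : v ≠ 0) {c : F}
    (h : a.1 *ᵥ v = c • v) : ∃ k, a ∈ conjS k (eigStab (Pi.single 0 1 : Fin 2 → F)) := by
  obtain ⟨k, hk⟩ := gl2_exists_map_e0 hv
  refine ⟨k, ?_⟩
  rw [mem_conjS]
  have he0 : (Pi.single 0 1 : Fin 2 → F) ≠ 0 := by
    intro h
    have := congrFun h 0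
    simp at this
  apply mem_eigStab_of he0 (c := c)
  rw [Units.val_mul, Units.val_mul, ← Matrix.mulVec_mulVec, ← Matrix.mulVec_mulVec, hk, h,
    Matrix.mulVec_smul, ← hk, gl_inv_mulVec]

end two

end Cfsg.Agent.Lib.Helper18
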