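import Mathlib
import Cfsg.Agent.Lib.Helper18.NilCov6

/-! Nilpotent minimal covers: groups between `PSL_2` and `PGL_2`, final assembly. -/

set_option autoImplicit false

namespace Cfsg.Agent.Lib.Helper18

open Matrix

section two

variable {F : Type*} [Field F]

/-- A nilpotent subgroup of `GL_2` containing `diag(t,t⁻¹)`, `t² ≠ 1`, all of whose elements have
square determinant, consists of elements with an eigenvector. -/
theorem gl2_nilpotent_over_diag (A : Subgroup (GL (Fin 2) F)) (hA : Group.IsNilpotent A)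
    {t : Fˣ} (ht : (t : F) ^ 2 ≠ 1) (hd : diagD t ∈ A)
    (hsq : ∀ a ∈ A, ∃ r : F, r ^ 2 = a.1.det) :
    ∀ a ∈ A, ∃ k, a ∈ conjS k (eigStab (Pi.single 0 1 : Fin 2 → F)) := by
  obtain ⟨z, hz, hzZ, hcomm⟩ := gl_central_form A hA hd (diagD_not_center ht)
  have hzdet := gl2_det_ne z
  obtain ⟨lz, hlz⟩ := hsq z hz
  rw [Matrix.det_fin_two] at hlz
  obtain ⟨z00, h00⟩ : ∃ x, x = z.1 0 0 := ⟨_, rfl⟩
  obtain ⟨z01, h01⟩ : ∃ x, x = z.1 0 1 := ⟨_, rfl⟩
  obtain ⟨z10, h10⟩ : ∃ x, x = z.1 1 0 := ⟨_, rfl⟩
  obtain ⟨z11, h11⟩ : ∃ x, x = z.1 1 1 := ⟨_, rfl⟩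
  rw [← h00, ← h01, ← h10, ← h11] at hzdet hlz
  -- Step 1: `z` has an eigenvalue
  have hθ : ∃ θ : F, θ ^ 2 - (z00 + z11) * θ + (z00 * z11 - z01 * z10) = 0 := by
    obtain ⟨μ, hμ⟩ := hcomm _ hd
    rw [diagD_val] at hμ
    have e00 := congrFun (congrFun hμ 0) 0
    have e01 := congrFun (congrFun hμ 0) 1
    have e10 := congrFun (congrFun hμ 1) 0
    have e11 := congrFun (congrFun hμ 1) 1
    simp only [Matrix.mul_apply, Fin.sum_univ_two, Matrix.smul_apply, smul_eq_mul] at e00 e01 e10 e11
    simp at e00 e01 e10 e11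
    rw [← h00] at e00
    rw [← h01] at e01
    rw [← h10] at e10
    rw [← h11] at e11
    obtain ⟨τ, hτ⟩ : ∃ τ : F, τ = (t : F) := ⟨_, rfl⟩
    obtain ⟨τ', hτ'⟩ : ∃ τ' : F, τ' = (t : F)⁻¹ := ⟨_, rfl⟩
    have hττ : τ * τ' = 1 := by rw [hτ, hτ']; exact mul_inv_cancel₀ t.ne_zero
    have hτ0 : τ ≠ 0 := left_ne_zero_of_mul_eq_one hττ
    have hτ'0 : τ' ≠ 0 := right_ne_zero_of_mul_eq_one hττ
    rw [← hτ'] at e01 e10 e11
    rw [← hτ] at e00 e01 e10 ht
    by_cases hμ1 : μ = 1
    · rw [hμ1] at e01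
      have h1 : z01 * (τ ^ 2 - 1) = 0 := by linear_combination τ * e01 + z01 * hττ
      have hz01 : z01 = 0 := by
        rcases mul_eq_zero.1 h1 with h | h
        · exact h
        · exact absurd (by linear_combination h) ht
      exact ⟨z00, by rw [hz01]; ring⟩
    · have hμ1' : 1 - μ ≠ 0 := fun h => hμ1 (by linear_combination -h)
      have hz00 : z00 = 0 := by
        have h1 : (1 - μ) * τ * z00 = 0 := by linear_combination e00
        rcases mul_eq_zero.1 h1 with h | h
        · exact absurd h (mul_ne_zero hμ1' hτ0)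
        · exact h
      have hz11 : z11 = 0 := by
        have h1 : (1 - μ) * τ' * z11 = 0 := by linear_combination e11
        rcases mul_eq_zero.1 h1 with h | h
        · exact absurd h (mul_ne_zero hμ1' hτ'0)
        · exact h
      rw [hz00, hz11] at hzdet hlz ⊢
      have hz01 : z01 ≠ 0 := by
        rintro rfl
        apply hzdet; ring
      have hz10 : z10 ≠ 0 := by
        rintro rfl
        apply hzdet; ring
      have h2 : τ ^ 2 = μ := by
        have h1 : z01 * (τ ^ 2 - μ) = 0 := by linear_combination τ * e01 + μ * z01 * hττ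
        rcases mul_eq_zero.1 h1 with h | h
        · exact absurd h hz01
        · linear_combination h
      have h3 : μ * τ ^ 2 = 1 := by
        have h1 : z10 * (1 - μ * τ ^ 2) = 0 := by linear_combination τ * e10 - z10 * hττ
        rcases mul_eq_zero.1 h1 with h | h
        · exact absurd h hz10
        · linear_combination -h
      have h4 : τ ^ 2 = -1 := by
        have h1 : (τ ^ 2 - 1) * (τ ^ 2 + 1) = 0 := by
          rw [← h2] at h3
          linear_combination h3
        rcases mul_eq_zero.1 h1 with h | h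
        · exact absurd (by linear_combination h) ht
        · linear_combination h
      refine ⟨τ * lz, ?_⟩
      linear_combination lz ^ 2 * h4 - hlz
  obtain ⟨θ, hθ⟩ := hθ
  -- Step 2
  intro a ha
  obtain ⟨ν, hν⟩ := hcomm a ha
  have hadet := gl2_det_ne a
  obtain ⟨la, hla⟩ := hsq a ha
  rw [Matrix.det_fin_two] at hla
  have f00 := congrFun (congrFun hν 0) 0
  have f01 := congrFun (congrFun hν 0) 1
  have f10 := congrFun (congrFun hν 1) 0
  have f11 := congrFun (congrFun hν 1) 1
  simp only [Matrix.mul_apply, Fin.sum_univ_two, Matrix.smul_apply, smul_eq_mul,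
    ← h00, ← h01, ← h10, ← h11] at f00 f01 f10 f11
  by_cases hν1 : ν = 1
  · have hθ' : θ ^ 2 - (z.1 0 0 + z.1 1 1) * θ + (z.1 0 0 * z.1 1 1 - z.1 0 1 * z.1 1 0) = 0 := by
      rw [← h00, ← h01, ← h10, ← h11]; exact hθ
    obtain ⟨v, hv, c, hvc⟩ := gl2_exists_eigvec z θ hθ'
    have hwc : z.1 *ᵥ (a.1 *ᵥ v) = c • (a.1 *ᵥ v) := by
      rw [Matrix.mulVec_mulVec]
      have : z.1 * a.1 = a.1 * z.1 := by rw [hν, hν1, one_smul]
      rw [this, ← Matrix.mulVec_mulVec, hvc, Matrix.mulVec_smul]
    obtain ⟨w, hw⟩ : ∃ w, w = a.1 *ᵥ v := ⟨_, rfl⟩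
    rw [← hw] at hwc
    have v0e := congrFun hvc 0
    have v1e := congrFun hvc 1
    have w0e := congrFun hwc 0
    have w1e := congrFun hwc 1
    simp only [Matrix.mulVec, dotProduct, Fin.sum_univ_two, Pi.smul_apply, smul_eq_mul,
      ← h00, ← h01, ← h10, ← h11] at v0e v1e w0e w1e
    by_cases hD : v 0 * w 1 - v 1 * w 0 = 0
    · have hρ : ∃ ρ : F, w = ρ • v := by
        by_cases hv0 : v 0 = 0
        · have hv1 : v 1 ≠ 0 := by
            intro hv1
            apply hv
            ext i
            fin_cases i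
            · exact hv0
            · exact hv1
          refine ⟨w 1 / v 1, ?_⟩
          ext i
          fin_cases i
          · simp only [Fin.zero_eta, Pi.smul_apply, smul_eq_mul]
            rw [hv0, mul_zero]
            rw [hv0, zero_mul, zero_sub, neg_eq_zero] at hD
            exact (mul_eq_zero.1 hD).resolve_left hv1
          · simp only [Fin.mk_one, Pi.smul_apply, smul_eq_mul]
            field_simp
        · refine ⟨w 0 / v 0, ?_⟩
          ext i
          fin_cases i
          · simp only [Fin.zero_eta, Pi.smul_apply, smul_eq_mul]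
            field_simp
          · simp only [Fin.mk_one, Pi.smul_apply, smul_eq_mul]
            field_simp
            linear_combination hD
      obtain ⟨ρ, hρ⟩ := hρ
      exact gl2_mem_conj_of_eigvec hv (c := ρ) (by rw [← hw, hρ])
    · exfalso
      apply hzZ
      have k01 : z01 * (v 0 * w 1 - v 1 * w 0) = 0 := by
        linear_combination v 0 * w0e - w 0 * v0e
      have k10 : z10 * (v 0 * w 1 - v 1 * w 0) = 0 := by
        linear_combination w 1 * v1e - v 1 * w1e
      have k00 : (z00 - c) * (v 0 * w 1 - v 1 * w 0) = 0 := by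
        linear_combination w 1 * v0e - v 1 * w0e
      have k11 : (z11 - c) * (v 0 * w 1 - v 1 * w 0) = 0 := by
        linear_combination v 0 * w1e - w 0 * v1e
      apply gl2_mem_center
      · rw [← h01]; exact (mul_eq_zero.1 k01).resolve_right hD
      · rw [← h10]; exact (mul_eq_zero.1 k10).resolve_right hD
      · rw [← h00, ← h11]
        have e1 := (mul_eq_zero.1 k00).resolve_right hD
        have e2 := (mul_eq_zero.1 k11).resolve_right hD
        linear_combination e1 - e2
  · have hν1' : 1 - ν ≠ 0 := fun h => hν1 (by linear_combination -h)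
    have htrz : z00 + z11 = 0 := by
      have h1 : (1 - ν) * (a.1 0 0 * a.1 1 1 - a.1 0 1 * a.1 1 0) * (z00 + z11) = 0 := by
        linear_combination a.1 1 1 * f00 - a.1 1 0 * f01 - a.1 0 1 * f10 + a.1 0 0 * f11
      rcases mul_eq_zero.1 h1 with h | h
      · exact absurd h (mul_ne_zero hν1' hadet)
      · exact h
    have htra : a.1 0 0 + a.1 1 1 = 0 := by
      have h1 : (1 - ν) * (z00 * z11 - z01 * z10) * (a.1 0 0 + a.1 1 1) = 0 := by
        linear_combination z11 * f00 - z01 * f10 - z10 * f01 + z00 * f11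
      rcases mul_eq_zero.1 h1 with h | h
      · exact absurd h (mul_ne_zero hν1' hzdet)
      · exact h
    have hlz0 : lz ≠ 0 := by
      rintro rfl
      apply hzdet
      rw [← hlz]; ring
    have hroot : (θ * la / lz) ^ 2 - (a.1 0 0 + a.1 1 1) * (θ * la / lz) +
        (a.1 0 0 * a.1 1 1 - a.1 0 1 * a.1 1 0) = 0 := by
      rw [htra, ← hla]
      rw [htrz, ← hlz] at hθ
      field_simp
      linear_combination la ^ 2 * hθ
    obtain ⟨v, hv, c, hvc⟩ := gl2_exists_eigvec a _ hroot
    exact gl2_mem_conj_of_eigvec hv hvc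

end two

end Cfsg.Agent.Lib.Helper18
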