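import Mathlib
import Cfsg.Agent.Lib.Helper18.NilCov7

/-! Nilpotent minimal covers: groups between `PSL_n` and `PGL_n`. -/

set_option autoImplicit false

namespace Cfsg.Agent.Lib.Helper18

open Matrix

section two

variable {F : Type*} [Field F]

/-- Elements of `GL_n` with square determinant. -/
def sqDet (F : Type*) [Field F] (n : ℕ) : Subgroup (GL (Fin n) F) where
  carrier := {g | ∃ r : F, r ^ 2 = g.1.det}
  mul_mem' := by
    rintro a b ⟨r, hr⟩ ⟨s, hs⟩
    exact ⟨r * s, by rw [Units.val_mul, Matrix.det_mul, mul_pow, hr, hs]⟩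
  one_mem' := ⟨1, by simp⟩
  inv_mem' := by
    rintro a ⟨r, hr⟩
    refine ⟨r⁻¹, ?_⟩
    have h1 : a.1.det * (a⁻¹).1.det = 1 := by
      rw [← Matrix.det_mul, ← Units.val_mul, mul_inv_cancel, Units.val_one, Matrix.det_one]
    rw [inv_pow, hr]
    exact (eq_inv_of_mul_eq_one_right h1).symm

theorem exists_unit_sq_ne_one [Fintype F] (hq : 4 ≤ Fintype.card F) :
    ∃ t : Fˣ, (t : F) ^ 2 ≠ 1 := by
  classical
  by_contra hcon
  have hall : ∀ x : F, x ∈ ({0, 1, -1} : Finset F) := by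
    intro x
    by_cases hx : x = 0
    · simp [hx]
    · have h1 : x ^ 2 = 1 := by
        by_contra h2
        exact hcon ⟨Units.mk0 x hx, h2⟩
      have h3 : (x - 1) * (x + 1) = 0 := by linear_combination h1
      rcases mul_eq_zero.1 h3 with h | h
      · have : x = 1 := by linear_combination h
        simp [this]
      · have : x = -1 := by linear_combination h
        simp [this]
  have h1 : Fintype.card F ≤ ({0, 1, -1} : Finset F).card := by
    rw [← Finset.card_univ]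
    exact Finset.card_le_card (fun x _ => hall x)
  have h2 : ({0, 1, -1} : Finset F).card ≤ 3 := Finset.card_le_three
  omega

theorem no_cover_two [Fintype F] (hq : 4 ≤ Fintype.card F)
    (G : Subgroup (GL (Fin 2) F ⧸ Subgroup.center (GL (Fin 2) F)))
    (hG : ((Matrix.SpecialLinearGroup.toGL :
      Matrix.SpecialLinearGroup (Fin 2) F →* GL (Fin 2) F).range).map
      (QuotientGroup.mk' (Subgroup.center (GL (Fin 2) F))) ≤ G) :
    ¬ ∃ 𝓐 : Finset (Subgroup G), ((∀ A ∈ 𝓐, A ≠ ⊤) ∧ (∀ g : G, ∃ A ∈ 𝓐, g ∈ A)) ∧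
      (∀ 𝓑 : Finset (Subgroup G), (∀ A ∈ 𝓑, A ≠ ⊤) ∧ (∀ g : G, ∃ A ∈ 𝓑, g ∈ A) →
        𝓐.card ≤ 𝓑.card) ∧ (∀ A ∈ 𝓐, Group.IsNilpotent ↥A) := by
  have huG := regU_conj_mem G hG
  have h10 : (1 : Fin 2) ≠ 0 := by decide
  by_cases hcase : ∀ g : GL (Fin 2) F,
      (g : GL (Fin 2) F ⧸ Subgroup.center (GL (Fin 2) F)) ∈ G → ∃ r : F, r ^ 2 = g.1.det
  · obtain ⟨t, ht⟩ := exists_unit_sq_ne_one hq
    apply no_nilp_min_cover_conj G (eigStab (Pi.single 0 1)) (center_le_eigStab _) (regU F 2)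
      regU_selfNorm huG (tGL 1 0 h10 1) (tGL_not_mem_eigStab 1 h10) (fun _ => diagD t)
    · intro _ _
      exact hG ⟨_, mem_range_toGL (diagD_det t), rfl⟩
    · intro _ _ A hA hAG hx
      exact gl2_nilpotent_over_diag A hA ht hx (fun a ha => hcase a (hAG a ha))
    · intro _ _ A hA hx k hk _
      exact diagD_not_with_regU A hA ht hx k hk
  · obtain ⟨g1, hg1G, hg1⟩ : ∃ g1 : GL (Fin 2) F,
        (g1 : GL (Fin 2) F ⧸ Subgroup.center (GL (Fin 2) F)) ∈ G ∧ ¬ ∃ r : F, r ^ 2 = g1.1.det := by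
      by_contra hcon
      apply hcase
      intro g hg
      by_contra h2
      exact hcon ⟨g, hg, h2⟩
    obtain ⟨w, hw⟩ : ∃ w, w = tGL (1 : Fin 2) 0 h10 (1 : F) := ⟨_, rfl⟩
    have hwS : w ∉ eigStab (Pi.single 0 1) := by rw [hw]; exact tGL_not_mem_eigStab 1 h10
    have hone : (1 : GL (Fin 2) F) * regU F 2 * (1 : GL (Fin 2) F)⁻¹ = regU F 2 := by group
    have hsep0 : ∀ A : Subgroup (GL (Fin 2) F), Group.IsNilpotent A → regU F 2 ∈ A →
        w * regU F 2 * w⁻¹ ∈ A → False := by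
      intro A hA h1 h2
      exact hwS (regU_selfNorm.mem_of_conj_mem (regU_selfNorm.le A hA h1 h2))
    apply no_nilp_min_cover_T G (Ω := Unit) (I := Bool) (fun _ => sqDet F 2) ?_ ?_
      (fun b => if b then regU F 2 else w * regU F 2 * w⁻¹) ?_ (by simp)
    · rintro (_ | _) A hA _ hx a ha
      · exact ⟨(), gl2_sq_det_over_conj A hA w hx a ha⟩
      · refine ⟨(), gl2_sq_det_over_conj A hA 1 ?_ a ha⟩
        rw [hone]; exact hx
    · rintro (_ | _) (_ | _) A hA hx hy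
      · rfl
      · exact (hsep0 A hA hy hx).elim
      · exact (hsep0 A hA hx hy).elim
      · rfl
    · intro _ z hz
      obtain ⟨c, hc⟩ := Matrix.GeneralLinearGroup.mem_center_iff_val_mem_range_scalar.1 hz
      refine ⟨c, ?_⟩
      rw [← hc]
      simp [Matrix.det_fin_two, sq]
    · intro _
      exact ⟨g1, hg1G, hg1⟩
    · rintro (_ | _)
      · exact huG w
      · have := huG 1
        rw [hone] at this
        exact this

end two

theorem no_cover_PSL_PGL {F : Type*} [Field F] [Fintype F] (n : ℕ)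
    (hn : 3 ≤ n ∨ (n = 2 ∧ 4 ≤ Fintype.card F))
    (G : Subgroup (GL (Fin n) F ⧸ Subgroup.center (GL (Fin n) F)))
    (hG : ((Matrix.SpecialLinearGroup.toGL :
      Matrix.SpecialLinearGroup (Fin n) F →* GL (Fin n) F).range).map
      (QuotientGroup.mk' (Subgroup.center (GL (Fin n) F))) ≤ G) :
    ¬ ∃ 𝓐 : Finset (Subgroup G), ((∀ A ∈ 𝓐, A ≠ ⊤) ∧ (∀ g : G, ∃ A ∈ 𝓐, g ∈ A)) ∧
      (∀ 𝓑 : Finset (Subgroup G), (∀ A ∈ 𝓑, A ≠ ⊤) ∧ (∀ g : G, ∃ A ∈ 𝓑, g ∈ A) →
        𝓐.card ≤ 𝓑.card) ∧ (∀ A ∈ 𝓐, Group.IsNilpotent ↥A) := by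
  rcases hn with hn | ⟨rfl, hq⟩
  · exact no_cover_ge_three hn G hG
  · exact no_cover_two hq G hG

end Cfsg.Agent.Lib.Helper18
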