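import Mathlib
import Cfsg.Agent.Lib.Helper18.SLCard2
import Cfsg.Agent.Lib.Helper18.SL2b

namespace Cfsg.Agent.Lib.Helper18

open Matrix

theorem mulEquiv_alternating_of_injective {G α : Type*} [Group G] [Finite α]
    (f : G →* Equiv.Perm α) (hf : Function.Injective f) (n : ℕ) (hα : Nat.card α = n)
    (hG : 2 * Nat.card G = n.factorial) : Nonempty (G ≃* alternatingGroup (Fin n)) := by
  classical
  have : Fintype α := Fintype.ofFinite α
  have hcard : Nat.card f.range = Nat.card G :=
    Nat.card_congr (MonoidHom.ofInjective hf).symm.toEquiv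
  have hperm : Nat.card (Equiv.Perm α) = n.factorial := by
    rw [Nat.card_eq_fintype_card, Fintype.card_perm, ← Nat.card_eq_fintype_card, hα]
  have hidx : f.range.index = 2 := by
    have h1 := Subgroup.card_mul_index f.range
    rw [hcard, hperm, ← hG, mul_comm] at h1
    have hpos : 0 < Nat.card G := by
      rcases Nat.eq_zero_or_pos (Nat.card G) with h | h
      · rw [h] at hG; simp at hG; exact absurd hG.symm (Nat.factorial_ne_zero n)
      · exact h
    exact Nat.eq_of_mul_eq_mul_right hpos h1
  have h2 := Equiv.Perm.eq_alternatingGroup_of_index_eq_two hidx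
  have hα' : Fintype.card α = n := by rw [← Nat.card_eq_fintype_card, hα]
  exact ⟨(MonoidHom.ofInjective hf).trans ((MulEquiv.subgroupCongr h2).trans
    (Equiv.altCongrHom (Fintype.equivFinOfCardEq hα')))⟩

theorem mulEquiv_perm_of_injective {G α : Type*} [Group G] [Finite α]
    (f : G →* Equiv.Perm α) (hf : Function.Injective f) (n : ℕ) (hα : Nat.card α = n)
    (hG : Nat.card G = n.factorial) : Nonempty (G ≃* Equiv.Perm (Fin n)) := by
  classical
  have : Fintype α := Fintype.ofFinite α
  have hperm : Nat.card (Equiv.Perm α) = n.factorial := by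
    rw [Nat.card_eq_fintype_card, Fintype.card_perm, ← Nat.card_eq_fintype_card, hα]
  have hbij : Function.Bijective f := by
    rw [Nat.bijective_iff_injective_and_card]
    exact ⟨hf, by rw [hG, hperm]⟩
  have hα' : Fintype.card α = n := by rw [← Nat.card_eq_fintype_card, hα]
  exact ⟨(MulEquiv.ofBijective f hbij).trans (Fintype.equivFinOfCardEq hα').permCongrHom⟩

open scoped LinearAlgebra.Projectivization

theorem card_proj_line {F : Type*} [Field F] [Fintype F] :
    Nat.card (ℙ F (Fin 2 → F)) = Fintype.card F + 1 := by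
  rw [Projectivization.card_of_finrank_two F (Fin 2 → F) (by simp), Nat.card_eq_fintype_card]

theorem card_PSL2 {F : Type*} [Field F] [Fintype F] :
    Nat.gcd 2 (Fintype.card F - 1) * Nat.card (Matrix.ProjectiveSpecialLinearGroup (Fin 2) F) =
      Fintype.card F * ((Fintype.card F + 1) * (Fintype.card F - 1)) := by
  rw [← card_SL2, card_SL_eq_center_mul_PSL 2 (by norm_num)]

end Cfsg.Agent.Lib.Helper18
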