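import Mathlib
import Cfsg.Agent.Lib.Helper18.PermEmb

namespace Cfsg.Agent.Lib.Helper18

/-- A simple group acts faithfully on the cosets of a proper subgroup. -/
theorem toPermHom_injective_of_simple {G : Type*} [Group G] [IsSimpleGroup G] (H : Subgroup G)
    (hH : H ≠ ⊤) : Function.Injective (MulAction.toPermHom G (G ⧸ H)) := by
  rw [← MonoidHom.ker_eq_bot_iff]
  rcases (MulAction.toPermHom G (G ⧸ H)).normal_ker.eq_bot_or_eq_top with h | h
  · exact h
  · exfalso
    apply hH
    rw [eq_top_iff]
    intro g _
    have hg : g ∈ (MulAction.toPermHom G (G ⧸ H)).ker := by rw [h]; trivial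
    rw [MonoidHom.mem_ker] at hg
    have h1 := congrArg (fun σ : Equiv.Perm (G ⧸ H) => σ (QuotientGroup.mk 1)) hg
    simp only [MulAction.toPermHom_apply, MulAction.toPerm_apply, Equiv.Perm.coe_one, id_eq] at h1
    rw [MulAction.Quotient.smul_mk, QuotientGroup.eq] at h1
    simpa using h1

/-- order of a finite simple group divides `k!` for `k` the index of a proper subgroup. -/
theorem card_dvd_factorial_index_of_simple {G : Type*} [Group G] [Finite G] [IsSimpleGroup G]
    (H : Subgroup G) (hH : H ≠ ⊤) : Nat.card G ∣ (H.index).factorial := by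
  classical
  have hinj := toPermHom_injective_of_simple H hH
  have : Fintype (G ⧸ H) := Fintype.ofFinite _
  have h1 : Nat.card (Equiv.Perm (G ⧸ H)) = (H.index).factorial := by
    rw [Nat.card_eq_fintype_card, Fintype.card_perm, ← Nat.card_eq_fintype_card]; rfl
  rw [← h1]
  exact Subgroup.card_dvd_of_injective _ hinj

theorem simple60 {G : Type*} [Group G] [Finite G] [IsSimpleGroup G]
    (h : Nat.card G = 60) : Nonempty (G ≃* alternatingGroup (Fin 5)) := by
  have : Fact (Nat.Prime 2) := ⟨Nat.prime_two⟩
  obtain ⟨P⟩ : Nonempty (Sylow 2 G) := inferInstance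
  have hP : Nat.card P = 2 ^ 2 := sylow_card_of_card_eq (m := 15) (by rw [h]; norm_num) (by norm_num) P
  set N := Subgroup.normalizer ((P : Subgroup G) : Set G) with hN
  have hPN : (P : Subgroup G) ≤ N := Subgroup.le_normalizer
  have h4 : 4 ∣ Nat.card N := by
    have := Subgroup.card_dvd_of_le hPN
    rwa [hP] at this
  have hmul := Subgroup.card_mul_index N
  rw [h] at hmul
  -- it suffices to have index 5
  suffices hidx : N.index = 5 by
    have hne : N ≠ ⊤ := by
      intro ht; rw [ht, Subgroup.index_top] at hidx; omega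
    exact mulEquiv_alternating_of_injective _ (toPermHom_injective_of_simple N hne) 5 hidx
      (by rw [h]; rfl)
  obtain ⟨c, hc⟩ := h4
  have hidx_dvd : N.index ∣ 15 := by
    rw [hc] at hmul
    exact ⟨c, by nlinarith⟩
  have hcases : N.index = 1 ∨ N.index = 3 ∨ N.index = 5 ∨ N.index = 15 := by
    have hmem : N.index ∈ Nat.divisors 15 := Nat.mem_divisors.mpr ⟨hidx_dvd, by norm_num⟩
    have : Nat.divisors 15 = {1, 3, 5, 15} := by decide
    rw [this] at hmem
    simpa using hmem
  rcases hcases with h1 | h3 | h5 | h15
  · -- P normal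
    exfalso
    have hNtop : N = ⊤ := Subgroup.index_eq_one.mp h1
    have hnorm : (P : Subgroup G).Normal := Subgroup.normalizer_eq_top_iff.mp hNtop
    rcases hnorm.eq_bot_or_eq_top with hb | ht
    · rw [hb] at hP; simp at hP
    · rw [ht, Subgroup.card_top, h] at hP; omega
  · exfalso
    have hne : N ≠ ⊤ := by
      intro ht; rw [ht, Subgroup.index_top] at h3; omega
    have := card_dvd_factorial_index_of_simple N hne
    rw [h, h3] at this
    revert this; decide
  · exact h5
  · exfalso
    have hcardN : Nat.card N = 4 := by rw [h15] at hmul; omega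
    have hNP : (P : Subgroup G) = N := Subgroup.eq_of_le_of_card_ge hPN (by rw [hcardN, hP]; norm_num)
    have hcomm : IsMulCommutative (P : Subgroup G) := IsPGroup.isMulCommutative_of_card_eq_prime_sq hP
    have hcent : Subgroup.normalizer ((P : Subgroup G) : Set G) ≤ Subgroup.centralizer (P : Set G) := by
      rw [← hN, ← hNP]
      exact Subgroup.le_centralizer_iff_isMulCommutative.mpr hcomm
    have hcompl := MonoidHom.ker_transferSylow_isComplement' P hcent
    have hcardK := hcompl.card_mul_card
    rw [hP, h] at hcardK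
    rcases (MonoidHom.transferSylow P hcent).normal_ker.eq_bot_or_eq_top with hb | ht
    · rw [hb] at hcardK; simp at hcardK
    · rw [ht, Subgroup.card_top, h] at hcardK; omega

end Cfsg.Agent.Lib.Helper18
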